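import Cfsg.Agent.Mrg.Omega.IId.SymWrD.FOneAll
import Cfsg.Agent.Mrg.Omega.IId.Triangle
import Cfsg.Agent.MinSimple.Geo
import Cfsg.Agent.Mrg.Omega.IId.SymWrD.Mod

section


/-!
# II.d, `SwBig` and `SwCv`, T-T, `D = C_V(O²(P))` arbitrary: the frame for "II.0h1 over `T = C_S(n)`"

Copy of `SymWr/Ht/Fr.lean` (helper916) for 573's `SitD S P V D M` (`V_P = V × D`; `D = ⊥` : `SwBig`).

`Fr S P V D M` : `SitD` + characteristic 2 type + (H1) `O₂(C_G(n)) ≤ P` acts inside `⟨(p q)⟩` for all duads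
`n = pr M p q` + a T-T partner (`Fr.of_sitD` : from `SitD` + characteristic 2 type + the partner).
* `DD S M` : `{d ∈ Ω₁Z(O₂(P)) : d` commutes with the elements of `P` preserving the summands`}`;
* `Fr.V_le` : `V ≤ O₂(C_G(n))`; `Fr.comm_mem` : `[O₂(C_G(n)), V] ≤ ⟨n⟩`; `Fr.V_le_KK` : `V ≤ K_n`
  (`K_n = Triangle.KK n = {g ∈ C_G(n) : [O₂(C_G(n)), g] ≤ ⟨n⟩}`);
* `Fr.perp` : the elements of `V` commuting with `(p q)` lie in `Ω₁Z(O₂(C_G(n)))`;
* `Fr.exists_h` : the partner for EVERY duad; `Fr.exists_w` : `w ∈ K_n`, `w² = 1`, acting as `(p q)`.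
-/

set_option autoImplicit false
set_option linter.unusedSectionVars false

namespace Cfsg.Agent.Omega.IId.SymWrD.Ht

open Subgroup Cfsg Cfsg.Agent.Omega.MinPar Cfsg.Agent.Omega.FFThm
open Cfsg.Agent.ZN (o2 zc)
open Cfsg.Agent.Omega.Half (Amb amb_of_loc)
open Cfsg.Agent.Omega.Half.SymA (Pt E Mv pm)
open Cfsg.Agent.Omega.IId.Triangle (KK mem_KK KK_conj KK_le_o2)
open Cfsg.Agent.MinSimple.VModule (le_normalizer_o2 o2_isPGroup o2_le mem_zc)
open Cfsg.Agent.MinSimple.Geo (mem_o2_of_stab)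

universe u

variable {G : Type u} [Group G] {k m : ℕ}

/-- the elements of `Ω₁Z(O₂(P))` commuting with all elements of `P` which preserve the summands -/
def DD {T : Subgroup G} {P V : Subgroup G} (M : SymK T P V ⊥ k m) : Subgroup G :=
  zc (o2 P) ⊓ centralizer {g : G | g ∈ P ∧ ∀ r, (pp M g r).1 = r.1}

theorem mem_DD {T : Subgroup G} {P V : Subgroup G} {M : SymK T P V ⊥ k m} {d : G} :
    d ∈ DD M ↔ d ∈ zc (o2 P) ∧ ∀ g ∈ P, (∀ r, (pp M g r).1 = r.1) → g * d = d * g := by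
  rw [DD, mem_inf, mem_centralizer_iff]
  exact and_congr_right fun _ => ⟨fun h g hg h1 => h g ⟨hg, h1⟩, fun h g hg => h g hg.1 hg.2⟩

/-- The frame. -/
structure Fr (S : Sylow 2 G) (P V D : Subgroup G) (M : SymK (S : Subgroup G) P V ⊥ k m) : Prop
    extends SitD S P V D M where
  char2 : IsCharacteristicTwoType G
  Qle : ∀ {p q : Pt k m}, p.1 = q.1 → p ≠ q → o2 (centralizer ({pr M p q} : Set G)) ≤ P
  Qpp : ∀ {p q : Pt k m}, p.1 = q.1 → p ≠ q → ∀ {g : G}, g ∈ o2 (centralizer ({pr M p q} : Set G)) →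
    pp M g = 1 ∨ pp M g = Equiv.swap p q
  par : ∃ p q : Pt k m, p.1 = q.1 ∧ p ≠ q ∧ ∃ t ∈ centralizer ({pr M p q} : Set G), ∃ v ∈ V, ∃ w ∈ V,
    v * (t * w * t⁻¹) ≠ (t * w * t⁻¹) * v

namespace Fr

variable {S : Sylow 2 G} {P V D : Subgroup G} {M : SymK (S : Subgroup G) P V ⊥ k m} (h : Fr S P V D M)
  {p q : Pt k m}
include h

theorem pr_sq : pr M p q * pr M p q = 1 := h.Vsq (pr_mem M p q)

theorem pr_ne (hpq : p.1 = q.1) (hne : p ≠ q) : pr M p q ≠ 1 := fun e => by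
  have h1 := E_pr_left M hpq hne
  rw [e, Half.SymA.E_one M] at h1
  exact zero_ne_one h1

/-- an element acting trivially or as `(p q)` commutes with the perp of the duad -/
theorem comm_perp_of {g : G} (hgP : g ∈ P) (hg : pp M g = 1 ∨ pp M g = Equiv.swap p q) {v : G} (hv : v ∈ V)
    (hE : E M v p = E M v q) : g * v = v * g := by
  rw [h.comm_iff hgP hv]
  intro r
  rcases hg with e | e
  · rw [e]; rfl
  · rw [e]
    by_cases e1 : r = p
    · rw [e1, Equiv.swap_apply_left, hE]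
    by_cases e2 : r = q
    · rw [e2, Equiv.swap_apply_right, hE]
    · rw [Equiv.swap_apply_of_ne_of_ne e1 e2]

theorem perp_comm (hpq : p.1 = q.1) (hne : p ≠ q) {g : G} (hg : g ∈ o2 (centralizer ({pr M p q} : Set G))) {v : G}
    (hv : v ∈ V) (hE : E M v p = E M v q) : g * v = v * g :=
  h.comm_perp_of (h.Qle hpq hne hg) (h.Qpp hpq hne hg) hv hE

/-- the action of an element inducing `(p q)` -/
theorem conj_swap {g : G} (hgP : g ∈ P) (hpq : p.1 = q.1) (hg : pp M g = Equiv.swap p q) {v : G} (hv : v ∈ V)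
    (hE : E M v p ≠ E M v q) : g * v * g⁻¹ = v * pr M p q := by
  refine Half.SymA.inj M (h.amb.conj_mem hgP hv) (mul_mem hv (pr_mem M _ _)) fun r => ?_
  have hne : p ≠ q := fun e => hE (by rw [e])
  rw [E_conj' hgP hv, Half.SymA.E_mul M hv (pr_mem M _ _), E_pr M hpq, hg, Equiv.swap_inv]
  have key : ∀ x y : ZMod 2, x ≠ y → y = x + 1 := by decide
  by_cases e1 : r = p
  · rw [e1, Equiv.swap_apply_left, if_pos rfl, if_neg hne, add_zero]
    exact key _ _ hE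
  by_cases e2 : r = q
  · rw [e2, Equiv.swap_apply_right, if_pos rfl, if_neg hne.symm, zero_add]
    exact key _ _ hE.symm
  · rw [Equiv.swap_apply_of_ne_of_ne e1 e2, if_neg e1, if_neg e2, add_zero, add_zero]

/-- `[O₂(C_G(n)), V] ≤ ⟨n⟩` -/
theorem comm_mem (hpq : p.1 = q.1) (hne : p ≠ q) {g : G} (hg : g ∈ o2 (centralizer ({pr M p q} : Set G))) {v : G}
    (hv : v ∈ V) : g * v * g⁻¹ = v ∨ g * v * g⁻¹ = v * pr M p q := by
  by_cases hE : E M v p = E M v q
  · left; rw [h.perp_comm hpq hne hg hv hE]; group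
  · rcases h.Qpp hpq hne hg with e | e
    · left
      rw [h.comm_perp_of (p := p) (q := p) (h.Qle hpq hne hg) (Or.inl e) hv rfl]; group
    · right; exact h.conj_swap (h.Qle hpq hne hg) hpq e hv hE

/-- `V ≤ K_n` -/
theorem V_le_KK (hpq : p.1 = q.1) (hne : p ≠ q) : V ≤ KK (pr M p q) := by
  intro v hv
  refine mem_KK.2 ⟨h.Vcomm hv (pr_mem M p q), fun g hg => ?_⟩
  have hvi : ∀ {x : G}, x ∈ V → x⁻¹ = x := fun hx => inv_eq_of_mul_eq_one_left (h.Vsq hx)
  have e : v * g * v⁻¹ * g⁻¹ = v * (g * v * g⁻¹)⁻¹ := by group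
  rw [e]
  rcases h.comm_mem hpq hne hg hv with e1 | e1
  · rw [e1, mul_inv_cancel]; exact one_mem _
  · have e2 : v * (v * pr M p q)⁻¹ = (pr M p q)⁻¹ := by
      rw [h.Vcomm hv (pr_mem M p q)]; group
    rw [e1, e2]; exact inv_mem (mem_zpowers _)

section fin

variable [Finite G]

theorem KK_le (hpq : p.1 = q.1) (hne : p ≠ q) : KK (pr M p q) ≤ o2 (centralizer ({pr M p q} : Set G)) := by
  intro g hg
  have h1 := mem_KK.1 hg
  exact mem_o2_of_stab h.char2 h.pr_sq (h.pr_ne hpq hne) (mem_centralizer_singleton_iff.2 h1.1) h1.2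

/-- `V ≤ O₂(C_G(n))` -/
theorem V_le (hpq : p.1 = q.1) (hne : p ≠ q) : V ≤ o2 (centralizer ({pr M p q} : Set G)) :=
  (h.V_le_KK hpq hne).trans (h.KK_le hpq hne)

/-- the elements of `V` commuting with `(p q)` lie in `Ω₁Z(O₂(C_G(n)))` -/
theorem perp (hpq : p.1 = q.1) (hne : p ≠ q) {v : G} (hv : v ∈ V) (hE : E M v p = E M v q) :
    v ∈ zc (o2 (centralizer ({pr M p q} : Set G))) :=
  mem_zc.2 ⟨h.V_le hpq hne hv, fun g hg => h.perp_comm hpq hne hg hv hE, by rw [pow_two]; exact h.Vsq hv⟩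

/-- the partner for every duad: `t ∈ C_G(n)`, and `t v t⁻¹`, `t⁻¹ v t` act as `(p q)` for `v ∈ V` outside the perp -/
theorem exists_h (hpq : p.1 = q.1) (hne : p ≠ q) : ∃ t ∈ centralizer ({pr M p q} : Set G),
    ∀ v ∈ V, E M v p ≠ E M v q →
      (t * v * t⁻¹ ∈ KK (pr M p q) ∧ pp M (t * v * t⁻¹) = Equiv.swap p q) ∧
      (t⁻¹ * v * t ∈ KK (pr M p q) ∧ pp M (t⁻¹ * v * t) = Equiv.swap p q) := by
  obtain ⟨p', q', hpq', hne', t', ht', v', hv', w', hw', hcc⟩ := h.par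
  obtain ⟨g, hg, hgp⟩ := exists_conj_pr h.toSit hpq' hne' hpq hne
  have hcV : ∀ {x : G}, x ∈ V → g * x * g⁻¹ ∈ V := fun hx => h.amb.conj_mem hg hx
  obtain ⟨t, ht⟩ : ∃ t, t = g * t' * g⁻¹ := ⟨_, rfl⟩
  have htn : t * pr M p q = pr M p q * t := by
    have h1 := mem_centralizer_singleton_iff.1 ht'
    rw [ht, ← hgp]
    calc g * t' * g⁻¹ * (g * pr M p' q' * g⁻¹) = g * (t' * pr M p' q') * g⁻¹ := by group
      _ = g * pr M p' q' * g⁻¹ * (g * t' * g⁻¹) := by rw [h1]; group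
  -- noncommuting elements
  obtain ⟨v, hv, w, hw, hvw⟩ : ∃ v ∈ V, ∃ w ∈ V, v * (t * w * t⁻¹) ≠ (t * w * t⁻¹) * v := by
    refine ⟨g * v' * g⁻¹, hcV hv', g * w' * g⁻¹, hcV hw', fun e => hcc ?_⟩
    rw [ht] at e
    have e1 : g * v' * g⁻¹ * (g * t' * g⁻¹ * (g * w' * g⁻¹) * (g * t' * g⁻¹)⁻¹) =
        g * (v' * (t' * w' * t'⁻¹)) * g⁻¹ := by group
    have e2 : g * t' * g⁻¹ * (g * w' * g⁻¹) * (g * t' * g⁻¹)⁻¹ * (g * v' * g⁻¹) =
        g * (t' * w' * t'⁻¹ * v') * g⁻¹ := by group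
    rw [e1, e2] at e
    exact mul_left_cancel (mul_right_cancel e)
  have hKK : ∀ {s : G}, s * pr M p q = pr M p q * s → ∀ x ∈ V, s * x * s⁻¹ ∈ KK (pr M p q) := by
    intro s hs x hx
    have h1 := KK_conj (h := s) (h.V_le_KK hpq hne hx)
    rwa [show s * pr M p q * s⁻¹ = pr M p q by rw [hs]; group] at h1
  -- the key: `s` with noncommuting elements
  have key : ∀ {s : G}, s * pr M p q = pr M p q * s → ∀ {a b : G}, a ∈ V → b ∈ V →
      a * (s * b * s⁻¹) ≠ (s * b * s⁻¹) * a → ∀ x ∈ V, E M x p ≠ E M x q → pp M (s * x * s⁻¹) = Equiv.swap p q := by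
    intro s hs a b ha hb hab x hx hxE
    have hQ := fun y (hy : y ∈ V) => h.KK_le hpq hne (hKK hs y hy)
    -- the perp of `n` is normalised
    have hperp : ∀ y ∈ V, E M y p = E M y q → pp M (s * y * s⁻¹) = 1 := by
      intro y hy hyE
      rw [h.eq_one_iff (h.Qle hpq hne (hQ y hy)), mem_centralizer_iff]
      intro c hc
      have h2 : s⁻¹ * c * s ∈ o2 (centralizer ({pr M p q} : Set G)) := by
        have h3 : s⁻¹ ∈ centralizer ({pr M p q} : Set G) :=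
          inv_mem (mem_centralizer_singleton_iff.2 hs)
        have := (mem_normalizer_iff.1 (le_normalizer_o2 _ h3) c).1 (h.V_le hpq hne hc)
        rwa [inv_inv] at this
      have h3 := h.perp_comm hpq hne h2 hy hyE
      calc c * (s * y * s⁻¹) = s * (s⁻¹ * c * s * y) * s⁻¹ := by group
        _ = s * (y * (s⁻¹ * c * s)) * s⁻¹ := by rw [h3]
        _ = s * y * s⁻¹ * c := by group
    have hbE : E M b p ≠ E M b q := fun e => by
      have h1 := hperp b hb e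
      rw [h.eq_one_iff (h.Qle hpq hne (hQ b hb)), mem_centralizer_iff] at h1
      exact hab (h1 a ha)
    -- `b x` is in the perp
    have hbx : E M (b * x) p = E M (b * x) q := by
      rw [Half.SymA.E_mul M hb hx, Half.SymA.E_mul M hb hx]
      have k2 : ∀ x y z w : ZMod 2, x ≠ y → z ≠ w → x + z = y + w := by decide
      exact k2 _ _ _ _ hbE hxE
    have h2 := hperp _ (mul_mem hb hx) hbx
    have hb2 : pp M (s * b * s⁻¹) = Equiv.swap p q := by
      refine (h.Qpp hpq hne (hQ b hb)).resolve_left fun e => hab ?_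
      rw [h.eq_one_iff (h.Qle hpq hne (hQ b hb)), mem_centralizer_iff] at e
      exact e a ha
    have e : s * x * s⁻¹ = (s * b * s⁻¹)⁻¹ * (s * (b * x) * s⁻¹) := by group
    rw [e, h.mul (inv_mem (h.Qle hpq hne (hQ b hb))) (h.Qle hpq hne (hQ _ (mul_mem hb hx))),
      h.inv (h.Qle hpq hne (hQ b hb)), h2, hb2, mul_one, Equiv.swap_inv]
  have htn' : t⁻¹ * pr M p q = pr M p q * t⁻¹ := by
    calc t⁻¹ * pr M p q = t⁻¹ * (pr M p q * t) * t⁻¹ := by group
      _ = t⁻¹ * (t * pr M p q) * t⁻¹ := by rw [htn]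
      _ = pr M p q * t⁻¹ := by group
  refine ⟨t, mem_centralizer_singleton_iff.2 htn, fun x hx hxE => ⟨⟨hKK htn x hx, ?_⟩, ?_, ?_⟩⟩
  · exact key htn hv hw hvw x hx hxE
  · have := hKK htn' x hx
    rwa [inv_inv] at this
  · have := key htn' hw hv (fun e => hvw ?_) x hx hxE
    · rwa [inv_inv] at this
    · rw [inv_inv] at e
      calc v * (t * w * t⁻¹) = t * (t⁻¹ * v * t * w) * t⁻¹ := by group
        _ = t * (w * (t⁻¹ * v * t)) * t⁻¹ := by rw [e]
        _ = t * w * t⁻¹ * v := by group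

/-- `w ∈ K_n` of order 2 acting as `(p q)` -/
theorem exists_w (hpq : p.1 = q.1) (hne : p ≠ q) : ∃ w ∈ KK (pr M p q), w * w = 1 ∧ pp M w = Equiv.swap p q := by
  obtain ⟨t, ht, h1⟩ := h.exists_h hpq hne
  obtain ⟨c, hc1, hc2⟩ := Half.SymA.exists_third h.hm1 p.2 q.2
  have hpc : p.1 = ((p.1, c) : Pt k m).1 := rfl
  have hqc : q ≠ (p.1, c) := fun e => hc2 (by rw [e])
  have hpc' : p ≠ (p.1, c) := fun e => hc1 (congrArg Prod.snd e).symm
  have hE : E M (pr M p (p.1, c)) p ≠ E M (pr M p (p.1, c)) q := by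
    rw [E_pr_left M hpc hpc', E_pr_of_ne M hpc hne.symm hqc]
    exact one_ne_zero
  obtain ⟨⟨h2, h3⟩, -⟩ := h1 _ (pr_mem M p (p.1, c)) hE
  refine ⟨_, h2, ?_, h3⟩
  have e : t * pr M p (p.1, c) * t⁻¹ * (t * pr M p (p.1, c) * t⁻¹) =
      t * (pr M p (p.1, c) * pr M p (p.1, c)) * t⁻¹ := by group
  rw [e, h.pr_sq]; group

end fin

end Fr

/-! ### The frame from `SitD` -/

section of

variable [Finite G] {S : Sylow 2 G} {P V D : Subgroup G} {M : SymK (S : Subgroup G) P V ⊥ k m}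

/-- The frame from `SitD`, characteristic 2 type and a partner. -/
theorem Fr.of_sitD (h : SitD S P V D M) (hG : IsCharacteristicTwoType G)
    (par : ∃ p q : Pt k m, p.1 = q.1 ∧ p ≠ q ∧ ∃ t ∈ centralizer ({pr M p q} : Set G), ∃ v ∈ V, ∃ w ∈ V,
      v * (t * w * t⁻¹) ≠ (t * w * t⁻¹) * v) : Fr S P V D M where
  toSitD := h
  char2 := hG
  Qle := fun h1 h2 _ hg => (L_dat h h1 h2 _ hg).1
  Qpp := fun h1 h2 _ hg => (L_dat h h1 h2 _ hg).2
  par := par

end of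

end Cfsg.Agent.Omega.IId.SymWrD.Ht

end

section


/-!
# II.d, `SwCv`, T-T, `D` arbitrary: LEMMA R and (HF) with `D` (bb OMEGA #20414, #21846, #21945)

`SymWrD.Sit S P V M`, `Ω₁Z(O₂(P)) ≤ V ⊔ DD M`. Over the group `S0 h` of `SwB/LemR.lean` (helper770).

* `lemR` : **LEMMA R**: `Y` a 2-group normalised by `S0 h`, `Y ∩ S0 h` trivial on the summands outside `J`, `Y`
  centralises `σ_j`, `j ∈ J` ⟹ `Y ≤ S0 h`; `lemR_a` (`J = ∅`), `lemR_b` (`J = {i}`);
* `HF` : a 2-subgroup `O` which is normalised by all elements of `P` inside the summands is contained in `O₂(P)`;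
  `HF_o2`, `HF_nor`, `HF_cent`.
-/

set_option autoImplicit false

namespace Cfsg.Agent.Omega.IId.SymWrD.Ht.RD

open Cfsg.Agent.Omega.IId.SymWrD
open Cfsg.Agent.Omega.IId.SwB (S0 mem_S0 S0_le S0_fst S0_comm Q_le_S0 exists_in syl_S0 E_sum sg_eq_sum exists_ne_zero
  fix_block)
open Subgroup Pointwise Cfsg Cfsg.Agent.Omega.MinPar Cfsg.Agent.Omega.FFThm
open Cfsg.Agent.ZN (o2 zc)
open Cfsg.Agent.Omega.Half.SymA (Pt E Mv pm Amb0)
open Cfsg.Agent.MinSimple.VModule (mem_zc zc_le zc_comm zc_sq zc_le_zl le_normalizer_o2 o2_isPGroup o2_le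
  normalizer_le_normalizer_zc le_normalizer_zl mem_normalizer_of_map_le)

universe u

variable {G : Type u} [Group G] {P V : Subgroup G} {k m : ℕ} {S : Sylow 2 G} {M : SymK (S : Subgroup G) P V ⊥ k m}

/-- `ZZ = V DD` elementwise -/
theorem zz_dec' (h : Sit S P V M) {z : G} (hz : z ∈ V ⊔ DD M) : ∃ v ∈ V, ∃ c ∈ DD M, z = v * c := by
  have hn : V ≤ normalizer (DD M : Set G) := by
    intro v hv
    rw [mem_normalizer_iff]
    intro c
    have hc : ∀ c ∈ DD M, v * c * v⁻¹ = c := fun c hc => by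
      rw [zc_comm _ _ (h.VZ hv) _ (mem_DD.1 hc).1, mul_inv_cancel_right]
    have hc' : ∀ c ∈ DD M, v⁻¹ * c * v = c := fun c hc => by
      have := zc_comm _ _ (h.VZ hv) _ (mem_DD.1 hc).1
      rw [mul_assoc, ← this, inv_mul_cancel_left]
    refine ⟨fun h1 => by rwa [hc c h1], fun h1 => ?_⟩
    have h2 := hc' _ h1
    have e : v⁻¹ * (v * c * v⁻¹) * v = c := by group
    rw [e] at h2
    rwa [h2]
  obtain ⟨v, hv, c, hc, e⟩ := mem_sup_norm hn hz
  exact ⟨v, hv, c, hc, e.symm⟩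

theorem DD_sq {c : G} (hc : c ∈ DD M) : c * c = 1 := by
  rw [← pow_two]; exact (mem_zc.1 (mem_DD.1 hc).1).2.2

section core

variable [Finite G] (h : Sit S P V M) (zv : zc (o2 P) ≤ V ⊔ DD M) {J : Set (Fin k)} {w : G}
  (hw1 : ∀ s ∈ S0 h, w * s * w⁻¹ ∈ S0 h ∧ ∀ p : Pt k m, p.1 ∉ J → pp M (w * s * w⁻¹) p = pp M s p)
  (hw2 : ∀ s ∈ S0 h, w⁻¹ * s * w ∈ S0 h ∧ ∀ p : Pt k m, p.1 ∉ J → pp M (w⁻¹ * s * w) p = pp M s p)

omit [Finite G] in
include hw2 in
theorem coreK {v : G} (hv : v ∈ V) (hvJ : ∀ p : Pt k m, p.1 ∈ J → E M v p = 0) {s : G} (hs : s ∈ S0 h)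
    (hsJ : ∀ p : Pt k m, p.1 ∉ J → pp M s p = p) : s * (w * v * w⁻¹) = w * v * w⁻¹ * s := by
  obtain ⟨h1, h2⟩ := hw2 s hs
  have h3 : w⁻¹ * s * w * v = v * (w⁻¹ * s * w) := by
    rw [h.comm_iff (h.SP (S0_le h h1)) hv]
    intro p
    by_cases hp : p.1 ∈ J
    · rw [hvJ p hp, hvJ _ (by rw [S0_fst h h1]; exact hp)]
    · rw [h2 p hp, hsJ p hp]
  calc s * (w * v * w⁻¹) = w * (w⁻¹ * s * w * v) * w⁻¹ := by group
    _ = w * (v * (w⁻¹ * s * w)) * w⁻¹ := by rw [h3]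
    _ = w * v * w⁻¹ * s := by group

omit [Finite G] in
include zv hw2 in
theorem coreV {v : G} (hv : v ∈ V) (hvJ : ∀ p : Pt k m, p.1 ∈ J → E M v p = 0) :
    ∃ u ∈ V, ∃ c ∈ DD M, w * v * w⁻¹ = u * c := by
  have h1 : ∀ g ∈ o2 P, g * (w * v * w⁻¹) = w * v * w⁻¹ * g := fun g hg =>
    coreK h hw2 hv hvJ (Q_le_S0 h hg) fun p _ => by rw [(h.mem_Q_iff (h.QS hg)).1 hg]; rfl
  refine zz_dec' h (zv (mem_zc.2 ⟨h.cQ (mem_centralizer_iff.2 h1), h1, ?_⟩))
  rw [pow_two]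
  calc w * v * w⁻¹ * (w * v * w⁻¹) = w * (v * v) * w⁻¹ := by group
    _ = 1 := by rw [h.Vsq hv]; group

omit [Finite G] in
/-- `S0` centralises `DD` -/
theorem S0_DD {s c : G} (hs : s ∈ S0 h) (hc : c ∈ DD M) : s * c = c * s :=
  (mem_DD.1 hc).2 s (h.SP (S0_le h hs)) (S0_fst h hs)

include hw2 in
theorem coreJ {v u c : G} (hv : v ∈ V) (hvJ : ∀ p : Pt k m, p.1 ∈ J → E M v p = 0) (hu : u ∈ V) (hc : c ∈ DD M)
    (e : w * v * w⁻¹ = u * c) {p q : Pt k m} (hp : p.1 ∈ J)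
    (hpq : p.1 = q.1) (h0 : p.2 = 0 ↔ q.2 = 0) : E M u p = E M u q := by
  by_cases hp0 : p.2 = 0
  · rw [show p = q from Prod.ext hpq (hp0.trans (h0.1 hp0).symm)]
  · obtain ⟨s, hs, h1, h2⟩ := exists_in h hpq hp0 fun h3 => hp0 (h0.2 h3)
    have h3 := coreK h hw2 hv hvJ hs fun r hr => h2 r fun h4 => hr (h4 ▸ hp)
    rw [e] at h3
    have h4 : s * u = u * s := by
      have h5 := S0_DD h hs hc
      have h6 : s * u * c = u * s * c := by
        rw [mul_assoc s u c, h3, mul_assoc u c s, ← h5, mul_assoc]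
      exact mul_right_cancel h6
    rw [← h1]
    exact ((h.comm_iff (h.SP (S0_le h hs)) hu).1 h4 p).symm

include zv hw1 hw2 in
/-- the conjugate of a duad of the summand `l` is supported in the summand `l` -/
theorem coreD {l : Fin k} (hl : l ∉ J) {x y : Fin (2 ^ m + 1)} (hx : x ≠ 0) (hy : y ≠ 0) :
    w * pr M (l, x) (l, y) * w⁻¹ ∈ V ∧ ∀ p : Pt k m, p.1 ≠ l → E M (w * pr M (l, x) (l, y) * w⁻¹) p = 0 := by
  have hsup : ∀ x y : Fin (2 ^ m + 1), ∀ p : Pt k m, p.1 ∈ J → E M (pr M (l, x) (l, y)) p = 0 := by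
    intro x y p hp
    have h1 : p.1 ≠ l := fun h2 => hl (h2 ▸ hp)
    exact E_pr_of_ne M (show ((l, x) : Pt k m).1 = ((l, y) : Pt k m).1 from rfl) (fun h2 => h1 (congrArg Prod.fst h2))
      fun h2 => h1 (congrArg Prod.fst h2)
  obtain ⟨s, hs, h1, h2⟩ := exists_in h (p := (l, x)) (q := (l, y)) rfl hx hy
  have h3 : pp M s (l, 0) = (l, 0) :=
    Prod.ext (S0_fst h hs (l, 0)) ((h.snd (S0_le h hs)).2 rfl)
  set v := pr M (l, x) (l, 0) with hv
  have h4 : s * v * s⁻¹ = pr M (l, 0) (l, y) := by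
    rw [hv, h.conj_pr (h.SP (S0_le h hs)) (show ((l, x) : Pt k m).1 = ((l, 0) : Pt k m).1 from rfl), h1, h3,
      pr_comm M (show ((l, y) : Pt k m).1 = ((l, 0) : Pt k m).1 from rfl)]
  have h5 : pr M (l, x) (l, y) = v * (s * v * s⁻¹) := by
    rw [h4, hv, pr_mul M (show ((l, x) : Pt k m).1 = ((l, 0) : Pt k m).1 from rfl)
      (show ((l, 0) : Pt k m).1 = ((l, y) : Pt k m).1 from rfl)]
  obtain ⟨h6, h7⟩ := hw1 s hs
  set t := w * s * w⁻¹ with ht
  obtain ⟨u, hu, c, hc, e⟩ := coreV h zv hw2 (v := v) (pr_mem M _ _) (hsup x 0)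
  have htP := h.SP (S0_le h h6)
  have htu : t * u * t⁻¹ ∈ V := h.amb.conj_mem htP hu
  have h8 : w * pr M (l, x) (l, y) * w⁻¹ = u * (t * u * t⁻¹) := by
    have e1 : w * pr M (l, x) (l, y) * w⁻¹ = w * v * w⁻¹ * (t * (w * v * w⁻¹) * t⁻¹) := by
      rw [h5, ht]; group
    have htc : t * c = c * t := S0_DD h h6 hc
    have huc : c * (t * u * t⁻¹) = t * u * t⁻¹ * c := zc_comm _ _ (mem_DD.1 hc).1 _ (h.VZ htu)
    rw [e1, e]
    calc u * c * (t * (u * c) * t⁻¹) = u * c * (t * u * (c * t⁻¹)) := by group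
      _ = u * c * (t * u * (t⁻¹ * c)) := by
          rw [show c * t⁻¹ = t⁻¹ * c from by
            rw [eq_inv_mul_iff_mul_eq, ← mul_assoc, htc, mul_inv_cancel_right]]
      _ = u * (c * (t * u * t⁻¹)) * c := by group
      _ = u * (t * u * t⁻¹) * (c * c) := by rw [huc]; group
      _ = u * (t * u * t⁻¹) := by rw [DD_sq hc, mul_one]
  rw [h8]
  refine ⟨mul_mem hu htu, fun p hp => ?_⟩
  rw [Half.SymA.E_mul M hu htu, E_conj' htP hu]
  set r := (pp M t)⁻¹ p with hr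
  have h9 : pp M t r = p := (pp M t).apply_symm_apply p
  have h10 : r.1 = p.1 := by rw [← S0_fst h h6 r, h9]
  have h11 : E M u p = E M u r := by
    by_cases hpJ : p.1 ∈ J
    · refine coreJ h hw2 (pr_mem M _ _) (hsup x 0) hu hc e hpJ h10.symm ?_
      rw [← h9, h.snd (S0_le h h6)]
    · have h12 : pp M t r = r := by
        rw [h7 r (by rw [h10]; exact hpJ), h2 r (by rw [h10]; exact hp)]
      rw [← h9, h12]
  rw [h11]
  exact CharTwo.add_self_eq_zero _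

include zv hw1 hw2 in
/-- `w` centralises `σ_l`, `l ∉ J` -/
theorem core {l : Fin k} (hl : l ∉ J) : w * (sg h l).val = (sg h l).val * w := by
  let W : AddSubgroup (ZM P) :=
    { carrier := {v | v.val ∈ V ∧ w * v.val * w⁻¹ ∈ V ∧ ∀ p : Pt k m, p.1 ≠ l → E M (w * v.val * w⁻¹) p = 0}
      zero_mem' := ⟨one_mem V, by
        rw [ZM.val_zero, mul_one, mul_inv_cancel]
        exact one_mem V, fun p _ => by
        rw [ZM.val_zero, mul_one, mul_inv_cancel]
        exact Half.SymA.E_one M p⟩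
      add_mem' := by
        rintro a b ⟨ha, ha1, ha2⟩ ⟨hb, hb1, hb2⟩
        have e : w * (a + b).val * w⁻¹ = w * a.val * w⁻¹ * (w * b.val * w⁻¹) := by rw [ZM.val_add]; group
        refine ⟨mul_mem ha hb, ?_, fun p hp => ?_⟩
        · rw [e]; exact mul_mem ha1 hb1
        · rw [e, Half.SymA.E_mul M ha1 hb1, ha2 p hp, hb2 p hp, add_zero]
      neg_mem' := by
        rintro a ⟨ha, ha1, ha2⟩
        have e : w * (-a).val * w⁻¹ = (w * a.val * w⁻¹)⁻¹ := by rw [ZM.val_neg]; group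
        refine ⟨inv_mem ha, ?_, fun p hp => ?_⟩
        · rw [e]; exact inv_mem ha1
        · rw [e, Half.SymA.E_inv M ha1, ha2 p hp] }
  obtain ⟨x₀, hx₀⟩ := exists_ne_zero h.hm1
  have h1 : sg h l ∈ W := by
    rw [sg_eq_sum h l x₀]
    refine AddSubgroup.sum_mem _ fun x hx => ?_
    obtain ⟨h2, h3⟩ := coreD h zv hw1 hw2 hl (Finset.mem_filter.1 hx).2 hx₀
    exact ⟨pr_mem M _ _, h2, h3⟩
  obtain ⟨-, h2, h3⟩ := h1
  set u := w * (sg h l).val * w⁻¹ with hu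
  -- `u` is fixed by `S0`
  have h4 : ∀ s ∈ S0 h, s * u = u * s := by
    intro s hs
    have h5 := S0_comm h (hw2 s hs).1 l
    calc s * u = w * (w⁻¹ * s * w * (sg h l).val) * w⁻¹ := by rw [hu]; group
      _ = w * ((sg h l).val * (w⁻¹ * s * w)) * w⁻¹ := by rw [h5]
      _ = u * s := by rw [hu]; group
  have h5 : ∀ x y : Fin (2 ^ m + 1), x ≠ 0 → y ≠ 0 → E M u (l, x) = E M u (l, y) := by
    intro x y hx hy
    obtain ⟨s, hs, h6, -⟩ := exists_in h (p := (l, x)) (q := (l, y)) rfl hx hy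
    rw [← h6]
    exact ((h.comm_iff (h.SP (S0_le h hs)) h2).1 (h4 s hs) _).symm
  have h6 : E M u (l, 0) = 0 :=
    Half.SymA.even0 M h.hm1 h2 (i := l) (c := E M u (l, x₀)) fun x hx => h5 x x₀ hx hx₀
  have h7 : u = (sg h l).val := by
    refine Half.SymA.inj M h2 (sg_mem h l) fun p => ?_
    rw [E_sg]
    by_cases hp : p.1 = l
    · rw [if_pos hp]
      by_cases hp0 : p.2 = 0
      · rw [if_pos hp0, show p = (l, 0) from Prod.ext hp hp0]; exact h6
      · rw [if_neg hp0]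
        rcases Half.SymA.zmod2 (E M u (l, x₀)) with h8 | h8
        · exfalso
          have h9 : u = 1 := by
            refine Half.SymA.inj M h2 (one_mem V) fun q => ?_
            rw [Half.SymA.E_one]
            by_cases hq : q.1 = l
            · by_cases hq0 : q.2 = 0
              · rw [show q = (l, 0) from Prod.ext hq hq0]; exact h6
              · rw [show q = (l, q.2) from Prod.ext hq rfl, h5 _ _ hq0 hx₀]; exact h8
            · exact h3 q hq
          have h10 : (sg h l).val = 1 := by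
            rw [hu] at h9
            have h11 : (sg h l).val = w⁻¹ * (w * (sg h l).val * w⁻¹) * w := by group
            rw [h11, h9]; group
          have h11 := E_sg h l (l, x₀)
          rw [h10, Half.SymA.E_one, if_pos rfl, if_neg hx₀] at h11
          exact zero_ne_one h11
        · rw [show p = (l, p.2) from Prod.ext hp rfl, h5 _ _ hp0 hx₀]; exact h8
    · rw [if_neg hp]; exact h3 p hp
  rw [hu] at h7
  rw [← mul_inv_eq_iff_eq_mul]
  exact h7

end core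

/-- **LEMMA R** with `D`. -/
theorem lemR [Finite G] (h : Sit S P V M) (zv : zc (o2 P) ≤ V ⊔ DD M) (J : Set (Fin k)) {Y : Subgroup G}
    (hY : IsPGroup 2 Y) (hn : S0 h ≤ normalizer (Y : Set G))
    (h1 : ∀ y ∈ Y, y ∈ S0 h → ∀ p : Pt k m, p.1 ∉ J → pp M y p = p)
    (h2 : ∀ j ∈ J, ∀ y ∈ Y, y * (sg h j).val = (sg h j).val * y) : Y ≤ S0 h := by
  have : Fact (Nat.Prime 2) := ⟨Nat.prime_two⟩
  have hS02 : IsPGroup 2 (S0 h) := S.isPGroup'.to_le (S0_le h)
  have hX : IsPGroup 2 (S0 h ⊔ Y : Subgroup G) := hS02.to_sup_of_normal_right' hY hn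
  by_contra hcon
  have hlt : S0 h < S0 h ⊔ Y := by
    refine lt_of_le_of_ne le_sup_left fun h3 => hcon ?_
    rw [h3]
    exact le_sup_right
  obtain ⟨x, hx, hx1, hx2⟩ := Involutions.BaerSuzuki.exists_mem_normalizer_of_lt hX hlt
  obtain ⟨s₀, hs₀, w, hw, rfl⟩ := mem_sup_norm hn hx
  have hwn : w ∈ normalizer (S0 h : Set G) := by
    have h3 : w = s₀⁻¹ * (s₀ * w) := by group
    rw [h3]
    exact mul_mem (inv_mem (le_normalizer hs₀)) hx2
  have hwS : w ∉ S0 h := fun h3 => hx1 (mul_mem hs₀ h3)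
  have key : ∀ y ∈ Y, y ∈ normalizer (S0 h : Set G) → ∀ s ∈ S0 h,
      y * s * y⁻¹ ∈ S0 h ∧ ∀ p : Pt k m, p.1 ∉ J → pp M (y * s * y⁻¹) p = pp M s p := by
    intro y hy hyn s hs
    have h3 : y * s * y⁻¹ ∈ S0 h := (mem_normalizer_iff.1 hyn s).1 hs
    refine ⟨h3, fun p hp => ?_⟩
    have h4 : y * s * y⁻¹ * s⁻¹ ∈ S0 h := mul_mem h3 (inv_mem hs)
    have h5 : y * s * y⁻¹ * s⁻¹ ∈ Y := by
      have h6 : s * y⁻¹ * s⁻¹ ∈ Y := (mem_normalizer_iff.1 (hn hs) _).1 (inv_mem hy)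
      have h7 : y * s * y⁻¹ * s⁻¹ = y * (s * y⁻¹ * s⁻¹) := by group
      rw [h7]
      exact mul_mem hy h6
    have h6 : y * s * y⁻¹ = y * s * y⁻¹ * s⁻¹ * s := by group
    rw [h6, h.mul (h.SP (S0_le h h4)) (h.SP (S0_le h hs)), Equiv.Perm.mul_apply]
    exact h1 _ h5 h4 _ (by rw [S0_fst h hs]; exact hp)
  have hwc : ∀ l, w * (sg h l).val = (sg h l).val * w := by
    intro l
    by_cases hl : l ∈ J
    · exact h2 l hl w hw
    · refine core h zv (key w hw hwn) (fun s hs => ?_) hl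
      have h3 := key w⁻¹ (inv_mem hw) (inv_mem hwn) s hs
      rwa [inv_inv] at h3
  apply hwS
  have hX' : IsPGroup 2 (S0 h ⊔ zpowers w : Subgroup G) :=
    hX.to_le (sup_le_sup_left (zpowers_le.2 hw) _)
  refine syl_S0 h hX' ?_ le_sup_left (mem_sup_right (mem_zpowers w))
  intro x hx l
  have h3 : S0 h ⊔ zpowers w ≤ centralizer ({(sg h l).val} : Set G) := by
    refine sup_le (fun s hs => ?_) (zpowers_le.2 ?_)
    · rw [mem_centralizer_singleton_iff]; exact S0_comm h hs l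
    · rw [mem_centralizer_singleton_iff]; exact hwc l
  exact mem_centralizer_singleton_iff.1 (h3 hx)

/-- LEMMA R (a): `Y ∩ S⁰` trivial on `V`. -/
theorem lemR_a [Finite G] (h : Sit S P V M) (zv : zc (o2 P) ≤ V ⊔ DD M) {Y : Subgroup G} (hY : IsPGroup 2 Y)
    (hn : S0 h ≤ normalizer (Y : Set G)) (h1 : ∀ y ∈ Y, y ∈ S0 h → y ∈ o2 P) : Y ≤ S0 h :=
  lemR h zv ∅ hY hn (fun y hy hy0 p _ => by
    rw [(h.mem_Q_iff (S0_le h hy0)).1 (h1 y hy hy0)]
    rfl) fun j hj => absurd hj (Set.notMem_empty j)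

/-- LEMMA R (b): `Y ∩ S⁰` trivial on the summands `≠ i`, `Y` centralises `σ_i`. -/
theorem lemR_b [Finite G] (h : Sit S P V M) (zv : zc (o2 P) ≤ V ⊔ DD M) (i : Fin k) {Y : Subgroup G}
    (hY : IsPGroup 2 Y) (hn : S0 h ≤ normalizer (Y : Set G))
    (h1 : ∀ y ∈ Y, y ∈ S0 h → ∀ p : Pt k m, p.1 ≠ i → pp M y p = p)
    (h2 : ∀ y ∈ Y, y * (sg h i).val = (sg h i).val * y) : Y ≤ S0 h :=
  lemR h zv {i} hY hn (fun y hy hy0 p hp => h1 y hy hy0 p hp) fun j hj y hy => by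
    rw [Set.mem_singleton_iff.1 hj]
    exact h2 y hy

/-! ### (HF) -/

/-- **(HF)** with `D`: a 2-subgroup normalised by all elements of `P` inside the summands is in `O₂(P)`. -/
theorem HF [Finite G] (h : Sit S P V M) (zv : zc (o2 P) ≤ V ⊔ DD M) {O : Subgroup G} (hO : IsPGroup 2 O)
    (hn : ∀ g ∈ P, (∀ p : Pt k m, (pp M g p).1 = p.1) → g ∈ normalizer (O : Set G)) : O ≤ o2 P := by
  have h1 : ∀ y ∈ O, y ∈ S0 h → y ∈ o2 P := by
    intro y hy hy0
    have hyP := h.SP (S0_le h hy0)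
    rw [h.mem_Q_iff (S0_le h hy0)]
    ext1 p
    refine fix_block h hO p.1 (fun g hg hg1 => hn g hg fun r => ?_) hy hyP (S0_fst h hy0 _) rfl
    by_cases hr : r.1 = p.1
    · by_contra h2
      have h3 : (pp M g r).1 ≠ p.1 := by rw [← hr]; exact h2
      have h4 := hg1 _ h3
      exact h2 (congrArg Prod.fst ((pp M g).injective h4))
    · rw [hg1 r hr]
  have h2 : O ≤ S0 h := lemR_a h zv hO (fun s hs => hn s (h.SP (S0_le h hs)) (S0_fst h hs)) h1
  exact fun y hy => h1 y hy (h2 hy)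

/-- (HF) for `O₂(M₀)`. -/
theorem HF_o2 [Finite G] (h : Sit S P V M) (zv : zc (o2 P) ≤ V ⊔ DD M) {M₀ : Subgroup G}
    (hM : ∀ g ∈ P, (∀ p : Pt k m, (pp M g p).1 = p.1) → g ∈ M₀)
    (hc : M₀ ⊓ centralizer (o2 M₀ : Set G) ≤ o2 M₀) : o2 M₀ ≤ o2 P ∧ zc (o2 P) ≤ zc (o2 M₀) := by
  have h1 : o2 M₀ ≤ o2 P := HF h zv (o2_isPGroup M₀) fun g hg hg1 => le_normalizer_o2 M₀ (hM g hg hg1)
  have h2 : ∀ v ∈ zc (o2 P), ∀ g ∈ o2 M₀, g * v = v * g := fun v hv g hg =>
    (mem_zc.1 hv).2.1 g (h1 hg)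
  have hQ0 : ∀ v ∈ o2 P, v ∈ M₀ := fun v hv => hM v (o2_le P hv) fun p => by
    rw [(h.mem_Q_iff (h.QS hv)).1 hv]; rfl
  refine ⟨h1, fun v hv => mem_zc.2 ⟨hc ⟨hQ0 v (zc_le _ hv), mem_centralizer_iff.2 (h2 v hv)⟩, h2 v hv,
    (mem_zc.1 hv).2.2⟩⟩

/-- (HF) for a 2-local subgroup. -/
theorem HF_nor [Finite G] (hG : IsCharacteristicTwoType G) (h : Sit S P V M) (zv : zc (o2 P) ≤ V ⊔ DD M)
    {B : Subgroup G} (hB : IsPGroup 2 B) (hB1 : B ≠ ⊥)
    (hM : ∀ g ∈ P, (∀ p : Pt k m, (pp M g p).1 = p.1) → g ∈ normalizer (B : Set G)) :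
    o2 (normalizer (B : Set G)) ≤ o2 P ∧ zc (o2 P) ≤ zc (o2 (normalizer (B : Set G))) :=
  HF_o2 h zv hM (MinSimple.Basic.char2_normalizer hG hB hB1)

/-- the centraliser of an involution has characteristic 2 -/
theorem char2_cent [Finite G] (hG : IsCharacteristicTwoType G) {e : G} (hee : e * e = 1) (he : e ≠ 1) :
    centralizer ({e} : Set G) ⊓ centralizer (o2 (centralizer ({e} : Set G)) : Set G) ≤
      o2 (centralizer ({e} : Set G)) := by
  have h2 : e ^ 2 = 1 := by rw [pow_two]; exact hee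
  have h1 := MinSimple.Basic.char2_normalizer hG (U := zpowers e)
    (IsPGroup.iff_card.2 ⟨1, by
      rw [Nat.card_zpowers]; exact (orderOf_eq_prime h2 he).trans (pow_one 2).symm⟩)
    (fun h0 => he (zpowers_eq_bot.1 h0))
  rwa [MinSimple.Basic.normalizer_zpowers_eq h2] at h1

/-- (HF) for `C_G(d)`, `d ∈ DD M`, `d ≠ 1`. -/
theorem HF_cent [Finite G] (hG : IsCharacteristicTwoType G) (h : Sit S P V M) (zv : zc (o2 P) ≤ V ⊔ DD M)
    {d : G} (hd : d ∈ DD M) (hd1 : d ≠ 1) :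
    o2 (centralizer ({d} : Set G)) ≤ o2 P ∧ zc (o2 P) ≤ zc (o2 (centralizer ({d} : Set G))) :=
  HF_o2 h zv (fun g hg hg1 => mem_centralizer_singleton_iff.2 ((mem_DD.1 hd).2 g hg hg1))
    (char2_cent hG (DD_sq hd) hd1)

end Cfsg.Agent.Omega.IId.SymWrD.Ht.RD

end

section


/-!
# II.d, `SwCv`, T-T, `D` arbitrary: `O₂(C_G(σ_i d)) ≤ O₂(P)`, `3 ≤ m` (bb OMEGA #21846 (g), #21945)

`SymWrD.Sit S P V M`, `Ω₁Z(O₂(P)) ≤ V ⊔ DD M`, `K` a subgroup normalising the 2-group `O` and containing the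
elements of `P` inside the summands which commute with `σ`.

* `tri`, `tri'` : an element of `O ∩ P` does not map a duad commuting with `σ` to a duad meeting it in one point;
* `act_out`, `act_one`, `act_three` : the action of `O ∩ S0`;
* `o2_le_Q` : `O₂(C_G(σ_i d)) ≤ O₂(P)`, `Ω₁Z(O₂(P)) ≤ Ω₁Z(O₂(C_G(σ_i d)))`, `d ∈ DD M`, `3 ≤ m`;
* `esigD` : `⟨Ω₁Z(O₂(P)) ^ C_G(σ_i d)⟩` is abelian.
-/

set_option autoImplicit false
set_option linter.unusedSectionVars false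

namespace Cfsg.Agent.Omega.IId.SymWrD.Ht.RD

open Subgroup Pointwise Cfsg Cfsg.Agent.Omega.MinPar Cfsg.Agent.Omega.FFThm
open Cfsg.Agent.ZN (o2 zc)
open Cfsg.Agent.Omega.IId.SymWrD
open Cfsg.Agent.Omega.IId.SwB (S0 mem_S0 S0_le S0_fst S0_comm Q_le_S0)
open Cfsg.Agent.Omega.Half.SymA (Pt E Mv pm Amb0)
open Cfsg.Agent.MinSimple.VModule (mem_zc zc_le le_normalizer_o2 o2_isPGroup o2_le)

universe u

variable {G : Type u} [Group G] {P V : Subgroup G} {k m : ℕ} {S : Sylow 2 G} {M : SymK (S : Subgroup G) P V ⊥ k m}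

/-- a permutation of 2-power order has no 3-cycle -/
theorem fix_of_cyc {α : Type*} {π : Equiv.Perm α} {n : ℕ} (h2 : π ^ 2 ^ n = 1) {a b c : α} (h1 : π a = b)
    (h3 : π b = c) (h4 : π c = a) : b = a := by
  have e1 : Function.IsPeriodicPt π 3 a := by
    change π (π (π a)) = a
    rw [h1, h3, h4]
  have e2 : Function.IsPeriodicPt π (2 ^ n) a := by
    have h5 : (π ^ 2 ^ n) a = a := by rw [h2]; rfl
    rw [Function.IsPeriodicPt, Function.IsFixedPt]
    rwa [← Equiv.Perm.iterate_eq_pow] at h5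
  have e3 := e1.gcd e2
  have e4 : Nat.gcd 3 (2 ^ n) = 1 := by
    apply Nat.Coprime.pow_right
    decide
  rw [e4] at e3
  have e5 : π a = a := e3
  rw [← h1, e5]

section

variable (h : Sit S P V M)

theorem S0_zero {s : G} (hs : s ∈ S0 h) (l : Fin k) : pp M s (l, 0) = (l, 0) := by
  have h1 := ((mem_S0 h).1 hs).2 (l, 0)
  have h2 : (pp M s (l, 0)).2 = 0 := (h.snd ((mem_S0 h).1 hs).1).2 rfl
  exact Prod.ext h1 h2

include h

open scoped Classical in
/-- an element of `P` inducing a transposition -/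
theorem exists_swapP {a b : Pt k m} (hab : a.1 = b.1) : ∃ g ∈ P, pp M g = Equiv.swap a b :=
  h.exists_pp fun r => by
    rcases eq_or_ne r a with rfl | hr
    · rw [Equiv.swap_apply_left, hab]
    · rcases eq_or_ne r b with rfl | hr'
      · rw [Equiv.swap_apply_right, hab]
      · rw [Equiv.swap_apply_of_ne_of_ne hr hr']

/-- the powers -/
theorem pp_pow {g : G} (hg : g ∈ P) (n : ℕ) : pp M (g ^ n) = pp M g ^ n := by
  induction n with
  | zero => rw [pow_zero, pow_zero, h.one]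
  | succ n ih => rw [pow_succ, pow_succ, h.mul (pow_mem hg n) hg, ih]

open scoped Classical in
/-- the commutator with a transposition -/
theorem pp_comm_swap {a b : Pt k m} {u g : G} (hu : u ∈ P) (hg : g ∈ P) (hgp : pp M g = Equiv.swap a b) :
    pp M (u * g * u⁻¹ * g⁻¹) = Equiv.swap (pp M u a) (pp M u b) * Equiv.swap a b := by
  rw [h.mul (mul_mem (mul_mem hu hg) (inv_mem hu)) (inv_mem hg), h.conj hu hg, h.inv hg, hgp, Equiv.swap_inv,
    ← Equiv.swap_apply_apply]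

open scoped Classical in
theorem pow_comm_swap {X : Subgroup G} (hX : IsPGroup 2 X) {a b : Pt k m} {u g : G} (hu : u ∈ P)
    (hg : g ∈ P) (hgp : pp M g = Equiv.swap a b) (hc : u * g * u⁻¹ * g⁻¹ ∈ X) :
    ∃ n : ℕ, (Equiv.swap (pp M u a) (pp M u b) * Equiv.swap a b) ^ 2 ^ n = 1 := by
  obtain ⟨n, hn⟩ := hX ⟨_, hc⟩
  refine ⟨n, ?_⟩
  have hcP : u * g * u⁻¹ * g⁻¹ ∈ P := mul_mem (mul_mem (mul_mem hu hg) (inv_mem hu)) (inv_mem hg)
  have hn' : (u * g * u⁻¹ * g⁻¹) ^ 2 ^ n = 1 := congrArg Subtype.val hn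
  rw [← pp_comm_swap h hu hg hgp, ← pp_pow h hcP, hn', h.one]

open scoped Classical in
/-- an element of the 2-group `X ≥ [X, swap]` -/
theorem tri_aux {X : Subgroup G} (hX : IsPGroup 2 X) {a b : Pt k m} (hne : a ≠ b) {u g : G} (hu : u ∈ P)
    (hg : g ∈ P) (hgp : pp M g = Equiv.swap a b) (hc : u * g * u⁻¹ * g⁻¹ ∈ X) (h1 : pp M u a = a) :
    pp M u b = b := by
  by_contra h2
  obtain ⟨n, hn⟩ := pow_comm_swap h hX hu hg hgp hc
  have hub : pp M u b ≠ a := fun e => hne ((pp M u).injective (h1.trans e.symm))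
  rw [h1] at hn
  have e1 : (Equiv.swap a (pp M u b) * Equiv.swap a b) b = pp M u b := by
    rw [Equiv.Perm.mul_apply, Equiv.swap_apply_right, Equiv.swap_apply_left]
  have e2 : (Equiv.swap a (pp M u b) * Equiv.swap a b) (pp M u b) = a := by
    rw [Equiv.Perm.mul_apply, Equiv.swap_apply_of_ne_of_ne hub h2, Equiv.swap_apply_right]
  have e3 : (Equiv.swap a (pp M u b) * Equiv.swap a b) a = b := by
    rw [Equiv.Perm.mul_apply, Equiv.swap_apply_left, Equiv.swap_apply_of_ne_of_ne hne.symm (Ne.symm h2)]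
  exact h2 (fix_of_cyc hn e1 e2 e3)

/-! ### A 2-group `O` normalised by the elements of `P` in the summands which commute with `σ` -/

variable {σ : G} {i : Fin k} (hE : ∀ p : Pt k m, E M σ p = if p.1 = i then (if p.2 = 0 then 0 else 1) else 0)

include hE

theorem E_eq {a b : Pt k m} (hab : a.1 = b.1) (h0 : a.2 = 0 ↔ b.2 = 0) : E M σ a = E M σ b := by
  rw [hE, hE, hab]
  simp only [h0]

theorem E_eq' {a b : Pt k m} (hab : a.1 = b.1) (hi : a.1 ≠ i) : E M σ a = E M σ b := by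
  rw [hE, hE, ← hab, if_neg hi, if_neg hi]

variable {O : Subgroup G} (hO : IsPGroup 2 O) (hσ : σ ∈ V)
  (hn : ∀ g ∈ P, (∀ p, (pp M g p).1 = p.1) → g * σ = σ * g → g ∈ normalizer (O : Set G))

omit hE in
include hσ hn in
open scoped Classical in
/-- the commutators with the transpositions commuting with `σ_i` -/
theorem comm_mem {u g : G} (hu : u ∈ O) {a b : Pt k m} (hab' : a.1 = b.1) (hg : g ∈ P)
    (hgp : pp M g = Equiv.swap a b) (hab : E M σ a = E M σ b) : u * g * u⁻¹ * g⁻¹ ∈ O := by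
  have hgK : g ∈ normalizer (O : Set G) := by
    refine hn g hg (fun r => ?_) ((h.comm_iff hg hσ).2 fun r => ?_)
    · rw [hgp]
      rcases eq_or_ne r a with rfl | hr
      · rw [Equiv.swap_apply_left, hab']
      · rcases eq_or_ne r b with rfl | hr'
        · rw [Equiv.swap_apply_right, hab']
        · rw [Equiv.swap_apply_of_ne_of_ne hr hr']
    · rw [hgp]
      rcases eq_or_ne r a with rfl | hr
      · rw [Equiv.swap_apply_left, hab]
      · rcases eq_or_ne r b with rfl | hr'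
        · rw [Equiv.swap_apply_right, hab]
        · rw [Equiv.swap_apply_of_ne_of_ne hr hr']
  have h1 := (mem_normalizer_iff.1 hgK u⁻¹).1 (inv_mem hu)
  have e : u * g * u⁻¹ * g⁻¹ = u * (g * u⁻¹ * g⁻¹) := by group
  rw [e]
  exact mul_mem hu h1

omit hE in
include hO hσ hn in
theorem tri {u : G} (hu : u ∈ O) (huP : u ∈ P) {a b : Pt k m} (hab : a.1 = b.1)
    (hne : a ≠ b) (hEab : E M σ a = E M σ b) (h1 : pp M u a = a) : pp M u b = b := by
  classical
  obtain ⟨g, hg, hgp⟩ := exists_swapP h hab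
  exact tri_aux h hO hne huP hg hgp (comm_mem h hσ hn hu hab hg hgp hEab) h1

include hO hσ hn in
/-- trivial outside of the summand `i` -/
theorem act_out {u : G} (hu : u ∈ O) (hu0 : u ∈ S0 h) {p : Pt k m} (hp : p.1 ≠ i) : pp M u p = p := by
  by_cases h0 : p.2 = 0
  · have e : p = (p.1, 0) := Prod.ext rfl h0
    rw [e]
    exact S0_zero h hu0 _
  · refine tri h hO hσ hn hu (h.SP ((mem_S0 h).1 hu0).1) (a := (p.1, 0)) rfl (fun e => h0 ?_) ?_ (S0_zero h hu0 _)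
    · rw [← e]
    · exact E_eq' h hE rfl hp

include hO hσ hn in
/-- trivial or without fixed points -/
theorem act_one {u : G} (hu : u ∈ O) (hu0 : u ∈ S0 h) {a : Pt k m} (ha : a.1 = i)
    (ha0 : a.2 ≠ 0) (h1 : pp M u a = a) : pp M u = 1 := by
  ext1 p
  change pp M u p = p
  by_cases hp : p.1 = i
  · by_cases h0 : p.2 = 0
    · have e : p = (p.1, 0) := Prod.ext rfl h0
      rw [e]
      exact S0_zero h hu0 _
    · by_cases hap : a = p
      · rw [← hap, h1]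
      · exact tri h hO hσ hn hu (h.SP ((mem_S0 h).1 hu0).1) (ha.trans hp.symm) hap
          (E_eq h hE (ha.trans hp.symm) (by simp only [ha0, h0])) h1
  · exact act_out h hE hO hσ hn hu hu0 hp

include hO hσ hn in
/-- `3 ≤ m` : trivial -/
theorem act_three (hm : 3 ≤ m) {u : G} (hu : u ∈ O) (hu0 : u ∈ S0 h) : pp M u = 1 := by
  classical
  have huP := h.SP ((mem_S0 h).1 hu0).1
  obtain ⟨a, ha, ha'⟩ := exists_pt hm i {(i, 0)} (by simp)
  have ha0 : a.2 ≠ 0 := fun e => ha' (Finset.mem_singleton.2 (Prod.ext ha e))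
  by_contra h1
  have h2 : ∀ b : Pt k m, b.1 = i → b.2 ≠ 0 → pp M u b ≠ b := fun b hb hb0 e =>
    h1 (act_one h hE hO hσ hn hu hu0 hb hb0 e)
  obtain ⟨c, hc, hc'⟩ := exists_pt hm i {(i, 0), a, pp M u a} ((Finset.card_le_three).trans (by norm_num))
  simp only [Finset.mem_insert, Finset.mem_singleton, not_or] at hc'
  have hc0 : c.2 ≠ 0 := fun e => hc'.1 (Prod.ext hc e)
  obtain ⟨e, he, he'⟩ := exists_pt hm i {(i, 0), a, c, pp M u a, pp M u c}
    ((Finset.card_le_five).trans (by norm_num))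
  simp only [Finset.mem_insert, Finset.mem_singleton, not_or] at he'
  have he0 : e.2 ≠ 0 := fun e1 => he'.1 (Prod.ext he e1)
  obtain ⟨g, hg, hgp⟩ := exists_swapP h (ha.trans hc.symm)
  have hEac : E M σ a = E M σ c := E_eq h hE (ha.trans hc.symm) (by simp only [ha0, hc0])
  have hEae : E M σ e = E M σ a := E_eq h hE (he.trans ha.symm) (by simp only [ha0, he0])
  have h3 := comm_mem h hσ hn hu (ha.trans hc.symm) hg hgp hEac
  have h4 := pp_comm_swap h huP hg hgp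
  have hcP : u * g * u⁻¹ * g⁻¹ ∈ P := mul_mem (mul_mem (mul_mem huP hg) (inv_mem huP)) (inv_mem hg)
  have h5 : pp M (u * g * u⁻¹ * g⁻¹) e = e := by
    rw [h4, Equiv.Perm.mul_apply, Equiv.swap_apply_of_ne_of_ne he'.2.1 he'.2.2.1,
      Equiv.swap_apply_of_ne_of_ne he'.2.2.2.1 he'.2.2.2.2]
  have h6 := tri h hO hσ hn h3 hcP (he.trans ha.symm) he'.2.1 hEae h5
  have h7 : pp M (u * g * u⁻¹ * g⁻¹) a = c := by
    rw [h4, Equiv.Perm.mul_apply, Equiv.swap_apply_left,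
      Equiv.swap_apply_of_ne_of_ne hc'.2.2 (Ne.symm (h2 c hc hc0))]
  exact hc'.2.1 (h7.symm.trans h6)

end

section sgd

variable [Finite G] (h : Sit S P V M) {i : Fin k} {d : G} (hd : d ∈ DD M)
include hd

theorem sgd_sq : (sg h i).val * d * ((sg h i).val * d) = 1 := by
  have h1 := ZN.zc_comm (h.VZ (sg_mem h i)) (zc_le _ (mem_DD.1 hd).1)
  calc (sg h i).val * d * ((sg h i).val * d) = (sg h i).val * (d * (sg h i).val) * d := by group
    _ = (sg h i).val * (sg h i).val * (d * d) := by rw [h1]; group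
    _ = 1 := by rw [h.Vsq (sg_mem h i), DD_sq hd, mul_one]

/-- the elements of `P` in the summands commuting with `σ_i` commute with `σ_i d` -/
theorem mem_K {g : G} (hg : g ∈ P) (hg1 : ∀ p, (pp M g p).1 = p.1) (hgσ : g * (sg h i).val = (sg h i).val * g) :
    g ∈ centralizer ({(sg h i).val * d} : Set G) := by
  rw [mem_centralizer_singleton_iff]
  calc g * ((sg h i).val * d) = g * (sg h i).val * d := by group
    _ = (sg h i).val * (g * d) := by rw [hgσ]; group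
    _ = (sg h i).val * d * g := by rw [(mem_DD.1 hd).2 g hg hg1]; group

end sgd

/-- **`O₂(C_G(σ_i d)) ≤ O₂(P)`**, `3 ≤ m` -/
theorem o2_sgd_le [Finite G] (h : Sit S P V M) (zv : zc (o2 P) ≤ V ⊔ DD M) (h3 : 3 ≤ m) (i : Fin k) {d : G}
    (hd : d ∈ DD M) : o2 (centralizer ({(sg h i).val * d} : Set G)) ≤ o2 P := by
  have hn : ∀ g ∈ P, (∀ p, (pp M g p).1 = p.1) → g * (sg h i).val = (sg h i).val * g →
      g ∈ normalizer (o2 (centralizer ({(sg h i).val * d} : Set G)) : Set G) := fun g hg hg1 hg2 =>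
    le_normalizer_o2 _ (mem_K h hd hg hg1 hg2)
  have h1 : ∀ y ∈ o2 (centralizer ({(sg h i).val * d} : Set G)), y ∈ S0 h → y ∈ o2 P := fun y hy hy0 => by
    rw [h.mem_Q_iff (S0_le h hy0)]
    exact act_three h (E_sg h i) (o2_isPGroup _) (sg_mem h i) hn h3 hy hy0
  have h2 := lemR_a h zv (o2_isPGroup _) (fun s hs => hn s (h.SP (S0_le h hs)) (S0_fst h hs) (S0_comm h hs i)) h1
  exact fun y hy => h1 y hy (h2 hy)

/-- **`Ω₁Z(O₂(P)) ≤ Ω₁Z(O₂(C_G(σ_i d)))`**, `3 ≤ m` -/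
theorem zc_le_sgd [Finite G] (h : Sit S P V M) (hG : IsCharacteristicTwoType G) (zv : zc (o2 P) ≤ V ⊔ DD M)
    (h3 : 3 ≤ m) (i : Fin k) {d : G} (hd : d ∈ DD M) (hne : (sg h i).val * d ≠ 1) :
    zc (o2 P) ≤ zc (o2 (centralizer ({(sg h i).val * d} : Set G))) := by
  have h1 := o2_sgd_le h zv h3 i hd
  have h2 : ∀ v ∈ zc (o2 P), ∀ g ∈ o2 (centralizer ({(sg h i).val * d} : Set G)), g * v = v * g :=
    fun v hv g hg => (mem_zc.1 hv).2.1 g (h1 hg)
  have hy : (sg h i).val * d ∈ zc (o2 P) := mul_mem (h.VZ (sg_mem h i)) (mem_DD.1 hd).1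
  exact fun v hv => mem_zc.2 ⟨char2_cent hG (sgd_sq h hd) hne ⟨mem_centralizer_singleton_iff.2
    (ZN.zc_comm hy (zc_le _ hv)), mem_centralizer_iff.2 (h2 v hv)⟩, h2 v hv, (mem_zc.1 hv).2.2⟩

/-- **`⟨Ω₁Z(O₂(P)) ^ C_G(σ_i d)⟩` is abelian**, `3 ≤ m` -/
theorem esigD [Finite G] (h : Sit S P V M) (hG : IsCharacteristicTwoType G) (zv : zc (o2 P) ≤ V ⊔ DD M)
    (h3 : 3 ≤ m) (i : Fin k) {d : G} (hd : d ∈ DD M) (hne : (sg h i).val * d ≠ 1) {g : G}
    (hg : g * ((sg h i).val * d) = (sg h i).val * d * g) {v w : G} (hv : v ∈ zc (o2 P)) (hw : w ∈ zc (o2 P)) :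
    v * (g * w * g⁻¹) = g * w * g⁻¹ * v := by
  have h1 := zc_le_sgd h hG zv h3 i hd hne
  have h2 : g * w * g⁻¹ ∈ o2 (centralizer ({(sg h i).val * d} : Set G)) :=
    (mem_normalizer_iff.1 (le_normalizer_o2 _ (mem_centralizer_singleton_iff.2 hg)) w).1 (zc_le _ (h1 hw))
  exact ((mem_zc.1 (h1 hv)).2.1 _ h2).symm

end Cfsg.Agent.Omega.IId.SymWrD.Ht.RD

end

section


/-!
# II.d, `SwCv`, T-T: `⟨V ^ C_G(σ_i d)⟩` is abelian if `O₂(C_G(σ_i d)) ≤ S⁰`, `DD M ≠ 1` (bb OMEGA #22373 (A2), #22664)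

`SymWrD.Sit S P V M`, `Ω₁Z(O₂(P)) ≤ V ⊔ DD M`, `K = C_G(σ_i d)` (in the section: a subgroup `K` with the same properties).
* `pr_mem_o2` : the duads of nonzero points of the summand `i` are in `O₂(K)` if `O₂(K)` acts nontrivially;
* `pp_cen` : an element of `Z(O₂(K))` centralises `V`; `V_le_o2` : `V ≤ O₂(K)`;
* `same_act`, `comm_of_le` : `V` commutes with `V ^ g`, `g ∈ K`;
* `esigD_two` : the result for `K = C_G(σ_i d)`, all `m ≥ 2`, from `O₂(K) ≤ S0 h` and `e ∈ DD M`, `e ≠ 1`.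
-/

set_option autoImplicit false
set_option linter.unusedSectionVars false

namespace Cfsg.Agent.Omega.IId.SymWrD.Ht.RB

open Subgroup Pointwise Cfsg Cfsg.Agent.Omega.MinPar Cfsg.Agent.Omega.FFThm
open Cfsg.Agent.ZN (o2 zc)
open Cfsg.Agent.Omega.IId.SymWrD
open Cfsg.Agent.Omega.IId.SymWrD.Ht.RD
open Cfsg.Agent.Omega.IId.SwB (S0 mem_S0 S0_le S0_fst S0_comm Q_le_S0)
open Cfsg.Agent.Omega.Half.SymA (Pt E Mv pm Amb0)
open Cfsg.Agent.MinSimple.VModule (mem_zc zc_le le_normalizer_o2 o2_isPGroup o2_le le_o2)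

universe u

variable {G : Type u} [Group G] {P V : Subgroup G} {k m : ℕ} {S : Sylow 2 G} {M : SymK (S : Subgroup G) P V ⊥ k m}

theorem mem_norm_of {A : Subgroup G} {B : Subgroup G} (h : ∀ g ∈ B, ∀ a ∈ A, g * a * g⁻¹ ∈ A) :
    B ≤ normalizer (A : Set G) := by
  intro g hg
  rw [mem_normalizer_iff]
  refine fun a => ⟨h g hg a, fun ha => ?_⟩
  have h1 := h g⁻¹ (inv_mem hg) _ ha
  have e : g⁻¹ * (g * a * g⁻¹) * g⁻¹⁻¹ = a := by group
  rwa [e] at h1

section K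

variable [Finite G] (h : Sit S P V M) {σ : G} {i : Fin k}
  (hE : ∀ p : Pt k m, E M σ p = if p.1 = i then (if p.2 = 0 then 0 else 1) else 0) (hσ : σ ∈ V)
  {K : Subgroup G} (hVK : V ≤ K)
  (hK : ∀ g ∈ P, (∀ p, (pp M g p).1 = p.1) → g * σ = σ * g → g ∈ K)
  (hc : K ⊓ centralizer (o2 K : Set G) ≤ o2 K) (hle : o2 K ≤ S0 h)

include h

theorem conj_mem {g x : G} (hg : g ∈ K) (hx : x ∈ o2 K) : g * x * g⁻¹ ∈ o2 K :=
  (mem_normalizer_iff.1 (le_normalizer_o2 K hg) x).1 hx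

theorem conj_mem' {g x : G} (hg : g ∈ K) (hx : x ∈ o2 K) : g⁻¹ * x * g ∈ o2 K := by
  have := conj_mem h (inv_mem hg) hx
  rwa [inv_inv] at this

omit [Finite G] in
/-- the elements with three points -/
theorem exists_third (i : Fin k) (s : Finset (Pt k m)) (hs : s.card ≤ 3) : ∃ p : Pt k m, p.1 = i ∧ p ∉ s := by
  classical
  by_contra h0
  push Not at h0
  have h1 : (Finset.univ.image fun y : Fin (2 ^ m + 1) => ((i, y) : Pt k m)) ⊆ s := by
    intro p hp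
    obtain ⟨y, -, rfl⟩ := Finset.mem_image.1 hp
    exact h0 _ rfl
  have h2 := Finset.card_le_card h1
  rw [Finset.card_image_of_injective _ (fun a b hab => (Prod.ext_iff.1 hab).2), Finset.card_univ,
    Fintype.card_fin] at h2
  have h3 : 2 ^ 2 ≤ 2 ^ m := Nat.pow_le_pow_right (by norm_num) h.hm
  omega

include hVK hc hle in
/-- the case `[O, V] = 1` -/
theorem comm_of_triv (ht : ∀ u ∈ o2 K, pp M u = 1) {g : G} (hg : g ∈ K) {v w : G} (hv : v ∈ V) (hw : w ∈ V) :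
    v * (g * w * g⁻¹) = g * w * g⁻¹ * v := by
  have h1 : ∀ v ∈ V, ∀ u ∈ o2 K, u * v = v * u := fun v hv u hu =>
    ((mem_centralizer_iff.1 ((h.eq_one_iff (h.SP (S0_le h (hle hu)))).1 (ht u hu)) v hv)).symm
  have h2 : w ∈ o2 K := hc ⟨hVK hw, mem_centralizer_iff.2 fun u hu => h1 w hw u hu⟩
  exact (h1 v hv _ (conj_mem h hg h2)).symm

include hle in
/-- the commutator `[v, u]`, `v = {0, a}` -/
theorem comm_pr {u : G} (hu : u ∈ o2 K) (a : Pt k m) (ha : a.1 = i) :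
    pr M (i, 0) a * (u * pr M (i, 0) a * u⁻¹) = pr M a (pp M u a) := by
  have hu0 := hle hu
  have h1 : ((i, 0) : Pt k m).1 = a.1 := ha.symm
  rw [h.conj_pr (h.SP (S0_le h hu0)) h1, S0_zero h hu0, pr_comm M h1, pr_mul M h1.symm]
  exact (h1.trans (S0_fst h hu0 a).symm)

omit [Finite G] in
/-- `u` does not commute with `{a, b}` if `u a ≠ a, b` -/
theorem ne_of_pr {u : G} (hu : u ∈ P) {a b : Pt k m} (hab : a.1 = b.1) (hne : a ≠ b)
    (hc : u * pr M a b = pr M a b * u) : pp M u a = a ∨ pp M u a = b := by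
  by_contra h0
  push Not at h0
  have h1 := (h.comm_iff hu (pr_mem M _ _)).1 hc a
  rw [E_pr_left M hab hne, E_pr_of_ne M hab h0.1 h0.2] at h1
  exact zero_ne_one h1

include hE hσ hVK hK hle

omit hVK hle in
theorem hnorm : ∀ g ∈ P, (∀ p, (pp M g p).1 = p.1) → g * σ = σ * g → g ∈ normalizer (o2 K : Set G) :=
  fun g hg h1 h2 => le_normalizer_o2 K (hK g hg h1 h2)

omit hVK in
/-- no fixed points -/
theorem no_fix {u : G} (hu : u ∈ o2 K) (hu1 : pp M u ≠ 1) {a : Pt k m} (ha : a.1 = i) (ha0 : a.2 ≠ 0) :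
    pp M u a ≠ a := fun e =>
  hu1 (act_one h hE (o2_isPGroup K) hσ (hnorm h hE hσ hK) hu (hle hu) ha ha0 e)

/-- the duads of nonzero points of the summand `i` -/
theorem pr_mem_o2 {u : G} (hu : u ∈ o2 K) (hu1 : pp M u ≠ 1) {a b : Pt k m} (ha : a.1 = i) (hb : b.1 = i)
    (ha0 : a.2 ≠ 0) (hb0 : b.2 ≠ 0) : pr M a b ∈ o2 K := by
  classical
  by_cases hab : a = b
  · rw [hab]
    have h1 : pr M b b = 1 := by
      refine Half.SymA.inj M (pr_mem M _ _) (one_mem V) fun p => ?_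
      rw [E_pr M (show b.1 = b.1 from rfl), Half.SymA.E_one]
      exact CharTwo.add_self_eq_zero _
    rw [h1]; exact one_mem _
  have h1 : pr M a (pp M u a) ∈ o2 K := by
    rw [← comm_pr h hle hu a ha]
    set v := pr M (i, 0) a with hv
    have hvV : v ∈ V := pr_mem M _ _
    have hvv : v⁻¹ = v := inv_eq_of_mul_eq_one_left (h.Vsq hvV)
    have h2 := (o2 K).mul_mem (conj_mem h (hVK hvV) hu) (inv_mem hu)
    rw [hvv] at h2
    have e : v * (u * v * u⁻¹) = v * u * v * u⁻¹ := by group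
    rw [e]
    exact h2
  have hfix := no_fix h hE hσ hK hle hu hu1 ha ha0
  have huab : (pp M u a).1 = b.1 := (S0_fst h (hle hu) a).trans (ha.trans hb.symm)
  have hua0 : (pp M u a).2 ≠ 0 := fun e => ha0 ((h.snd (S0_le h (hle hu))).1 e)
  obtain ⟨g, hg, hgp⟩ := exists_swapP h huab
  have hfst : ∀ r, (pp M g r).1 = r.1 := by
    intro r
    rw [hgp]
    rcases eq_or_ne r (pp M u a) with rfl | hr
    · rw [Equiv.swap_apply_left, huab]
    · rcases eq_or_ne r b with rfl | hr'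
      · rw [Equiv.swap_apply_right, huab]
      · rw [Equiv.swap_apply_of_ne_of_ne hr hr']
  have hgσ : g * σ = σ * g := by
    refine (h.comm_iff hg hσ).2 fun r => ?_
    rw [hgp]
    rcases eq_or_ne r (pp M u a) with rfl | hr
    · rw [Equiv.swap_apply_left]
      exact (E_eq h hE huab (by simp only [hua0, hb0])).symm
    · rcases eq_or_ne r b with rfl | hr'
      · rw [Equiv.swap_apply_right]
        exact E_eq h hE huab (by simp only [hua0, hb0])
      · rw [Equiv.swap_apply_of_ne_of_ne hr hr']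
  have h2 := conj_mem h (hK g hg hfst hgσ) h1
  rw [h.conj_pr hg (S0_fst h (hle hu) a).symm, hgp, Equiv.swap_apply_left,
    Equiv.swap_apply_of_ne_of_ne (Ne.symm hfix) hab] at h2
  exact h2

/-- an element commuting with `O₂(K)` centralises `V` -/
theorem pp_cen {u : G} (hu : u ∈ o2 K) (hu1 : pp M u ≠ 1) {z : G} (hz : z ∈ o2 K)
    (hzc : ∀ x ∈ o2 K, z * x = x * z) : pp M z = 1 := by
  classical
  by_contra hz1
  have hfix : ∀ b : Pt k m, b.1 = i → b.2 ≠ 0 → pp M z b ≠ b := fun b hb hb0 =>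
    no_fix h hE hσ hK hle hz hz1 hb hb0
  obtain ⟨a, ha, ha'⟩ := exists_third h i {(i, 0)} (by simp)
  have ha0 : a.2 ≠ 0 := fun e => ha' (Finset.mem_singleton.2 (Prod.ext ha e))
  obtain ⟨c, hc, hc'⟩ := exists_third h i {(i, 0), a, pp M z a} Finset.card_le_three
  simp only [Finset.mem_insert, Finset.mem_singleton, not_or] at hc'
  have hc0 : c.2 ≠ 0 := fun e => hc'.1 (Prod.ext hc e)
  have h2 := pr_mem_o2 h hE hσ hVK hK hle hu hu1 ha hc ha0 hc0
  rcases ne_of_pr h (h.SP (S0_le h (hle hz))) (ha.trans hc.symm) (Ne.symm hc'.2.1) (hzc _ h2) with e | e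
  · exact hfix a ha ha0 e
  · exact hc'.2.2 e.symm

include hc in
/-- **`V ≤ O₂(K)`** -/
theorem V_le_o2 (hDK : DD M ≤ K) {e : G} (he : e ∈ DD M) (hf : V ≤ o2 (centralizer ({e} : Set G)))
    {u : G} (hu : u ∈ o2 K) (hu1 : pp M u ≠ 1) : V ≤ o2 K := by
  have heO : ∀ x ∈ o2 K, e * x = x * e := fun x hx => (S0_DD h (hle hx) he).symm
  have heK : e ∈ o2 K := hc ⟨hDK he, mem_centralizer_iff.2 fun x hx => (heO x hx).symm⟩
  -- `e` commutes with `V ^ g`
  have h1 : ∀ g ∈ K, ∀ v ∈ V, g * v * g⁻¹ ∈ centralizer ({e} : Set G) := by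
    intro g hg v hv
    have h2 : ∀ x ∈ o2 K, g⁻¹ * e * g * x = x * (g⁻¹ * e * g) := by
      intro x hx
      have h3 := heO _ (conj_mem h hg hx)
      calc g⁻¹ * e * g * x = g⁻¹ * (e * (g * x * g⁻¹)) * g := by group
        _ = g⁻¹ * (g * x * g⁻¹ * e) * g := by rw [h3]
        _ = x * (g⁻¹ * e * g) := by group
    have h3 := conj_mem' h hg heK
    have h4 := pp_cen h hE hσ hVK hK hle hu hu1 h3 h2
    have h5 := mem_centralizer_iff.1 ((h.eq_one_iff (h.SP (S0_le h (hle h3)))).1 h4) v hv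
    rw [mem_centralizer_singleton_iff]
    calc g * v * g⁻¹ * e = g * (v * (g⁻¹ * e * g)) * g⁻¹ := by group
      _ = g * (g⁻¹ * e * g * v) * g⁻¹ := by rw [h5]
      _ = e * (g * v * g⁻¹) := by group
  -- `Y = ⟨V ^ K⟩`
  set Y : Subgroup G := Subgroup.closure {x | ∃ g ∈ K, ∃ v ∈ V, g * v * g⁻¹ = x} with hY
  have hVY : V ≤ Y := fun v hv => subset_closure ⟨1, one_mem _, v, hv, by group⟩
  have hYK : Y ≤ K := by
    rw [hY, closure_le]
    rintro _ ⟨g, hg, v, hv, rfl⟩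
    exact mul_mem (mul_mem hg (hVK hv)) (inv_mem hg)
  have hYC : Y ≤ centralizer ({e} : Set G) := by
    rw [hY, closure_le]
    rintro _ ⟨g, hg, v, hv, rfl⟩
    exact h1 g hg v hv
  have hKY : K ≤ normalizer (Y : Set G) := mem_norm_of fun c hc y hy => by
    induction hy using closure_induction with
    | mem x hx =>
      obtain ⟨g, hg, v, hv, rfl⟩ := hx
      exact subset_closure ⟨c * g, mul_mem hc hg, v, hv, by group⟩
    | one => rw [mul_one, mul_inv_cancel]; exact one_mem _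
    | mul x y _ _ hx hy =>
      have e : c * (x * y) * c⁻¹ = (c * x * c⁻¹) * (c * y * c⁻¹) := by group
      rw [e]
      exact mul_mem hx hy
    | inv x _ hx =>
      have e : c * x⁻¹ * c⁻¹ = (c * x * c⁻¹)⁻¹ := by group
      rw [e]
      exact inv_mem hx
  have h2 : o2 (centralizer ({e} : Set G)) ⊓ Y ≤ o2 Y := by
    refine le_o2 inf_le_right ((o2_isPGroup _).to_le inf_le_left) (mem_norm_of fun y hy x hx => ⟨?_, ?_⟩)
    · exact (mem_normalizer_iff.1 (le_normalizer_o2 _ (hYC hy)) x).1 hx.1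
    · exact Y.mul_mem (Y.mul_mem hy hx.2) (Y.inv_mem hy)
  have h3 : o2 Y ≤ o2 K := by
    refine le_o2 ((o2_le Y).trans hYK) (o2_isPGroup Y) ?_
    refine mem_norm_of fun g hg x hx => ?_
    have h3 : (o2 Y).map (MulAut.conj g).toMonoidHom ≤ o2 Y := by
      refine le_o2 ?_ ((o2_isPGroup Y).map _) ?_
      · rintro _ ⟨y, hy, rfl⟩
        exact (mem_normalizer_iff.1 (hKY hg) y).1 (o2_le Y hy)
      · refine mem_norm_of fun y hy x hx => ?_
        obtain ⟨w, hw, rfl⟩ := hx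
        have h4 : g⁻¹ * y * g ∈ Y := by
          have := (mem_normalizer_iff.1 (hKY (inv_mem hg)) y).1 hy
          rwa [inv_inv] at this
        refine ⟨(g⁻¹ * y * g) * w * (g⁻¹ * y * g)⁻¹,
          (mem_normalizer_iff.1 (le_normalizer_o2 _ h4) w).1 hw, ?_⟩
        change g * ((g⁻¹ * y * g) * w * (g⁻¹ * y * g)⁻¹) * g⁻¹ = y * (g * w * g⁻¹) * y⁻¹
        group
    exact h3 ⟨x, hx, rfl⟩
  exact fun v hv => h3 (h2 ⟨hf hv, hVY hv⟩)

/-- two elements of `V ^ g` act in the same way if they act nontrivially -/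
theorem same_act (hVO : V ≤ o2 K) {g : G} (hg : g ∈ K) {u u' : G} (hu : g⁻¹ * u * g ∈ V) (hu' : g⁻¹ * u' * g ∈ V)
    (h1 : pp M u ≠ 1) (h2 : pp M u' ≠ 1) : pp M u = pp M u' := by
  have hn := hnorm h hE hσ hK
  have key : ∀ x, g⁻¹ * x * g ∈ V → x ∈ o2 K := fun x hx => by
    have := conj_mem h hg (hVO hx)
    have e : g * (g⁻¹ * x * g) * g⁻¹ = x := by group
    rwa [e] at this
  have hu1 := key u hu
  have hu1' := key u' hu'
  ext1 p
  by_cases hp : p.1 = i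
  · by_cases h0 : p.2 = 0
    · have e : p = (p.1, 0) := Prod.ext rfl h0
      rw [e, S0_zero h (hle hu1), S0_zero h (hle hu1')]
    · have h3 : pp M u p ≠ p := no_fix h hE hσ hK hle hu1 h1 hp h0
      have h4 : pp M u' p ≠ p := no_fix h hE hσ hK hle hu1' h2 hp h0
      have h5 := comm_pr h hle hu1 p hp
      set v := pr M (i, 0) p with hv
      have hvV : v ∈ V := pr_mem M _ _
      have hvv : v⁻¹ = v := inv_eq_of_mul_eq_one_left (h.Vsq hvV)
      -- the commutator lies in `V ^ g`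
      have h6 : g⁻¹ * pr M p (pp M u p) * g ∈ V := by
        have h7 : g⁻¹ * v * g ∈ P := h.SP (S0_le h (hle (conj_mem' h hg (hVO hvV))))
        have h8 := h.amb.conj_mem h7 hu
        have h9 : (g⁻¹ * v * g) * (g⁻¹ * u * g) * (g⁻¹ * v * g)⁻¹ * (g⁻¹ * u * g)⁻¹ ∈ V :=
          mul_mem h8 (inv_mem hu)
        have e : (g⁻¹ * v * g) * (g⁻¹ * u * g) * (g⁻¹ * v * g)⁻¹ * (g⁻¹ * u * g)⁻¹ =
            g⁻¹ * (v * (u * v⁻¹ * u⁻¹)) * g := by group
        rw [e, hvv, h5] at h9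
        exact h9
      have h7 : u' * pr M p (pp M u p) = pr M p (pp M u p) * u' := by
        have h8 := h.Vcomm hu' h6
        have e1 : u' * pr M p (pp M u p) = g * (g⁻¹ * u' * g * (g⁻¹ * pr M p (pp M u p) * g)) * g⁻¹ := by group
        rw [e1, h8]
        group
      exact ((ne_of_pr h (h.SP (S0_le h (hle hu1'))) (S0_fst h (hle hu1) p).symm (Ne.symm h3) h7).resolve_left
        h4).symm
  · rw [act_out h hE (o2_isPGroup K) hσ hn hu1 (hle hu1) hp, act_out h hE (o2_isPGroup K) hσ hn hu1' (hle hu1') hp]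

/-- the case `V ≤ O` -/
theorem comm_of_le (hVO : V ≤ o2 K) {g : G} (hg : g ∈ K) {v w : G} (hv : v ∈ V) (hw : w ∈ V) :
    v * (g * w * g⁻¹) = g * w * g⁻¹ * v := by
  classical
  by_contra hne
  set u := g * w * g⁻¹ with hu
  have huO : u ∈ o2 K := conj_mem h hg (hVO hw)
  have huP : u ∈ P := h.SP (S0_le h (hle huO))
  have hu1 : pp M u ≠ 1 := fun e =>
    hne (mem_centralizer_iff.1 ((h.eq_one_iff huP).1 e) v hv)
  have hfix : ∀ b : Pt k m, b.1 = i → b.2 ≠ 0 → pp M u b ≠ b := fun b hb hb0 =>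
    no_fix h hE hσ hK hle huO hu1 hb hb0
  have hnz : ∀ b : Pt k m, b.2 ≠ 0 → pp M u b ≠ (i, 0) := fun b hb e => hb
    ((h.snd (S0_le h (hle huO))).1 (by rw [e]))
  obtain ⟨a, ha, ha'⟩ := exists_third h i {(i, 0)} (by simp)
  have ha0 : a.2 ≠ 0 := fun e => ha' (Finset.mem_singleton.2 (Prod.ext ha e))
  obtain ⟨c, hc, hc'⟩ := exists_third h i {(i, 0), a, pp M u a} Finset.card_le_three
  simp only [Finset.mem_insert, Finset.mem_singleton, not_or] at hc'
  have hc0 : c.2 ≠ 0 := fun e => hc'.1 (Prod.ext hc e)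
  have hia : ((i, 0) : Pt k m).1 = a.1 := ha.symm
  have hac : a.1 = c.1 := ha.trans hc.symm
  have hia' : ((i, 0) : Pt k m) ≠ a := fun e => ha0 (by rw [← e])
  have hic' : ((i, 0) : Pt k m) ≠ c := fun e => hc0 (by rw [← e])
  -- `{0, a}`, `{a, c}`, `{0, c}` do not commute with `u`
  have n1 : u * pr M (i, 0) a ≠ pr M (i, 0) a * u := fun e => by
    rw [pr_comm M hia] at e
    rcases ne_of_pr h huP hia.symm hia'.symm e with e1 | e1
    · exact hfix a ha ha0 e1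
    · exact hnz a ha0 e1
  have n2 : u * pr M a c ≠ pr M a c * u := fun e => by
    rcases ne_of_pr h huP hac (Ne.symm hc'.2.1) e with e1 | e1
    · exact hfix a ha ha0 e1
    · exact hc'.2.2 e1.symm
  have n3 : u * pr M (i, 0) c ≠ pr M (i, 0) c * u := fun e => by
    rw [pr_comm M (hia.trans hac)] at e
    rcases ne_of_pr h huP (hia.trans hac).symm hic'.symm e with e1 | e1
    · exact hfix c hc hc0 e1
    · exact hnz c hc0 e1
  have hgi : g⁻¹ ∈ K := inv_mem hg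
  have cnt : ∀ x ∈ V, u * x ≠ x * u → pp M (g⁻¹ * x * g) ≠ 1 := by
    intro x hx hn e
    have hxP : g⁻¹ * x * g ∈ P := h.SP (S0_le h (hle (conj_mem' h hg (hVO hx))))
    have h1 := mem_centralizer_iff.1 ((h.eq_one_iff hxP).1 e) w hw
    apply hn
    have e1 : u * x = g * (w * (g⁻¹ * x * g)) * g⁻¹ := by rw [hu]; group
    rw [e1, h1, hu]
    group
  have h1 := same_act h hE hσ hVK hK hle hVO hgi (u := g⁻¹ * pr M (i, 0) a * g) (u' := g⁻¹ * pr M a c * g)
    (by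
      have e : g⁻¹⁻¹ * (g⁻¹ * pr M (i, 0) a * g) * g⁻¹ = pr M (i, 0) a := by group
      rw [e]; exact pr_mem M _ _)
    (by
      have e : g⁻¹⁻¹ * (g⁻¹ * pr M a c * g) * g⁻¹ = pr M a c := by group
      rw [e]; exact pr_mem M _ _)
    (cnt _ (pr_mem M _ _) n1) (cnt _ (pr_mem M _ _) n2)
  have p1 : g⁻¹ * pr M (i, 0) a * g ∈ P :=
    h.SP (S0_le h (hle (conj_mem' h hg (hVO (pr_mem M _ _)))))
  have p2 : g⁻¹ * pr M a c * g ∈ P :=
    h.SP (S0_le h (hle (conj_mem' h hg (hVO (pr_mem M _ _)))))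
  have h2 : pp M (g⁻¹ * pr M (i, 0) c * g) = 1 := by
    have e : g⁻¹ * pr M (i, 0) c * g = (g⁻¹ * pr M (i, 0) a * g) * (g⁻¹ * pr M a c * g) := by
      rw [← pr_mul M hia hac]
      group
    rw [e, h.mul p1 p2, h1, ← h.mul p2 p2]
    have e2 : (g⁻¹ * pr M a c * g) * (g⁻¹ * pr M a c * g) = 1 := by
      have e3 : (g⁻¹ * pr M a c * g) * (g⁻¹ * pr M a c * g) = g⁻¹ * (pr M a c * pr M a c) * g := by group
      rw [e3, h.Vsq (pr_mem M _ _)]
      group
    rw [e2, h.one]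
  exact cnt _ (pr_mem M _ _) n3 h2

include hc in
/-- **`⟨V ^ K⟩` is abelian** -/
theorem commK (hDK : DD M ≤ K) {e : G} (he : e ∈ DD M) (hf : V ≤ o2 (centralizer ({e} : Set G)))
    {g : G} (hg : g ∈ K) {v w : G} (hv : v ∈ V) (hw : w ∈ V) : v * (g * w * g⁻¹) = g * w * g⁻¹ * v := by
  by_cases ht : ∀ u ∈ o2 K, pp M u = 1
  · exact comm_of_triv h hVK hc hle ht hg hv hw
  · push Not at ht
    obtain ⟨u, hu, hu1⟩ := ht
    exact comm_of_le h hE hσ hVK hK hle (V_le_o2 h hE hσ hVK hK hc hle hDK he hf hu hu1) hg hv hw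

end K

/-- **`⟨V ^ C_G(σ_i d)⟩` is abelian** if `O₂(C_G(σ_i d)) ≤ S0 h` and `DD M ≠ 1`, all `m ≥ 2` -/
theorem esigD_two [Finite G] (h : Sit S P V M) (hG : IsCharacteristicTwoType G) (zv : zc (o2 P) ≤ V ⊔ DD M)
    (i : Fin k) {d : G} (hd : d ∈ DD M) (hne : (sg h i).val * d ≠ 1)
    (hO : o2 (centralizer ({(sg h i).val * d} : Set G)) ≤ S0 h) {e : G} (he : e ∈ DD M) (he1 : e ≠ 1) {g : G}
    (hg : g * ((sg h i).val * d) = (sg h i).val * d * g) {v w : G} (hv : v ∈ V) (hw : w ∈ V) :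
    v * (g * w * g⁻¹) = g * w * g⁻¹ * v := by
  have hy : (sg h i).val * d ∈ zc (o2 P) := mul_mem (h.VZ (sg_mem h i)) (mem_DD.1 hd).1
  have hZK : zc (o2 P) ≤ centralizer ({(sg h i).val * d} : Set G) := fun z hz =>
    mem_centralizer_singleton_iff.2 (ZN.zc_comm hy (zc_le _ hz))
  refine commK h (E_sg h i) (sg_mem h i) (K := centralizer ({(sg h i).val * d} : Set G))
    (fun x hx => hZK (h.VZ hx)) (fun g hg h1 h2 => mem_K h hd hg h1 h2)
    (char2_cent hG (sgd_sq h hd) hne) hO (fun x hx => hZK (mem_DD.1 hx).1) he ?_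
    (mem_centralizer_singleton_iff.2 hg) hv hw
  exact fun v hv => zc_le _ ((HF_cent hG h zv he he1).2 (h.VZ hv))

end Cfsg.Agent.Omega.IId.SymWrD.Ht.RB

end
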