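import Cfsg.Agent.Mrg.Omega.IId.SymWrD.Ht.Line
import Cfsg.Agent.Mrg.Omega.HT.Main


/-!
# II.d, `SwBig` and `SwCv`, `D` arbitrary: `OtD` and `HTT` over a 2-group `T̂ ≥ T = C_S(n)` (bb OMEGA #21666, helper916)

`T̂` is a 2-subgroup of `C_G(n)` of odd index which contains `T = tn S M μ x` and normalises the line
`V_l = {1, n, r₂, r₃}`; hypothesis `zv` : `Ω₁Z(O₂(P)) ≤ V ⊔ DD M`.

* `Fr.zcT_le` : `Ω₁Z(T̂) ≤ Ω₁Z(T)`; `Fr.hdecT` : `Ω₁Z(T̂) = ⟨n⟩ Z₀(T̂)`; `Fr.ztT` : `(zt)`;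
* `Fr.otD` : `OtD T̂ V_l X n`; `Fr.otT` : `O₂(H)` centralises `V_l` for all `H ≥ ⟨T̂, X⟩`;
* `Fr.httT` : `HTT T̂ (T̂ ⊔ X) V_l R 0`; `Fr.coreT` : `Core` for every `z ∈ Z₀(T̂)`.
-/

set_option autoImplicit false
set_option linter.unusedSectionVars false

namespace Cfsg.Agent.Omega.IId.SymWrD.Ht

open Subgroup Cfsg Cfsg.Agent.Omega.MinPar Cfsg.Agent.Omega.FFThm
open Cfsg.Agent.ZN (o2 zc)
open Cfsg.Agent.Omega.Half (Amb amb_of_loc)
open Cfsg.Agent.Omega.Half.SymA (Pt E Mv pm)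
open Cfsg.Agent.Omega.HT.LineOf (Ln ln pts dd)
open Cfsg.Agent.Omega.HT.OtCore (OtD)
open Cfsg.Agent.Omega.BTwo (BT XX WW QQ O2)
open Cfsg.Agent.MinSimple.VModule (le_normalizer_o2 o2_isPGroup o2_le mem_zc zc_le)

universe u

variable {G : Type u} [Group G] [Finite G] {k m : ℕ}

namespace Fr

variable {S : Sylow 2 G} {P V D : Subgroup G} {M : SymK (S : Subgroup G) P V ⊥ k m} (h : Fr S P V D M)
  {μ ν : Equiv.Perm (Pt k m)} (F : Fours M μ ν) {x : Pt k m} (hx : x.2 ≠ 0) {T : Subgroup G}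
  (hTT : tn S M μ x ≤ T)
include h F hx hTT

/-- `Ω₁Z(T̂) ≤ Ω₁Z(T)` -/
theorem zcT_le : zc T ≤ zc (tn S M μ x) := by
  intro z hz
  have h1 := mem_zc.1 hz
  have h2 : z ∈ zc (o2 P) := h.mem_zc_of F hx (by rw [← pow_two]; exact h1.2.2) fun y hy =>
    h1.2.1 y (hTT (h.Q_le_tn F hx hy))
  exact mem_zc.2 ⟨h.Q_le_tn F hx (zc_le _ h2), fun s hs => h1.2.1 s (hTT hs), h1.2.2⟩

variable (zv : zc (o2 P) ≤ V ⊔ DD M)
include zv

/-- `Ω₁Z(T̂) = ⟨n⟩ Z₀(T̂)` -/
theorem hdecT (hTa : T ≤ centralizer ({pr M x (μ x)} : Set G)) {z : G} (hz : z ∈ zc T) :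
    ∃ v ∈ ln (h.line3 (h.tri F hx)), ∃ c, (∀ y ∈ h.X3 (h.tri F hx), y * c = c * y) ∧ (∀ t ∈ T, t * c = c * t) ∧
      z = v * c := by
  have t := h.tri F hx
  obtain ⟨v, hv, c, hcX, hcT, rfl⟩ := h.hdec F hx zv (h.zcT_le F hx hTT hz)
  have hz1 := mem_zc.1 hz
  -- `v ∈ ⟨n⟩`
  obtain ⟨τ, hτ, hτp⟩ := h.exists_swap F hx hx
  have hτv : τ * v * τ⁻¹ = v := by
    have h1 := hz1.2.1 τ (hTT hτ)
    have h2 := hcT τ hτ
    have h3 : τ * v * c = v * τ * c := by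
      calc τ * v * c = τ * (v * c) := by group
        _ = v * (c * τ) := by rw [h1]; group
        _ = v * τ * c := by rw [← h2]; group
    have h4 : τ * v = v * τ := mul_right_cancel h3
    rw [h4, mul_inv_cancel_right]
  have hτP := h.SP hτ.1
  have k0 : τ * pr M x (x.1, 0) * τ⁻¹ = pr M (μ x) (x.1, 0) := by
    rw [h.conj_pr hτP t.pr, hτp, Equiv.swap_apply_left, Equiv.swap_apply_of_ne_of_ne t.n2.symm t.n3.symm]
  have hne : pr M x (x.1, 0) ≠ pr M (μ x) (x.1, 0) := by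
    intro e
    have e1 : E M (pr M x (x.1, 0)) x = 1 := E_pr_left M t.pr t.n2
    rw [e, E_pr_of_ne M t.qr t.n1 t.n2] at e1
    exact zero_ne_one e1
  have hvn : ∀ s ∈ T, s * v = v * s := by
    have hv' : v = 1 ∨ v = pr M x (μ x) := by
      rcases hv with rfl | ⟨i, rfl⟩
      · exact Or.inl rfl
      · right
        fin_cases i
        · rfl
        · exfalso
          have e1 : τ * pr M x (x.1, 0) * τ⁻¹ = pr M x (x.1, 0) := hτv
          rw [k0] at e1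
          exact hne e1.symm
        · exfalso
          have e1 : τ * (pr M x (μ x) * pr M x (x.1, 0)) * τ⁻¹ = pr M x (μ x) * pr M x (x.1, 0) := hτv
          have e2 : τ * pr M x (μ x) * τ⁻¹ = pr M x (μ x) := by
            rw [mem_centralizer_singleton_iff.1 hτ.2, mul_inv_cancel_right]
          have e3 : τ * (pr M x (μ x) * pr M x (x.1, 0)) * τ⁻¹ =
              (τ * pr M x (μ x) * τ⁻¹) * (τ * pr M x (x.1, 0) * τ⁻¹) := by group
          rw [e3, e2, k0] at e1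
          exact hne (mul_left_cancel e1).symm
    intro s hs
    rcases hv' with rfl | rfl
    · rw [mul_one, one_mul]
    · exact mem_centralizer_singleton_iff.1 (hTa hs)
  refine ⟨v, hv, c, hcX, fun s hs => ?_, rfl⟩
  have h1 := hz1.2.1 s hs
  have h2 := hvn s hs
  have h3 : v * (s * c) = v * (c * s) := by
    calc v * (s * c) = (v * s) * c := by group
      _ = s * (v * c) := by rw [← h2]; group
      _ = v * (c * s) := by rw [h1]; group
  exact mul_left_cancel h3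

/-- `(zt)` over `T̂` -/
theorem ztT : ∃ a ∈ T, ∃ b ∈ ln (h.line3 (h.tri F hx)), a * b * a⁻¹ = b * pr M x (μ x) ∧ ∀ c ∈ T, c * c = 1 →
    (∀ t ∈ T, t ∈ centralizer (ln (h.line3 (h.tri F hx)) : Set G) → t * c = c * t) →
      a * c * a⁻¹ = c ∨ a * c * a⁻¹ = c * pr M x (μ x) := by
  have t := h.tri F hx
  obtain ⟨τ, hτ, hτp⟩ := h.exists_swap F hx hx
  have hτP := h.SP hτ.1
  have hE : E M (pr M x (x.1, 0)) x ≠ E M (pr M x (x.1, 0)) (μ x) := by
    rw [E_pr_left M t.pr t.n2, E_pr_of_ne M t.pr t.n1.symm t.n3]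
    exact one_ne_zero
  refine ⟨τ, hTT hτ, pr M x (x.1, 0), (h.line3 t).dd_mem 1, h.conj_swap hτP t.pq hτp (pr_mem M _ _) hE, ?_⟩
  intro c _ hcc hcom
  have hcz : c ∈ zc (o2 P) := by
    refine h.mem_zc_of F hx hcc fun y hy => hcom y (hTT (h.Q_le_tn F hx hy)) ?_
    have h1 : y ∈ centralizer (V : Set G) := by
      have := h.Q_eq ▸ hy
      exact this.2
    exact centralizer_le (h.ln_le t) h1
  obtain ⟨v, hv, d, hd, rfl⟩ := h.zz_dec zv hcz
  have hτd : τ * d * τ⁻¹ = d := by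
    rw [(mem_DD.1 hd).2 τ hτP fun r => ?_, mul_inv_cancel_right]
    rw [hτp]
    by_cases h1 : r = x
    · rw [h1, Equiv.swap_apply_left, F.mfst]
    by_cases h2 : r = μ x
    · rw [h2, Equiv.swap_apply_right, F.mfst]
    · rw [Equiv.swap_apply_of_ne_of_ne h1 h2]
  have e1 : τ * (v * d) * τ⁻¹ = (τ * v * τ⁻¹) * (τ * d * τ⁻¹) := by group
  rw [e1, hτd]
  by_cases hEv : E M v x = E M v (μ x)
  · left
    rw [h.comm_perp_of (p := x) (q := μ x) hτP (Or.inr hτp) hv hEv, mul_inv_cancel_right]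
  · right
    have h2 : pr M x (μ x) * d = d * pr M x (μ x) := Sit.zz_comm (h.VZ (pr_mem M x (μ x))) (mem_DD.1 hd).1
    rw [h.conj_swap hτP t.pq hτp hv hEv, mul_assoc, h2, ← mul_assoc]

variable (hTp : IsPGroup 2 T) (hTN : T ≤ normalizer (ln (h.line3 (h.tri F hx)) : Set G))
  (hTa : T ≤ centralizer ({pr M x (μ x)} : Set G))
  (syl : ¬ 2 ∣ T.relIndex (centralizer ({pr M x (μ x)} : Set G)))
include hTp hTN hTa syl

/-- **`OtD` over `T̂`** -/
theorem otD : OtD T (ln (h.line3 (h.tri F hx))) (h.X3 (h.tri F hx)) (pr M x (μ x)) where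
  T_p := hTp
  T_r := fun s hs => mem_centralizer_singleton_iff.1 (hTa hs)
  odd := syl
  V_T := ((h.ln_le (h.tri F hx)).trans (h.V_le_tn F hx)).trans hTT
  V_sq := fun v hv => h.Vsq (h.ln_le (h.tri F hx) hv)
  V_four := by
    have t := h.tri F hx
    intro v hv hv1 hvr w hw
    have aa := (h.line3 t).aa
    have bb := (h.line3 t).bb
    have cm := (h.line3 t).comm
    have e0 : dd (pr M x (μ x)) (pr M x (x.1, 0)) 0 = pr M x (μ x) := rfl
    have e1 : dd (pr M x (μ x)) (pr M x (x.1, 0)) 1 = pr M x (x.1, 0) := rfl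
    have e2 : dd (pr M x (μ x)) (pr M x (x.1, 0)) 2 = pr M x (μ x) * pr M x (x.1, 0) := rfl
    rcases hv with rfl | ⟨i, rfl⟩
    · exact absurd rfl hv1
    rcases hw with rfl | ⟨j, rfl⟩
    · exact Or.inl rfl
    right
    fin_cases i
    · exact absurd rfl hvr
    · fin_cases j
      · exact Or.inl rfl
      · exact Or.inr (Or.inl rfl)
      · right; right
        show dd _ _ 2 = dd _ _ 1 * _
        rw [e2, e1, cm]
    · fin_cases j
      · exact Or.inl rfl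
      · right; right
        show dd _ _ 1 = dd _ _ 2 * _
        rw [e2, e1, cm, mul_assoc, aa, mul_one]
      · exact Or.inr (Or.inl rfl)
  r_mem := (h.line3 (h.tri F hx)).dd_mem 0
  r_ne := h.pr_ne (h.tri F hx).pq (h.tri F hx).n1
  T_V := hTN
  X_V := (h.bt3 (h.tri F hx)).X_le_NV
  trans := by
    have t := h.tri F hx
    intro v hv hv1
    rcases hv with rfl | ⟨i, rfl⟩
    · exact absurd rfl hv1
    obtain ⟨y, hy, e⟩ := (h.bt3 t).trans_X_one 0 i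
    refine ⟨y, hy, ?_⟩
    have h1 : y * pr M x (μ x) * y⁻¹ ∈ pts (pr M x (μ x)) (pr M x (x.1, 0)) i := by
      rw [← e]
      exact BTwo.conj_mem_cj ((h.line3 t).mem_pts.2 (Or.inr rfl))
    exact ((h.line3 t).mem_pts.1 h1).resolve_left fun e => h.pr_ne t.pq t.n1 (conj_eq_one_iff.1 e)
  zt := h.ztT F hx hTT zv

/-- **(OT)** over `T̂` -/
theorem otT {H : Subgroup G} (hTH : T ≤ H) (hXH : h.X3 (h.tri F hx) ≤ H) :
    o2 H ≤ centralizer (ln (h.line3 (h.tri F hx)) : Set G) :=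
  (h.otD F hx hTT zv hTp hTN hTa syl).ot hTH hXH

/-- **the structure `HTT` over `T̂`** -/
theorem httT : HT.HTT T (T ⊔ h.X3 (h.tri F hx)) (ln (h.line3 (h.tri F hx)))
    (pts (pr M x (μ x)) (pr M x (x.1, 0))) 0 :=
  (h.line3 (h.tri F hx)).htt (h.bt3 (h.tri F hx)) h.char2 hTp syl hTa hTN
    (fun _ hz => h.hdecT F hx hTT zv hTa hz)
    fun _ hTM hXM _ _ => h.otT F hx hTT zv hTp hTN hTa syl hTM hXM

/-- `O₂(M_z / C(U_z)) = 1` for every `z ∈ Z₀(T̂)` -/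
theorem coreT {z : G} (hz : z ∈ zc T ⊓ centralizer ((T ⊔ h.X3 (h.tri F hx) : Subgroup G) : Set G)) :
    HT.Main.Core (ln (h.line3 (h.tri F hx))) (pts (pr M x (μ x)) (pr M x (x.1, 0))) 0 (pr M x (μ x)) z :=
  HT.EndCore.core (h.httT F hx hTT zv hTp hTN hTa syl) (fun _ => (h.line3 (h.tri F hx)).mem_pts)
    (h.otD F hx hTT zv hTp hTN hTa syl) hz

end Fr

end Cfsg.Agent.Omega.IId.SymWrD.Ht
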