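import Cfsg.Agent.Mrg.Omega.IId.SymWrD.Ht.Line
import Cfsg.Agent.Mrg.Omega.HT.Main
import Cfsg.Agent.Mrg.Omega.FFMutual

section


/-!
# II.d, `SwBig` and `SwCv`, T-T, `D` arbitrary: LEMMA J (bb OMEGA #20002, helper666) and `HTT` over `T = C_S(n)`

Copy of `SymWr/Ht/LemJ.lean` (helper916).
Hypotheses: `zv` : `Ω₁Z(O₂(P)) ≤ V ⊔ DD M`; `syl` : `T` has odd index in `C_G(n)`.
* `Fr.lemJ` : `K` normalised by `T` and `X`, `N_K(V_l)` trivial on `V_l`, `⟹` `T` has odd index in `T K`;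
* `Fr.htt` : `HTT T (T ⊔ X) V_l R 0`; `Fr.core` : `Core` for every `z ∈ Z₀`.
-/

set_option autoImplicit false
set_option linter.unusedSectionVars false

namespace Cfsg.Agent.Omega.IId.SymWrD.Ht

open Subgroup Cfsg Cfsg.Agent.Omega.MinPar Cfsg.Agent.Omega.FFThm
open Cfsg.Agent.ZN (o2 zc)
open Cfsg.Agent.Omega.Half (Amb amb_of_loc)
open Cfsg.Agent.Omega.Half.SymA (Pt E Mv pm)
open Cfsg.Agent.Omega.HT.LineOf (Ln ln pts dd)
open Cfsg.Agent.Omega.BTwo (BT XX WW QQ O2)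
open Cfsg.Agent.MinSimple.VModule (le_normalizer_o2 o2_isPGroup o2_le mem_zc zc_le)

universe u

variable {G : Type u} [Group G] [Finite G] {k m : ℕ}

namespace Fr

variable {S : Sylow 2 G} {P V D : Subgroup G} {M : SymK (S : Subgroup G) P V ⊥ k m} (h : Fr S P V D M)
  {μ ν : Equiv.Perm (Pt k m)} (F : Fours M μ ν) {x : Pt k m} (hx : x.2 ≠ 0)
  (zv : zc (o2 P) ≤ V ⊔ DD M) (syl : ¬ 2 ∣ (tn S M μ x).relIndex (centralizer ({pr M x (μ x)} : Set G)))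
include h F hx zv syl

omit h F hx zv syl in
theorem tn_p : IsPGroup 2 (tn S M μ x) := S.isPGroup'.to_le inf_le_left

/-- **LEMMA J** -/
theorem lemJ {K : Subgroup G} (hT : tn S M μ x ≤ normalizer (K : Set G))
    (hK : ∀ g ∈ K, g ∈ normalizer (ln (h.line3 (h.tri F hx)) : Set G) →
      g ∈ centralizer (ln (h.line3 (h.tri F hx)) : Set G)) :
    ¬ 2 ∣ (tn S M μ x).relIndex (tn S M μ x ⊔ K) := by
  have t := h.tri F hx
  intro hdvd
  obtain ⟨R, hTR, hRle, hR, hRodd⟩ := HT.exists_syl (S := tn S M μ x) (P := tn S M μ x ⊔ K) tn_p le_sup_left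
  have hlt : tn S M μ x < R := by
    refine lt_of_le_of_ne hTR fun e => hRodd ?_
    rw [← e]; exact hdvd
  obtain ⟨g, hgR, hgN, hgT, hg2⟩ := MinSimple.Choice97.exists_normalizing hR hlt
  obtain ⟨s, hs, b, hb, rfl⟩ := mem_sup_norm hT (hRle hgR)
  -- `b` normalises `T`
  have hbN : b ∈ normalizer (tn S M μ x : Set G) := by
    have h1 := mul_mem (inv_mem (le_normalizer hs)) hgN
    rwa [inv_mul_cancel_left] at h1
  have hbT : b ∉ tn S M μ x := fun e => hgT (mul_mem hs e)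
  have hbR : b ∈ R := by
    have h1 := mul_mem (inv_mem (hTR hs)) hgR
    rwa [inv_mul_cancel_left] at h1
  have hTb : ∀ c ∈ tn S M μ x, b * c * b⁻¹ ∈ tn S M μ x := fun c hc => (mem_normalizer_iff.1 hbN c).1 hc
  have hTb' : ∀ c ∈ tn S M μ x, b⁻¹ * c * b ∈ tn S M μ x := fun c hc => by
    have := (mem_normalizer_iff.1 (inv_mem hbN) c).1 hc
    rwa [inv_inv] at this
  have hKs : ∀ c ∈ tn S M μ x, ∀ y ∈ K, c * y * c⁻¹ ∈ K := fun c hc y hy => (mem_normalizer_iff.1 (hT hc) y).1 hy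
  -- `[b, c] ∈ K ∩ T`
  have hcomm : ∀ c ∈ tn S M μ x, c⁻¹ * b * c * b⁻¹ ∈ K ⊓ tn S M μ x := fun c hc => by
    refine mem_inf.2 ⟨?_, ?_⟩
    · have h1 := hKs c⁻¹ (inv_mem hc) b hb
      rw [inv_inv] at h1
      exact mul_mem h1 (inv_mem hb)
    · have h1 := mul_mem (inv_mem hc) (hTb c hc)
      have e : c⁻¹ * (b * c * b⁻¹) = c⁻¹ * b * c * b⁻¹ := by group
      rwa [e] at h1
  -- the elements of `V` commuting with `K ∩ T`
  have hW : ∀ v ∈ V, (∀ c ∈ K ⊓ tn S M μ x, c * v = v * c) →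
      b * v * b⁻¹ ∈ zc (o2 P) ∧ ∀ c ∈ K ⊓ tn S M μ x, c * (b * v * b⁻¹) = b * v * b⁻¹ * c := by
    intro v hv hc
    have hb1 : ∀ c ∈ K ⊓ tn S M μ x, b⁻¹ * c * b ∈ K ⊓ tn S M μ x := fun c hc =>
      mem_inf.2 ⟨mul_mem (mul_mem (inv_mem hb) hc.1) hb, hTb' c hc.2⟩
    have hcom : ∀ c ∈ K ⊓ tn S M μ x, c * (b * v * b⁻¹) = b * v * b⁻¹ * c := by
      intro c hc1
      have h1 := hc _ (hb1 c hc1)
      calc c * (b * v * b⁻¹) = b * (b⁻¹ * c * b * v) * b⁻¹ := by group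
        _ = b * (v * (b⁻¹ * c * b)) * b⁻¹ := by rw [h1]
        _ = b * v * b⁻¹ * c := by group
    refine ⟨h.mem_zc_of F hx ?_ ?_, hcom⟩
    · have hvv := h.Vsq hv
      calc b * v * b⁻¹ * (b * v * b⁻¹) = b * (v * v) * b⁻¹ := by group
        _ = 1 := by rw [hvv]; group
    · intro y hy
      have hyT := h.Q_le_tn F hx hy
      have hyv : y * v = v * y := by
        have h1 : y ∈ centralizer (V : Set G) := by
          have := h.Q_eq ▸ hy
          exact this.2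
        exact (mem_centralizer_iff.1 h1 v hv).symm
      have h1 : b⁻¹ * (y⁻¹ * b * y * b⁻¹) * b ∈ K ⊓ tn S M μ x := hb1 _ (hcomm y hyT)
      have h2 := hc _ h1
      -- `b⁻¹ y b = y (b⁻¹ y⁻¹ b y b⁻¹ b)⁻¹ ...`
      have e1 : b⁻¹ * y * b = y * (b⁻¹ * (y⁻¹ * b * y * b⁻¹) * b)⁻¹ := by group
      have h3 : (b⁻¹ * (y⁻¹ * b * y * b⁻¹) * b)⁻¹ * v = v * (b⁻¹ * (y⁻¹ * b * y * b⁻¹) * b)⁻¹ :=
        ((show Commute _ v from h2).inv_left).eq
      have h4 : b⁻¹ * y * b * v = v * (b⁻¹ * y * b) := by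
        rw [e1, mul_assoc, h3, ← mul_assoc, hyv, mul_assoc]
      calc y * (b * v * b⁻¹) = b * (b⁻¹ * y * b * v) * b⁻¹ := by group
        _ = b * (v * (b⁻¹ * y * b)) * b⁻¹ := by rw [h4]
        _ = b * v * b⁻¹ * y := by group
  -- the points of the line
  have hT1 : ∀ v ∈ ln (h.line3 t), ∀ c ∈ K ⊓ tn S M μ x, c * v = v * c := fun v hv c hc =>
    (mem_centralizer_iff.1 (hK c hc.1 (h.tn_norm F hx hc.2)) v hv).symm
  have hAl : pr M x (μ x) ∈ ln (h.line3 t) := (h.line3 t).dd_mem 0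
  have hBl : pr M x (x.1, 0) ∈ ln (h.line3 t) := (h.line3 t).dd_mem 1
  obtain ⟨hA', -⟩ := hW _ (pr_mem M _ _) (hT1 _ hAl)
  obtain ⟨hB', hB''⟩ := hW _ (pr_mem M _ _) (hT1 _ hBl)
  obtain ⟨A, hA⟩ : ∃ A, A = pr M x (μ x) := ⟨_, rfl⟩
  obtain ⟨B, hB⟩ : ∃ B, B = pr M x (x.1, 0) := ⟨_, rfl⟩
  rw [← hA] at hA'
  rw [← hB] at hB' hB''
  -- the transposition
  obtain ⟨τ, hτ, hτp⟩ := h.exists_swap F hx hx
  have hτP := h.SP hτ.1
  have hEB : E M B x ≠ E M B (μ x) := by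
    rw [hB, E_pr_left M t.pr t.n2, E_pr_of_ne M t.pr t.n1.symm t.n3]
    exact one_ne_zero
  have hBV : B ∈ V := by rw [hB]; exact pr_mem M _ _
  have k1 : τ * B * τ⁻¹ = B * A := by
    rw [h.conj_swap hτP t.pq hτp hBV hEB, hA]
  -- `b τ b⁻¹ = τ c`
  obtain ⟨c, hc⟩ : ∃ c, c = τ⁻¹ * b * τ * b⁻¹ := ⟨_, rfl⟩
  have hcK : c ∈ K ⊓ tn S M μ x := by rw [hc]; exact hcomm τ hτ
  have k2 : τ * (b * B * b⁻¹) * τ⁻¹ = b * B * b⁻¹ * (b * A * b⁻¹) := by
    have k3 := hB'' c hcK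
    calc τ * (b * B * b⁻¹) * τ⁻¹ = τ * (b * B * b⁻¹ * c) * c⁻¹ * τ⁻¹ := by group
      _ = τ * (c * (b * B * b⁻¹)) * c⁻¹ * τ⁻¹ := by rw [k3]
      _ = b * (τ * B * τ⁻¹) * b⁻¹ := by rw [hc]; group
      _ = b * B * b⁻¹ * (b * A * b⁻¹) := by rw [k1]; group
  have hA1 : A ≠ 1 := by rw [hA]; exact h.pr_ne t.pq t.n1
  have hbA1 : b * A * b⁻¹ ≠ 1 := fun e => hA1 (conj_eq_one_iff.1 e)
  have k4 : b * A * b⁻¹ = A := by
    obtain ⟨v, hv, d, hd, hvd⟩ := h.zz_dec zv hB'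
    have hτd : τ * d * τ⁻¹ = d := by
      rw [(mem_DD.1 hd).2 τ hτP fun r => ?_, mul_inv_cancel_right]
      rw [hτp]
      by_cases h1 : r = x
      · rw [h1, Equiv.swap_apply_left, F.mfst]
      by_cases h2 : r = μ x
      · rw [h2, Equiv.swap_apply_right, F.mfst]
      · rw [Equiv.swap_apply_of_ne_of_ne h1 h2]
    have hτz : τ * (b * B * b⁻¹) * τ⁻¹ = τ * v * τ⁻¹ * d := by
      calc τ * (b * B * b⁻¹) * τ⁻¹ = τ * v * τ⁻¹ * (τ * d * τ⁻¹) := by rw [hvd]; group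
        _ = τ * v * τ⁻¹ * d := by rw [hτd]
    rw [hτz] at k2
    by_cases hE : E M v x = E M v (μ x)
    · exfalso
      have h1 := h.comm_perp_of (p := x) (q := μ x) hτP (Or.inr hτp) hv hE
      rw [h1, mul_inv_cancel_right, ← hvd] at k2
      exact hbA1 (mul_left_cancel (k2.symm.trans (mul_one _).symm))
    · have h1 := h.conj_swap hτP t.pq hτp hv hE
      have hA2 : A ∈ V := by rw [hA]; exact pr_mem M _ _
      have h2 : A * d = d * A := Sit.zz_comm (h.VZ hA2) (mem_DD.1 hd).1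
      rw [h1, ← hA, mul_assoc, h2, ← mul_assoc, ← hvd] at k2
      exact (mul_left_cancel k2).symm
  -- `T ⟨b⟩ ≤ C(n)`
  have hbC : b ∈ centralizer ({pr M x (μ x)} : Set G) := by
    rw [← hA, mem_centralizer_singleton_iff]
    exact mul_inv_eq_iff_eq_mul.1 k4
  have hle : tn S M μ x ⊔ zpowers b ≤ centralizer ({pr M x (μ x)} : Set G) :=
    sup_le inf_le_right (by rw [zpowers_le]; exact hbC)
  have hp : IsPGroup 2 (tn S M μ x ⊔ zpowers b : Subgroup G) :=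
    hR.to_le (sup_le hTR (by rw [zpowers_le]; exact hbR))
  have h1 := HT.card_dvd_card (inf_le_right : tn S M μ x ≤ _) syl hp hle
  have h2 : tn S M μ x = tn S M μ x ⊔ zpowers b := eq_of_le_of_card_ge le_sup_left (Nat.le_of_dvd Nat.card_pos h1)
  exact hbT (h2.symm.le (mem_sup_right (mem_zpowers b)))

/-- LEMMA J in the form of `LineOf.loc_of`, `LineOf.core_of_J` -/
theorem lemJ' {K : Subgroup G} (hT : tn S M μ x ≤ normalizer (K : Set G))
    (hX : h.X3 (h.tri F hx) ≤ normalizer (K : Set G))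
    (hK : ∀ g ∈ K, ∃ n : ℕ, g ^ 2 ^ n ∈ centralizer (ln (h.line3 (h.tri F hx)) : Set G)) :
    ¬ 2 ∣ (tn S M μ x).relIndex (tn S M μ x ⊔ K) :=
  h.lemJ F hx zv syl hT fun _ hg hgN =>
    (h.line3 (h.tri F hx)).cen_of (h.bt3 (h.tri F hx)) hX (fun g hg _ => hK g hg) hg hgN

/-- the structure `HTT` over `T = C_S(n)` -/
theorem htt : HT.HTT (tn S M μ x) (tn S M μ x ⊔ h.X3 (h.tri F hx)) (ln (h.line3 (h.tri F hx)))
    (pts (pr M x (μ x)) (pr M x (x.1, 0))) 0 := by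
  have t := h.tri F hx
  refine (h.line3 t).htt (h.bt3 t) h.char2 tn_p syl inf_le_right (h.tn_norm F hx)
    (fun z hz => h.hdec F hx zv hz) ?_
  intro M' hTM hXM _ _
  exact HT.LineOf.loc_of (h.line3 t) (h.bt3 t) tn_p (h.tn_norm F hx)
    (fun K h1 h2 h3 => h.lemJ' F hx zv syl h1 h2 h3) hTM hXM

/-- the point `R 0` -/
theorem R_zero : ∀ y, y ∈ pts (pr M x (μ x)) (pr M x (x.1, 0)) 0 ↔ y = 1 ∨ y = pr M x (μ x) := fun _ =>
  (h.line3 (h.tri F hx)).mem_pts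

/-- `O₂(M_z / C(U_z)) = 1` for every `z ∈ Z₀` -/
theorem core {z : G} (hz : z ∈ zc (tn S M μ x) ⊓
    centralizer ((tn S M μ x ⊔ h.X3 (h.tri F hx) : Subgroup G) : Set G)) :
    HT.Main.Core (ln (h.line3 (h.tri F hx))) (pts (pr M x (μ x)) (pr M x (x.1, 0))) 0 (pr M x (μ x)) z :=
  HT.LineOf.core_of_J (h.htt F hx zv syl) (h.R_zero F hx zv syl) hz
    fun K h1 h2 h3 => h.lemJ' F hx zv syl h1 h2 h3

end Fr

end Cfsg.Agent.Omega.IId.SymWrD.Ht

end

section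


/-!
# II.d, `SwBig` and `SwCv`, T-T, `D` arbitrary: the sibling `34` of the duad `12`

Copy of `SymWr/Ht/Odd.lean` (helper916).

* `mem_tn_iff` : `T = C_S(12)` is the stabiliser of `{1, 2}` in `S`; `tn_nu` : `C_S(12) = C_S(34)`;
* `Fr.mem_Z0'` : `v d ∈ Z₀` for `v ∈ V`, `d ∈ DD M` commuting with `T`, `v` zero on the line; `Fr.sib_mem` : `34 ∈ Z₀`;
  `Fr.odd_MZ` : `T` has odd index in `⟨C(Ω₁Z(T)), X⟩`.
-/

set_option autoImplicit false
set_option linter.unusedSectionVars false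

namespace Cfsg.Agent.Omega.IId.SymWrD.Ht

open Subgroup Cfsg Cfsg.Agent.Omega.MinPar Cfsg.Agent.Omega.FFThm
open Cfsg.Agent.ZN (o2 zc)
open Cfsg.Agent.Omega.Half (Amb amb_of_loc)
open Cfsg.Agent.Omega.Half.SymA (Pt E Mv pm)
open Cfsg.Agent.Omega.HT.LineOf (Ln ln pts dd)
open Cfsg.Agent.Omega.BTwo (BT XX WW QQ O2)
open Cfsg.Agent.MinSimple.VModule (le_normalizer_o2 o2_isPGroup o2_le mem_zc zc_le)

universe u

variable {G : Type u} [Group G] [Finite G] {k m : ℕ}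

namespace Fr

variable {S : Sylow 2 G} {P V D : Subgroup G} {M : SymK (S : Subgroup G) P V ⊥ k m} (h : Fr S P V D M)
  {μ ν : Equiv.Perm (Pt k m)} (F : Fours M μ ν) {x : Pt k m} (hx : x.2 ≠ 0)
include h F hx

theorem mem_tn_iff {s : G} : s ∈ tn S M μ x ↔ s ∈ (S : Subgroup G) ∧ (pp M s x = x ∨ pp M s x = μ x) := by
  constructor
  · intro hs
    refine ⟨hs.1, ?_⟩
    rcases h.tn_pp F hx hs with e | e
    · exact Or.inl e.1
    · exact Or.inr e.1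
  · rintro ⟨hs, e⟩
    refine mem_inf.2 ⟨hs, mem_centralizer_singleton_iff.2 (h.comm_pr (h.SP hs) (F.mfst x).symm ?_)⟩
    have h1 := F.meqv s hs x
    rcases e with e | e
    · left
      rw [e] at h1
      exact ⟨e, h1⟩
    · right
      rw [e, F.msq] at h1
      exact ⟨e, h1⟩

theorem nu_ne : (ν x).2 ≠ 0 := fun e => hx (F.nnz.1 e)

/-- `C_S(12) = C_S(34)` -/
theorem tn_nu : tn S M μ (ν x) = tn S M μ x := by
  have hn := h.nu_ne F hx
  have key : ∀ {y : Pt k m}, y.2 ≠ 0 → ∀ s ∈ (S : Subgroup G), (pp M s y = y ∨ pp M s y = μ y) →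
      (pp M s (ν y) = ν y ∨ pp M s (ν y) = μ (ν y)) := by
    intro y hy s hs e
    rcases F.neqv s hs y with e1 | e1 <;> rcases e with e | e <;> rw [e] at e1
    · exact Or.inl e1
    · exact Or.inr (e1.trans (F.comm y).symm)
    · exact Or.inr e1
    · left
      rw [e1, ← F.comm, F.msq]
  ext s
  rw [h.mem_tn_iff F hx, h.mem_tn_iff F hn]
  constructor
  · rintro ⟨hs, e⟩
    refine ⟨hs, ?_⟩
    have h1 := key hn s hs e
    rwa [F.nsq] at h1
  · rintro ⟨hs, e⟩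
    exact ⟨hs, key hx s hs e⟩

/-- the elements of `V` which vanish on the line and commute with `T` lie in `Z₀` -/
theorem mem_Z0 {c : G} (hc : c ∈ V) (hT : ∀ s ∈ tn S M μ x, s * c = c * s) (h1 : E M c x = 0)
    (h2 : E M c (μ x) = 0) (h3 : E M c (x.1, 0) = 0) :
    c ∈ zc (tn S M μ x) ⊓ centralizer ((tn S M μ x ⊔ h.X3 (h.tri F hx) : Subgroup G) : Set G) := by
  refine mem_inf.2 ⟨mem_zc.2 ⟨h.V_le_tn F hx hc, hT, by rw [pow_two]; exact h.Vsq hc⟩, ?_⟩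
  have hle : tn S M μ x ⊔ h.X3 (h.tri F hx) ≤ centralizer ({c} : Set G) := by
    refine sup_le (fun s hs => mem_centralizer_singleton_iff.2 (hT s hs)) fun y hy =>
      mem_centralizer_singleton_iff.2 (h.X_comm (h.tri F hx) hc (by rw [h1, h2]) (by rw [h1, h3]) hy)
  exact mem_centralizer_iff.2 fun y hy => mem_centralizer_singleton_iff.1 (hle hy)

/-- the elements `v d`, `v ∈ V` zero on the line, `d ∈ DD M`, commuting with `T`, lie in `Z₀` -/
theorem mem_Z0' {c d : G} (hc : c ∈ V) (hd : d ∈ DD M) (hT : ∀ s ∈ tn S M μ x, s * c = c * s)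
    (hTd : ∀ s ∈ tn S M μ x, s * d = d * s) (h1 : E M c x = 0) (h2 : E M c (μ x) = 0) (h3 : E M c (x.1, 0) = 0) :
    c * d ∈ zc (tn S M μ x) ⊓ centralizer ((tn S M μ x ⊔ h.X3 (h.tri F hx) : Subgroup G) : Set G) := by
  refine mul_mem (h.mem_Z0 F hx hc hT h1 h2 h3) (mem_inf.2 ⟨mem_zc.2 ⟨?_, hTd, ?_⟩, ?_⟩)
  · exact h.Q_le_tn F hx (zc_le _ (mem_DD.1 hd).1)
  · rw [pow_two]; exact Sit.zz_sq (mem_DD.1 hd).1
  · have hle : tn S M μ x ⊔ h.X3 (h.tri F hx) ≤ centralizer ({d} : Set G) :=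
      sup_le (fun s hs => mem_centralizer_singleton_iff.2 (hTd s hs)) fun y hy =>
        mem_centralizer_singleton_iff.2 (h.X_DD (h.tri F hx) hd hy)
    exact mem_centralizer_iff.2 fun y hy => mem_centralizer_singleton_iff.1 (hle hy)

/-- `34 ∈ Z₀` -/
theorem sib_mem : pr M (ν x) (μ (ν x)) ∈ zc (tn S M μ x) ⊓
    centralizer ((tn S M μ x ⊔ h.X3 (h.tri F hx) : Subgroup G) : Set G) := by
  have hn := h.nu_ne F hx
  have e1 : (ν x).1 = (μ (ν x)).1 := (F.mfst _).symm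
  refine h.mem_Z0 F hx (pr_mem M _ _) (fun s hs => ?_) ?_ ?_ ?_
  · rw [← h.tn_nu F hx] at hs
    exact mem_centralizer_singleton_iff.1 hs.2
  · refine E_pr_of_ne M e1 (fun e => F.nne x hx e.symm) (fun e => F.nmu x hx ?_)
    have := congrArg μ e
    rw [F.msq] at this
    exact this.symm
  · refine E_pr_of_ne M e1 (fun e => F.nmu x hx e.symm) (fun e => F.nne x hx (μ.injective e).symm)
  · refine E_pr_of_ne M e1 (fun e => hn ?_) (fun e => hn ?_)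
    · rw [← e]
    · rw [← F.mnz, ← e]

theorem sib_ne : pr M (ν x) (μ (ν x)) ≠ 1 :=
  h.pr_ne (F.mfst _).symm (F.mne _ (h.nu_ne F hx)).symm

variable (zv : zc (o2 P) ≤ V ⊔ DD M)
  (syl : ∀ {y : Pt k m}, y.2 ≠ 0 → ¬ 2 ∣ (tn S M μ y).relIndex (centralizer ({pr M y (μ y)} : Set G)))
include zv syl

/-- `T` has odd index in `⟨C(Ω₁Z(T)), X⟩` -/
theorem odd_MZ : ¬ 2 ∣ (tn S M μ x).relIndex
    (HT.JunAB.MZ (tn S M μ x) (ln (h.line3 (h.tri F hx))) (pts (pr M x (μ x)) (pr M x (x.1, 0)))) := by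
  have hn := h.nu_ne F hx
  have b := h.htt F hx zv (syl hx)
  have h1 := HT.JunAB.MZ_le b (h.sib_mem F hx)
  have h2 : tn S M μ x ≤
      HT.JunAB.MZ (tn S M μ x) (ln (h.line3 (h.tri F hx))) (pts (pr M x (μ x)) (pr M x (x.1, 0))) := by
    refine le_trans (fun t ht => ?_) le_sup_left
    exact mem_centralizer_iff.2 fun y hy => ((mem_zc.1 hy).2.1 t ht).symm
  intro hd
  apply syl hn
  rw [h.tn_nu F hx, ← relIndex_mul_relIndex _ _ _ h2 h1]
  exact hd.mul_right _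

end Fr

end Cfsg.Agent.Omega.IId.SymWrD.Ht

end

section


/-!
# II.d, `SwCv`, T-T, `D` arbitrary: LEMMA C (THEOREM SYL^, helper916)

`ZZ = Ω₁Z(O₂(P))`, `R` a 2-group, `T = C_S(n) ≤ R ≤ N_G(ZZ)`.

* `Fr.trv` : the elements of `S` acting as transvections on `V` (resp. on `ZZ`) have centre `pr M c (μ c)`;
* `Fr.lemC_cen` : the same for `R`;
* `Fr.lemC_le` : `R ≤ C_G(n)` implies `R ≤ T`.
-/

set_option autoImplicit false
set_option linter.unusedSectionVars false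

namespace Cfsg.Agent.Omega.IId.SymWrD.Ht

open Subgroup Cfsg Cfsg.Agent.Omega.MinPar Cfsg.Agent.Omega.FFThm
open Cfsg.Agent.ZN (o2 zc)
open Cfsg.Agent.ZN.ChoiceBase (cj mem_cj)
open Cfsg.Agent.Omega.Half (Amb amb_of_loc)
open Cfsg.Agent.Omega.Half.SymA (Pt E Mv pm)
open Cfsg.Agent.MinSimple.VModule (le_normalizer_o2 o2_isPGroup o2_le mem_zc zc_le normalizer_le_normalizer_zc)

universe u

variable {G : Type u} [Group G] {k m : ℕ}

namespace Fr

variable {S : Sylow 2 G} {P V D : Subgroup G} {M : SymK (S : Subgroup G) P V ⊥ k m} (h : Fr S P V D M)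
  {μ ν : Equiv.Perm (Pt k m)} (F : Fours M μ ν)
include h

theorem pp_zero {s : G} (hs : s ∈ (S : Subgroup G)) (c : Pt k m) : pp M s (c.1, 0) = ((pp M s c).1, 0) :=
  Prod.ext (h.fst (h.SP hs) rfl) ((h.snd hs).2 rfl)

theorem conj_zz {s : G} (hs : s ∈ (S : Subgroup G)) (c : Pt k m) :
    s * pr M (c.1, 0) c * s⁻¹ = pr M ((pp M s c).1, 0) (pp M s c) := by
  rw [h.conj_pr (h.SP hs) (p := (c.1, 0)) (q := c) rfl, h.pp_zero hs]

omit h in
open scoped Classical in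
theorem E_zz (M : SymK (S : Subgroup G) P V ⊥ k m) {c q : Pt k m} (hq : q.2 ≠ 0) :
    E M (pr M (c.1, 0) c) q = if q = c then 1 else 0 := by
  rw [E_pr M (p := (c.1, 0)) (q := c) rfl, if_neg (fun h0 : q = (c.1, 0) => hq (by rw [h0])), zero_add]

omit h in
theorem exists_pt4 (hm : 2 ≤ m) (l : Fin k) (s : Finset (Pt k m)) (hs : s.card ≤ 4) :
    ∃ p : Pt k m, p.1 = l ∧ p ∉ s := by
  classical
  by_contra hcon
  push Not at hcon
  have h1 : (Finset.univ : Finset (Fin (2 ^ m + 1))).image (fun x => ((l, x) : Pt k m)) ⊆ s := by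
    intro p hp
    obtain ⟨x, -, rfl⟩ := Finset.mem_image.1 hp
    exact hcon _ rfl
  have h2 := Finset.card_le_card h1
  rw [Finset.card_image_of_injective _ (fun x y hxy => (Prod.mk.inj hxy).2), Finset.card_univ, Fintype.card_fin] at h2
  have h3 : 2 ^ 2 ≤ 2 ^ m := Nat.pow_le_pow_right (by norm_num) hm
  omega

include F in
/-- **The centres of the elements of `S` acting as transvections on `V`.** -/
theorem trv {s r : G} (hs : s ∈ (S : Subgroup G)) (h1 : ∀ v ∈ V, s * v * s⁻¹ = v ∨ s * v * s⁻¹ = v * r)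
    (h2 : ∃ c : Pt k m, c.2 ≠ 0 ∧ pp M s c ≠ c) :
    ∃ c : Pt k m, c.2 ≠ 0 ∧ r = pr M c (μ c) ∧ pp M s c = μ c := by
  classical
  -- the moved points
  have hr : ∀ c : Pt k m, c.2 ≠ 0 → pp M s c ≠ c →
      r = pr M (c.1, 0) c * pr M ((pp M s c).1, 0) (pp M s c) := by
    intro c hc hmv
    have h3 : s * pr M (c.1, 0) c * s⁻¹ = pr M (c.1, 0) c * r := by
      refine (h1 _ (pr_mem M _ _)).resolve_left fun h0 => ?_
      rw [h.conj_zz hs] at h0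
      have h4 := congrArg (fun v => E M v c) h0
      simp only [E_zz M hc] at h4
      rw [if_neg hmv.symm] at h4
      exact zero_ne_one h4
    rw [h.conj_zz hs] at h3
    rw [h3, ← mul_assoc, h.Vsq (pr_mem M _ _), one_mul]
  have hEr : ∀ c : Pt k m, c.2 ≠ 0 → pp M s c ≠ c → ∀ q : Pt k m, q.2 ≠ 0 →
      E M r q = (if q = c then 1 else 0) + (if q = pp M s c then 1 else 0) := by
    intro c hc hmv q hq
    rw [hr c hc hmv, Half.SymA.E_mul M (pr_mem M _ _) (pr_mem M _ _), E_zz M hq, E_zz M hq]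
  obtain ⟨c, hc, hmv⟩ := h2
  have hEc : E M r c = 1 := by
    rw [hEr c hc hmv c hc, if_neg hmv.symm, if_pos rfl, add_zero]
  -- step 1
  have hblk : (pp M s c).1 = c.1 := by
    by_contra hne
    obtain ⟨c₂, hc₂, hc₂s⟩ := exists_pt4 h.hm c.1 ({(c.1, 0), c} : Finset (Pt k m))
      (Finset.card_le_two.trans (by norm_num))
    rw [Finset.mem_insert, Finset.mem_singleton, not_or] at hc₂s
    obtain ⟨h3, h4⟩ := hc₂s
    have h6 : c₂.2 ≠ 0 := fun h0 => h3 (Prod.ext hc₂ h0)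
    have h7 : (pp M s c₂).1 = (pp M s c).1 := h.fst (h.SP hs) hc₂
    have h8 : pp M s c₂ ≠ c₂ := fun h0 => hne (by rw [← h7, h0, hc₂])
    have h9 := hEr c₂ h6 h8 c hc
    rw [if_neg (fun h0 : c = pp M s c₂ => hne (by rw [← h7, ← h0])), if_neg (fun h0 : c = c₂ => h4 h0.symm), hEc,
      add_zero] at h9
    exact one_ne_zero h9
  -- step 2
  have hμc : (μ c).2 ≠ 0 := fun h0 => hc (F.mnz.1 h0)
  have hμm : pp M s (μ c) ≠ μ c := fun h0 => hmv (μ.injective (by rw [← F.meqv s hs, h0]))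
  have h3 := hEr (μ c) hμc hμm c hc
  rw [hEc, if_neg (F.mne c hc).symm, zero_add, F.meqv s hs] at h3
  have h4 : c = μ (pp M s c) := by
    by_contra h0
    rw [if_neg h0] at h3
    exact one_ne_zero h3
  have h5 : pp M s c = μ c := by rw [h4, F.msq, ← h4]
  refine ⟨c, hc, ?_, h5⟩
  rw [hr c hc hmv, h5, F.mfst, pr_comm M (p := (c.1, 0)) (q := c) rfl,
    pr_mul M (p := c) (q := (c.1, 0)) (r := μ c) rfl (F.mfst c).symm]

/-- an element of `S` fixing all letters `≠ 0` centralises `ZZ` -/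
theorem comm_zz_of_fix {s : G} (hs : s ∈ (S : Subgroup G)) (h1 : ∀ c : Pt k m, c.2 ≠ 0 → pp M s c = c) {z : G}
    (hz : z ∈ zc (o2 P)) : s * z = z * s := by
  have h2 : pp M s = 1 := by
    ext1 q
    by_cases hq : q.2 = 0
    · obtain ⟨c, hc, hcs⟩ := exists_pt4 h.hm q.1 ({(q.1, 0)} : Finset (Pt k m)) (by simp)
      rw [Finset.mem_singleton] at hcs
      have hc0 : c.2 ≠ 0 := fun h0 => hcs (Prod.ext hc h0)
      have h4 := h.pp_zero hs c
      rw [h1 c hc0, hc] at h4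
      have h5 : q = (q.1, 0) := Prod.ext rfl hq
      rw [h5, h4]
      rfl
    · exact h1 q hq
  have h3 := (h.mem_Q_iff hs).2 h2
  exact (mem_zc.1 hz).2.1 s h3

theorem P_le_NZZ : P ≤ normalizer (zc (o2 P) : Set G) :=
  (le_normalizer_o2 P).trans (normalizer_le_normalizer_zc _)

section fin

variable [Finite G] (zv : zc (o2 P) ≤ V ⊔ DD M)

omit F h in
theorem swap_fst_eq {p q : Pt k m} (hpq : p.1 = q.1) (r : Pt k m) : (Equiv.swap p q r).1 = r.1 := by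
  by_cases h1 : r = p
  · rw [h1, Equiv.swap_apply_left, hpq]
  by_cases h2 : r = q
  · rw [h2, Equiv.swap_apply_right, hpq]
  · rw [Equiv.swap_apply_of_ne_of_ne h1 h2]

include zv in
/-- the action on `ZZ` of an element inducing `(p q)` -/
theorem swap_zz {g : G} (hgP : g ∈ P) {p q : Pt k m} (hpq : p.1 = q.1) (hg : pp M g = Equiv.swap p q) {z : G}
    (hz : z ∈ zc (o2 P)) : g * z * g⁻¹ = z ∨ g * z * g⁻¹ = z * pr M p q := by
  obtain ⟨v, hv, d, hd, rfl⟩ := h.zz_dec zv hz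
  have hgd : g * d * g⁻¹ = d := by
    rw [(mem_DD.1 hd).2 g hgP fun r => ?_, mul_inv_cancel_right]
    rw [hg]; exact swap_fst_eq hpq r
  have e : g * (v * d) * g⁻¹ = g * v * g⁻¹ * d := by
    calc g * (v * d) * g⁻¹ = g * v * g⁻¹ * (g * d * g⁻¹) := by group
      _ = g * v * g⁻¹ * d := by rw [hgd]
  rw [e]
  by_cases hE : E M v p = E M v q
  · left
    rw [h.comm_perp_of (p := p) (q := q) hgP (Or.inr hg) hv hE, mul_inv_cancel_right]
  · right
    rw [h.conj_swap hgP hpq hg hv hE, mul_assoc, mul_assoc,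
      Sit.zz_comm (h.VZ (pr_mem M p q)) (mem_DD.1 hd).1]

variable {x : Pt k m} (hx : x.2 ≠ 0)
include F hx zv

/-- the group `R` -/
theorem lemC_exists {R : Subgroup G} (hR : IsPGroup 2 R) (hTR : tn S M μ x ≤ R)
    (hRN : R ≤ normalizer (zc (o2 P) : Set G)) : ∃ g ∈ normalizer (zc (o2 P) : Set G),
      (∀ y ∈ R, g * y * g⁻¹ ∈ (S : Subgroup G)) ∧
      ∀ c : Pt k m, c.2 ≠ 0 → ∃ c' : Pt k m, c'.2 ≠ 0 ∧ g * pr M c (μ c) * g⁻¹ = pr M c' (μ c') := by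
  obtain ⟨g, hg, hgR⟩ := FFThm.exists_conj_le S (h.SP.trans h.P_le_NZZ) hR hRN
  have hgR' : ∀ y ∈ R, g * y * g⁻¹ ∈ (S : Subgroup G) := fun y hy =>
    hgR (by rw [mem_cj]; convert hy using 1; group)
  refine ⟨g, hg, hgR', fun c hc => ?_⟩
  obtain ⟨τ, hτ, hτp⟩ := h.exists_swap F hx hc
  have hτP := h.SP hτ.1
  have hcc : c.1 = (μ c).1 := (F.mfst c).symm
  have hs := hgR' τ (hTR hτ)
  have hgi : ∀ z ∈ zc (o2 P), g⁻¹ * z * g ∈ zc (o2 P) := fun z hz => by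
    have := (mem_normalizer_iff.1 (inv_mem hg) z).1 hz
    rwa [inv_inv] at this
  have key : ∀ z ∈ zc (o2 P), g * τ * g⁻¹ * z * (g * τ * g⁻¹)⁻¹ = z ∨
      g * τ * g⁻¹ * z * (g * τ * g⁻¹)⁻¹ = z * (g * pr M c (μ c) * g⁻¹) := by
    intro z hz
    have e : g * τ * g⁻¹ * z * (g * τ * g⁻¹)⁻¹ = g * (τ * (g⁻¹ * z * g) * τ⁻¹) * g⁻¹ := by group
    rw [e]
    rcases h.swap_zz zv hτP hcc hτp (hgi z hz) with h1 | h1
    · left; rw [h1]; group
    · right; rw [h1]; group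
  have hmv : ∃ c : Pt k m, c.2 ≠ 0 ∧ pp M (g * τ * g⁻¹) c ≠ c := by
    by_contra hcon
    push Not at hcon
    -- `τ` centralises `ZZ`
    have h1 : ∀ z ∈ zc (o2 P), τ * z = z * τ := by
      intro z hz
      have h2 := h.comm_zz_of_fix hs hcon ((mem_normalizer_iff.1 hg z).1 hz)
      calc τ * z = g⁻¹ * (g * τ * g⁻¹ * (g * z * g⁻¹)) * g := by group
        _ = z * τ := by rw [h2]; group
    have hE : E M (pr M (c.1, 0) c) c ≠ E M (pr M (c.1, 0) c) (μ c) := by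
      classical
      rw [E_zz M hc, E_zz M (fun h0 => hc (F.mnz.1 h0)), if_pos rfl, if_neg (F.mne c hc)]
      exact one_ne_zero
    have h2 := h.conj_swap hτP hcc hτp (pr_mem M (c.1, 0) c) hE
    rw [h1 _ (h.VZ (pr_mem M (c.1, 0) c)), mul_inv_cancel_right] at h2
    exact h.pr_ne hcc (F.mne c hc).symm (mul_left_cancel ((mul_one _).trans h2)).symm
  obtain ⟨c', hc', h1, -⟩ := h.trv F hs (fun v hv => key v (h.VZ hv)) hmv
  exact ⟨c', hc', h1⟩

/-- **LEMMA C, the centres** -/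
theorem lemC_cen {R : Subgroup G} (hR : IsPGroup 2 R) (hTR : tn S M μ x ≤ R)
    (hRN : R ≤ normalizer (zc (o2 P) : Set G)) {y p : G} (hy : y ∈ R)
    (h1 : ∀ z ∈ zc (o2 P), y * z * y⁻¹ = z ∨ y * z * y⁻¹ = z * p) (h2 : ∃ z ∈ zc (o2 P), y * z ≠ z * y) :
    ∃ c : Pt k m, c.2 ≠ 0 ∧ p = pr M c (μ c) := by
  obtain ⟨g, hg, hgR, hgc⟩ := h.lemC_exists F zv hx hR hTR hRN
  have hgi : ∀ z ∈ zc (o2 P), g⁻¹ * z * g ∈ zc (o2 P) := fun z hz => by
    have := (mem_normalizer_iff.1 (inv_mem hg) z).1 hz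
    rwa [inv_inv] at this
  -- `g p g⁻¹` is a duad
  obtain ⟨c, hc, hgp, -⟩ := h.trv F (s := g * y * g⁻¹) (r := g * p * g⁻¹) (hgR y hy) (fun v hv => by
    have e : g * y * g⁻¹ * v * (g * y * g⁻¹)⁻¹ = g * (y * (g⁻¹ * v * g) * y⁻¹) * g⁻¹ := by group
    rw [e]
    rcases h1 _ (hgi v (h.VZ hv)) with h3 | h3
    · left; rw [h3]; group
    · right; rw [h3]; group) (by
    by_contra hcon
    push Not at hcon
    obtain ⟨z, hz, h3⟩ := h2
    apply h3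
    have h4 := h.comm_zz_of_fix (hgR y hy) hcon ((mem_normalizer_iff.1 hg z).1 hz)
    calc y * z = g⁻¹ * (g * y * g⁻¹ * (g * z * g⁻¹)) * g := by group
      _ = z * y := by rw [h4]; group)
  -- `c ↦ g c g⁻¹` is surjective on the duads
  let X : Type _ := {v : G // ∃ c : Pt k m, c.2 ≠ 0 ∧ v = pr M c (μ c)}
  let f : X → X := fun v => ⟨g * v.1 * g⁻¹, by
    obtain ⟨c, hc, e⟩ := v.2
    obtain ⟨c', hc', e'⟩ := hgc c hc
    exact ⟨c', hc', by rw [e, e']⟩⟩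
  have hf : Function.Injective f := by
    intro a b hab
    have h3 : g * a.1 * g⁻¹ = g * b.1 * g⁻¹ := congrArg Subtype.val hab
    exact Subtype.ext (mul_left_cancel (mul_right_cancel h3))
  obtain ⟨⟨v, hv⟩, hv2⟩ := Finite.surjective_of_injective hf ⟨pr M c (μ c), c, hc, rfl⟩
  have h3 : g * v * g⁻¹ = pr M c (μ c) := congrArg Subtype.val hv2
  obtain ⟨c', hc', rfl⟩ := hv
  refine ⟨c', hc', ?_⟩
  rw [← hgp] at h3
  exact (mul_left_cancel (mul_right_cancel h3)).symm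

/-- **LEMMA C, the order** -/
theorem lemC_le {R : Subgroup G} (hR : IsPGroup 2 R) (hTR : tn S M μ x ≤ R)
    (hRN : R ≤ normalizer (zc (o2 P) : Set G)) (hRn : R ≤ centralizer ({pr M x (μ x)} : Set G)) :
    R ≤ tn S M μ x := by
  obtain ⟨g, hg, hgR, hgc⟩ := h.lemC_exists F zv hx hR hTR hRN
  obtain ⟨c, hc, hcn⟩ := hgc x hx
  obtain ⟨s, hs, hsc⟩ := h.trans hx hc
  have hpq : x.1 = (μ x).1 := (F.mfst x).symm
  have hsn : s * pr M x (μ x) * s⁻¹ = pr M c (μ c) := by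
    rw [h.conj_pr (h.SP hs) hpq, F.meqv s hs, hsc]
  have h1 : R.map (MulAut.conj (s⁻¹ * g)).toMonoidHom ≤ tn S M μ x := by
    rintro _ ⟨y, hy, rfl⟩
    have hyS := hgR y hy
    have hyn : y * pr M x (μ x) = pr M x (μ x) * y := mem_centralizer_singleton_iff.1 (hRn hy)
    show s⁻¹ * g * y * (s⁻¹ * g)⁻¹ ∈ _
    have e : s⁻¹ * g * y * (s⁻¹ * g)⁻¹ = s⁻¹ * (g * y * g⁻¹) * s := by group
    rw [e]
    refine mem_inf.2 ⟨mul_mem (mul_mem (inv_mem hs) hyS) hs, mem_centralizer_singleton_iff.2 ?_⟩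
    have h2 : g * y * g⁻¹ * pr M c (μ c) = pr M c (μ c) * (g * y * g⁻¹) := by
      rw [← hcn]
      calc g * y * g⁻¹ * (g * pr M x (μ x) * g⁻¹) = g * (y * pr M x (μ x)) * g⁻¹ := by group
        _ = g * pr M x (μ x) * g⁻¹ * (g * y * g⁻¹) := by rw [hyn]; group
    rw [← hsn] at h2
    calc s⁻¹ * (g * y * g⁻¹) * s * pr M x (μ x) = s⁻¹ * (g * y * g⁻¹ * (s * pr M x (μ x) * s⁻¹)) * s := by group
      _ = pr M x (μ x) * (s⁻¹ * (g * y * g⁻¹) * s) := by rw [h2]; group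
  have h2 : Nat.card R ≤ Nat.card (tn S M μ x) := by
    have e : Nat.card (R.map (MulAut.conj (s⁻¹ * g)).toMonoidHom) = Nat.card R :=
      card_map_of_injective (MulAut.conj (s⁻¹ * g)).injective
    rw [← e]
    exact card_le_of_le h1
  exact (eq_of_le_of_card_ge hTR h2).ge

end fin

end Fr

end Cfsg.Agent.Omega.IId.SymWrD.Ht

end

section


/-!
# II.d, `SwBig` and `SwCv`, T-T, `D` arbitrary: `Sig` (bb OMEGA #20414, #21945; `HT.EndCore.main` over `T̂ ≥ T = C_S(n)`)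

Copy of the first part of `SymWr/Ht/End.lean`, for every subgroup `R₀ ≥ T`.
`n = pr M x (μ x)`, `V_l = {1, 12, 10, 20}`, `Z₀ = Ω₁Z(R₀) ⊓ C(⟨R₀, X⟩)`, `σ = sg`, `z* = σ n`.
* `Fr.zc_le_tn` : `Ω₁Z(R₀) ≤ Ω₁Z(T)`; `Fr.Z0_le` : `Z₀(R₀) ≤ Z₀(T)`;
* `Fr.Z0_dec` : an element of `Z₀` is `v d`, `v ∈ V` zero on the line and on all `(i, 0)`, `d ∈ DD M`;
* `Fr.comm_sg`, `Fr.zst_mem` : `z* ∈ Z₀(T)`; `Fr.zst_ne'` : `z* d ≠ 1`;
* `Fr.sig_eq` : **`Sig c ⟹ c = z* d`, `d ∈ DD M` commuting with `T`**;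
* `Fr.yv_of` : `YV V_l n (z* d)` from "`V` centralises `⟨n^{C(σ d)}⟩`";
* `Fr.hz_of` : the hypothesis `hz` of `EndCore.main` over `R₀` from `YV V_l n (z* d)`, `d ∈ DD M` commuting with `T`.
-/

set_option autoImplicit false
set_option linter.unusedSectionVars false

namespace Cfsg.Agent.Omega.IId.SymWrD.Ht

open Subgroup Cfsg Cfsg.Agent.Omega.MinPar Cfsg.Agent.Omega.FFThm
open Cfsg.Agent.ZN (o2 zc)
open Cfsg.Agent.Omega.Half (Amb amb_of_loc)
open Cfsg.Agent.Omega.Half.SymA (Pt E Mv pm)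
open Cfsg.Agent.Omega.HT.LineOf (Ln ln pts dd)
open Cfsg.Agent.Omega.BTwo (BT XX WW QQ O2)
open Cfsg.Agent.Omega.HTwo.Hat (ZQ)
open Cfsg.Agent.MinSimple.VModule (le_normalizer_o2 o2_isPGroup o2_le mem_zc zc_le)

universe u

variable {G : Type u} [Group G] [Finite G] {k m : ℕ}

namespace Fr

variable {S : Sylow 2 G} {P V D : Subgroup G} {M : SymK (S : Subgroup G) P V ⊥ k m} (h : Fr S P V D M)
  {μ ν : Equiv.Perm (Pt k m)} (F : Fours M μ ν) {x : Pt k m} (hx : x.2 ≠ 0)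
include h F hx

/-- `T` fixes the summand of `x` -/
theorem tn_fst {s : G} (hs : s ∈ tn S M μ x) (p : Pt k m) : (pp M s p).1 = x.1 ↔ p.1 = x.1 := by
  have h1 : (pp M s x).1 = x.1 := by
    rcases h.tn_pp F hx hs with e | e
    · rw [e.1]
    · rw [e.1, F.mfst]
  have h2 := pp_fst_iff h.amb h.hm1 (M := M) (h.SP hs.1) (p := p) (q := x)
  rwa [h1] at h2

/-- `T` centralises `σ` -/
theorem comm_sg {s : G} (hs : s ∈ tn S M μ x) : s * (sg h.toSit x.1).val = (sg h.toSit x.1).val * s := by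
  rw [h.comm_iff (h.SP hs.1) (sg_mem h.toSit x.1)]
  intro p
  rw [E_sg, E_sg]
  simp only [h.tn_fst F hx hs p, h.snd hs.1]

/-- `X` contains an element acting as `(x 0)` -/
theorem exists_X : ∃ w ∈ h.X3 (h.tri F hx), pp M w = Equiv.swap x (x.1, 0) := by
  have t := h.tri F hx
  obtain ⟨s, hs, h1⟩ := h.exists_h t.pr t.n2
  have hE : E M (pr M x (μ x)) x ≠ E M (pr M x (μ x)) (x.1, 0) := by
    rw [E_pr_left M t.pq t.n1, E_pr_of_ne M t.pq t.n2.symm t.n3.symm]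
    exact one_ne_zero
  obtain ⟨⟨-, h3⟩, -⟩ := h1 _ (pr_mem M x (μ x)) hE
  refine ⟨_, ?_, h3⟩
  have hsN : s ∈ normalizer (pts (pr M x (μ x)) (pr M x (x.1, 0)) 1 : Set G) := by
    rw [(h.line3 t).normalizer_pts 1]
    exact hs
  have h4 := BTwo.cj_le_WW (V := ln (h.line3 t)) hsN
  have h5 : s * pr M x (μ x) * s⁻¹ ∈ WW (ln (h.line3 t)) (pts (pr M x (μ x)) (pr M x (x.1, 0)) 1) := by
    apply h4
    rw [BTwo.mem_cj]
    have e : s⁻¹ * (s * pr M x (μ x) * s⁻¹) * s = pr M x (μ x) := by group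
    rw [e]
    exact (h.line3 t).dd_mem 0
  exact (le_iSup (fun i => WW (ln (h.line3 t)) (pts (pr M x (μ x)) (pr M x (x.1, 0)) i)) 1) h5

/-- `Ω₁Z(R₀) ≤ Ω₁Z(T)` for `T ≤ R₀` -/
theorem zc_le_tn {R₀ : Subgroup G} (hR : tn S M μ x ≤ R₀) : zc R₀ ≤ zc (tn S M μ x) := by
  intro z hz
  have h1 := mem_zc.1 hz
  have h2 : z ∈ zc (o2 P) := h.mem_zc_of F hx (by rw [← pow_two]; exact h1.2.2) fun y hy =>
    h1.2.1 y (hR (h.Q_le_tn F hx hy))
  exact mem_zc.2 ⟨h.Q_le_tn F hx (zc_le _ h2), fun s hs => h1.2.1 s (hR hs), h1.2.2⟩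

/-- `Z₀(R₀) ≤ Z₀(T)` for `T ≤ R₀` -/
theorem Z0_le {R₀ : Subgroup G} (hR : tn S M μ x ≤ R₀) :
    zc R₀ ⊓ centralizer ((R₀ ⊔ h.X3 (h.tri F hx) : Subgroup G) : Set G) ≤
      zc (tn S M μ x) ⊓ centralizer ((tn S M μ x ⊔ h.X3 (h.tri F hx) : Subgroup G) : Set G) :=
  inf_le_inf (h.zc_le_tn F hx hR) (centralizer_le (sup_le_sup_right hR _))

/-- `z* ∈ Z₀(T)` -/
theorem zst_mem : (sg h.toSit x.1).val * pr M x (μ x) ∈ zc (tn S M μ x) ⊓
    centralizer ((tn S M μ x ⊔ h.X3 (h.tri F hx) : Subgroup G) : Set G) := by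
  have t := h.tri F hx
  have hσ := sg_mem h.toSit x.1
  have hn := pr_mem M x (μ x)
  refine h.mem_Z0 F hx (mul_mem hσ hn) (fun s hs => ?_) ?_ ?_ ?_
  · have h1 := h.comm_sg F hx hs
    have h2 := mem_centralizer_singleton_iff.1 hs.2
    rw [← mul_assoc, h1, mul_assoc, h2, mul_assoc]
  · rw [Half.SymA.E_mul M hσ hn, E_sg, E_pr_left M t.pq t.n1, if_pos rfl, if_neg hx]
    decide
  · rw [Half.SymA.E_mul M hσ hn, E_sg, E_pr_right M t.pq t.n1, if_pos (F.mfst x), if_neg fun e => hx (F.mnz.1 e)]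
    decide
  · rw [Half.SymA.E_mul M hσ hn, E_sg, E_pr_of_ne M t.pq t.n2.symm t.n3.symm, if_pos rfl, if_pos rfl, add_zero]

/-- the values of `z*` -/
theorem E_zst (p : Pt k m) : E M ((sg h.toSit x.1).val * pr M x (μ x)) p =
    (if p.1 = x.1 then (if p.2 = 0 then 0 else 1) else 0) + ((if p = x then 1 else 0) + (if p = μ x then 1 else 0)) := by
  classical
  rw [Half.SymA.E_mul M (sg_mem h.toSit x.1) (pr_mem M x (μ x)), E_sg]
  congr 1
  have h1 := E_pr M (p := x) (q := μ x) (h.tri F hx).pq p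
  convert h1

/-- `z* d ≠ 1` -/
theorem zst_ne' {d : G} (hd : d ∈ DD M) : (sg h.toSit x.1).val * pr M x (μ x) * d ≠ 1 := by
  intro e
  have hV := mul_mem (sg_mem h.toSit x.1) (pr_mem M x (μ x))
  have h2 : (sg h.toSit x.1).val * pr M x (μ x) = 1 := by
    refine h.eq_one_of_DD hV ?_
    rw [eq_inv_of_mul_eq_one_left e]
    exact inv_mem hd
  have h1 := h.E_zst F hx (ν x)
  rw [h2, Half.SymA.E_one, if_pos (F.nfst x), if_neg (h.nu_ne F hx), if_neg (F.nne x hx), if_neg (F.nmu x hx)] at h1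
  revert h1
  decide

theorem zst_ne : (sg h.toSit x.1).val * pr M x (μ x) ≠ 1 := by
  have := h.zst_ne' F hx (d := 1) (one_mem _)
  rwa [mul_one] at this

variable (zv : zc (o2 P) ≤ V ⊔ DD M)
include zv

/-- an element of `Z₀` is `v d`, `v ∈ V` zero on the line and on all `(i, 0)`, `d ∈ DD M` -/
theorem Z0_dec {c : G} (hc : c ∈ zc (tn S M μ x) ⊓
    centralizer ((tn S M μ x ⊔ h.X3 (h.tri F hx) : Subgroup G) : Set G)) :
    ∃ v ∈ V, ∃ d ∈ DD M, (∀ s ∈ tn S M μ x, s * v = v * s) ∧ (∀ s ∈ tn S M μ x, s * d = d * s) ∧ c = v * d ∧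
      E M v x = 0 ∧ E M v (μ x) = 0 ∧ ∀ i, E M v (i, 0) = 0 := by
  obtain ⟨v, hv, d, hd, hvT, hdT, rfl⟩ := h.zc_tn_dec F hx zv hc.1
  have h0 := fun i => h.fix_zero F hx hv hvT i
  obtain ⟨w, hw, hwp⟩ := h.exists_X F hx
  have h1 : w * (v * d) = v * d * w := mem_centralizer_iff.1 hc.2 w (mem_sup_right hw)
  have h2 : w * d = d * w := h.X_DD (h.tri F hx) hd hw
  have h3 : w * v = v * w := by
    have e : w * v * d = v * w * d := by
      rw [mul_assoc, h1, mul_assoc, mul_assoc, h2]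
    exact mul_right_cancel e
  have h4 := (h.comm_iff (h.X_le_P (h.tri F hx) hw) hv).1 h3 (x.1, 0)
  rw [hwp, Equiv.swap_apply_right, h0] at h4
  exact ⟨v, hv, d, hd, hvT, hdT, rfl, h4, by rw [h.fix_mu F hx hv hvT x, h4], h0⟩

/-- **`Sig c` implies `c = z* d`** -/
theorem sig_eq {c : G} (hc : c ∈ zc (tn S M μ x) ⊓
    centralizer ((tn S M μ x ⊔ h.X3 (h.tri F hx) : Subgroup G) : Set G))
    (hs : HT.Sig (ln (h.line3 (h.tri F hx))) (pts (pr M x (μ x)) (pr M x (x.1, 0))) 0 c) :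
    ∃ d ∈ DD M, (∀ s ∈ tn S M μ x, s * d = d * s) ∧ c = (sg h.toSit x.1).val * pr M x (μ x) * d := by
  classical
  have t := h.tri F hx
  obtain ⟨u, hu, d, hd, -, hdT, rfl, c1, c2, c3⟩ := h.Z0_dec F hx zv hc
  refine ⟨d, hd, hdT, ?_⟩
  congr 1
  have hv := pr_mem M x (x.1, 0)
  have hyV := mul_mem hv hu
  -- constant outside `{x, μ x}`
  have key : ∀ a b : Pt k m, a.1 = b.1 → a ≠ x → a ≠ μ x → b ≠ x → b ≠ μ x →
      E M (pr M x (x.1, 0) * u) a = E M (pr M x (x.1, 0) * u) b := by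
    intro a b hab ha1 ha2 hb1 hb2
    have hfst : ∀ r : Pt k m, (Equiv.swap a b r).1 = r.1 := by
      intro r
      rcases eq_or_ne r a with rfl | h1
      · rw [Equiv.swap_apply_left, hab]
      · rcases eq_or_ne r b with rfl | h2
        · rw [Equiv.swap_apply_right, hab]
        · rw [Equiv.swap_apply_of_ne_of_ne h1 h2]
    obtain ⟨g, hg, hgp⟩ := h.exists_pp (π := Equiv.swap a b) hfst
    have g1 : pp M g x = x := by rw [hgp, Equiv.swap_apply_of_ne_of_ne (Ne.symm ha1) (Ne.symm hb1)]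
    have g2 : pp M g (μ x) = μ x := by rw [hgp, Equiv.swap_apply_of_ne_of_ne (Ne.symm ha2) (Ne.symm hb2)]
    have hgd : g * d = d * g := (mem_DD.1 hd).2 g hg fun r => by rw [hgp]; exact hfst r
    have hgr : g * pr M x (μ x) = pr M x (μ x) * g := h.comm_pr hg t.pq (Or.inl ⟨g1, g2⟩)
    have hgN : g ∈ normalizer (pts (pr M x (μ x)) (pr M x (x.1, 0)) 0 : Set G) := by
      rw [(h.line3 t).normalizer_pts 0]
      exact mem_centralizer_singleton_iff.2 hgr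
    have hcond : ∀ v ∈ ln (h.line3 t), g * v * g⁻¹ ∈ ln (h.line3 t) ⊔
        ZQ (pts (pr M x (μ x)) (pr M x (x.1, 0))) 0 := by
      intro v hvl
      have hvV := h.ln_le t hvl
      have hgv := h.amb.conj_mem hg hvV
      have e : g * v * g⁻¹ = v * (v⁻¹ * (g * v * g⁻¹)) := by group
      rw [e]
      refine mul_mem (mem_sup_left hvl) (mem_sup_right ?_)
      have hw : v⁻¹ * (g * v * g⁻¹) ∈ V := mul_mem (inv_mem hvV) hgv
      have hE : ∀ r, pp M g r = r → E M (v⁻¹ * (g * v * g⁻¹)) r = 0 := by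
        intro r hr
        have h1 := E_conj (M := M) hg hvV r
        rw [hr] at h1
        rw [Half.SymA.E_mul M (inv_mem hvV) hgv, Half.SymA.E_inv M hvV, h1, CharTwo.add_self_eq_zero]
      have h1 := h.perp t.pq t.n1 hw (by rw [hE x g1, hE (μ x) g2])
      have h2 := mem_zc.1 h1
      have hQ : QQ (pts (pr M x (μ x)) (pr M x (x.1, 0)) 0) = o2 (centralizer ({pr M x (μ x)} : Set G)) := by
        show O2 (normalizer (pts (pr M x (μ x)) (pr M x (x.1, 0)) 0 : Set G)) = _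
        rw [(h.line3 t).normalizer_pts 0]
        rfl
      refine mem_inf.2 ⟨?_, ?_⟩
      · rw [hQ]; exact h2.1
      · rw [hQ, mem_centralizer_iff]
        intro y hy
        exact h2.2.1 y hy
    have hv0 : pr M x (x.1, 0) ∉ pts (pr M x (μ x)) (pr M x (x.1, 0)) 0 := by
      rw [(h.line3 t).mem_pts]
      rintro (e | e)
      · exact h.pr_ne t.pr t.n2 e
      · have e1 : pr M x (x.1, 0) = pr M x (μ x) := e
        exact (h.line3 t).ne e1.symm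
    have h1 := hs g hgN hcond _ ((h.line3 t).dd_mem 1) hv0
    have h1' : (pr M x (x.1, 0) * u)⁻¹ * (g * (pr M x (x.1, 0) * u) * g⁻¹) ∈
        pts (pr M x (μ x)) (pr M x (x.1, 0)) 0 := by
      have hgy := h.amb.conj_mem hg hyV
      have hcm : d⁻¹ * ((pr M x (x.1, 0) * u)⁻¹ * (g * (pr M x (x.1, 0) * u) * g⁻¹)) =
          (pr M x (x.1, 0) * u)⁻¹ * (g * (pr M x (x.1, 0) * u) * g⁻¹) * d⁻¹ :=
        Sit.zz_comm (inv_mem (mem_DD.1 hd).1) (h.VZ (mul_mem (inv_mem hyV) hgy))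
      have e : (pr M x (x.1, 0) * u)⁻¹ * (g * (pr M x (x.1, 0) * u) * g⁻¹) =
          (pr M x (x.1, 0) * (u * d))⁻¹ * g * (pr M x (x.1, 0) * (u * d)) * g⁻¹ := by
        symm
        calc (pr M x (x.1, 0) * (u * d))⁻¹ * g * (pr M x (x.1, 0) * (u * d)) * g⁻¹ =
            d⁻¹ * ((pr M x (x.1, 0) * u)⁻¹ * (g * (pr M x (x.1, 0) * u) * g⁻¹)) * (g * d * g⁻¹) := by group
          _ = (pr M x (x.1, 0) * u)⁻¹ * (g * (pr M x (x.1, 0) * u) * g⁻¹) * d⁻¹ * (g * d * g⁻¹) := by rw [hcm]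
          _ = (pr M x (x.1, 0) * u)⁻¹ * (g * (pr M x (x.1, 0) * u) * g⁻¹) * d⁻¹ * (d * g * g⁻¹) := by rw [hgd]
          _ = _ := by group
      rw [e]
      exact h1
    rw [(h.line3 t).mem_pts] at h1'
    have hgy := h.amb.conj_mem hg hyV
    have h2 : E M ((pr M x (x.1, 0) * u)⁻¹ * (g * (pr M x (x.1, 0) * u) * g⁻¹)) a =
        E M (pr M x (x.1, 0) * u) a + E M (pr M x (x.1, 0) * u) b := by
      rw [Half.SymA.E_mul M (inv_mem hyV) hgy, Half.SymA.E_inv M hyV, E_conj' hg hyV, hgp, Equiv.swap_inv,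
        Equiv.swap_apply_left]
    have h3 : E M ((pr M x (x.1, 0) * u)⁻¹ * (g * (pr M x (x.1, 0) * u) * g⁻¹)) a = 0 := by
      rcases h1' with e | e
      · rw [e, Half.SymA.E_one]
      · rw [e]
        exact E_pr_of_ne M t.pq ha1 ha2
    rw [h2] at h3
    exact CharTwo.add_eq_zero.1 h3
  refine Half.SymA.inj M hu (mul_mem (sg_mem h.toSit x.1) (pr_mem M x (μ x))) fun p => ?_
  rw [h.E_zst F hx]
  by_cases p1 : p = x
  · rw [p1, c1, if_pos rfl, if_neg hx, if_pos rfl, if_neg t.n1]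
    decide
  by_cases p2 : p = μ x
  · rw [p2, c2, if_pos (F.mfst x), if_neg fun e => hx (F.mnz.1 e), if_neg t.n1.symm, if_pos rfl]
    decide
  rw [if_neg p1, if_neg p2, add_zero, add_zero]
  by_cases p3 : p.1 = x.1
  · rw [if_pos p3]
    by_cases p4 : p.2 = 0
    · rw [if_pos p4]
      have e : p = (p.1, 0) := Prod.ext rfl p4
      rw [e]; exact c3 _
    · rw [if_neg p4]
      have h1 := key p (x.1, 0) p3 p1 p2 t.n2.symm t.n3.symm
      have hp0 : p ≠ (x.1, 0) := fun e => p4 (by rw [e])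
      rw [Half.SymA.E_mul M hv hu, Half.SymA.E_mul M hv hu, E_pr_of_ne M t.pr p1 hp0, E_pr_right M t.pr t.n2, c3,
        zero_add, add_zero] at h1
      exact h1
  · rw [if_neg p3]
    have q1 : ((p.1, 0) : Pt k m) ≠ x := fun e => p3 (by rw [← e])
    have q2 : ((p.1, 0) : Pt k m) ≠ μ x := fun e => p3 (by rw [← F.mfst x, ← e])
    have q3 : ((p.1, 0) : Pt k m) ≠ (x.1, 0) := fun e => p3 (Prod.mk.inj e).1
    have h1 := key p (p.1, 0) rfl p1 p2 q1 q2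
    have hp0 : p ≠ (x.1, 0) := fun e => p3 (by rw [e])
    rw [Half.SymA.E_mul M hv hu, Half.SymA.E_mul M hv hu, E_pr_of_ne M t.pr p1 hp0, E_pr_of_ne M t.pr q1 q3, c3,
      zero_add, add_zero] at h1
    exact h1

omit zv in
/-- `YV` at `z* d` from "`V` centralises `⟨n^{C(σ d)}⟩`" -/
theorem yv_of {d : G} (hd : d ∈ DD M)
    (hy : ∀ g : G, g * ((sg h.toSit x.1).val * d) = (sg h.toSit x.1).val * d * g → ∀ v ∈ V,
      v * (g * pr M x (μ x) * g⁻¹) = g * pr M x (μ x) * g⁻¹ * v) :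
    HT.Main.YV (ln (h.line3 (h.tri F hx))) (pr M x (μ x)) ((sg h.toSit x.1).val * pr M x (μ x) * d) := by
  intro g hg v hv
  have h1 : pr M x (μ x) * d = d * pr M x (μ x) := Sit.zz_comm (h.VZ (pr_mem M x (μ x))) (mem_DD.1 hd).1
  have e : (sg h.toSit x.1).val * pr M x (μ x) * d * pr M x (μ x) = (sg h.toSit x.1).val * d := by
    calc (sg h.toSit x.1).val * pr M x (μ x) * d * pr M x (μ x) =
        (sg h.toSit x.1).val * (pr M x (μ x) * d) * pr M x (μ x) := by group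
      _ = (sg h.toSit x.1).val * d * (pr M x (μ x) * pr M x (μ x)) := by rw [h1]; group
      _ = _ := by rw [h.pr_sq, mul_one]
  rw [e] at hg
  exact hy g hg v (h.ln_le (h.tri F hx) hv)

/-- the hypothesis `hz` of `EndCore.main` over `R₀ ≥ T` -/
theorem hz_of {R₀ : Subgroup G} (hR : tn S M μ x ≤ R₀)
    (b : HT.HTT R₀ (R₀ ⊔ h.X3 (h.tri F hx)) (ln (h.line3 (h.tri F hx))) (pts (pr M x (μ x)) (pr M x (x.1, 0))) 0)
    (hLE : ∀ i, HTwo.ThmA.LE (ln (h.line3 (h.tri F hx))) (pts (pr M x (μ x)) (pr M x (x.1, 0))) i)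
    (h1 : HT.OtCore.OtD R₀ (ln (h.line3 (h.tri F hx))) (XX (ln (h.line3 (h.tri F hx)))
      (pts (pr M x (μ x)) (pr M x (x.1, 0)))) (pr M x (μ x)))
    (hy : ∀ d ∈ DD M, (∀ s ∈ tn S M μ x, s * d = d * s) →
      HT.Main.YV (ln (h.line3 (h.tri F hx))) (pr M x (μ x)) ((sg h.toSit x.1).val * pr M x (μ x) * d)) :
    ∀ c ∈ zc R₀ ⊓ centralizer ((R₀ ⊔ h.X3 (h.tri F hx) : Subgroup G) : Set G),
      HT.Sig (ln (h.line3 (h.tri F hx))) (pts (pr M x (μ x)) (pr M x (x.1, 0))) 0 c →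
      ∃ z ∈ zc R₀ ⊓ centralizer ((R₀ ⊔ h.X3 (h.tri F hx) : Subgroup G) : Set G), z ≠ 1 ∧ (c = 1 ∨ c = z) ∧
        ¬ HOneTwo.UM (ln (h.line3 (h.tri F hx)))
          (HTwo.AlphaP.MP (ln (h.line3 (h.tri F hx))) (pts (pr M x (μ x)) (pr M x (x.1, 0))) 0 z) ≤
            QQ (pts (pr M x (μ x)) (pr M x (x.1, 0)) 0) := by
  intro c hc hs
  have hr : ∀ y, y ∈ pts (pr M x (μ x)) (pr M x (x.1, 0)) 0 ↔ y = 1 ∨ y = pr M x (μ x) := fun _ =>
    (h.line3 (h.tri F hx)).mem_pts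
  obtain ⟨d, hd, hdT, e⟩ := h.sig_eq F hx zv (h.Z0_le F hx hR hc) hs
  have hc1 : c ≠ 1 := by rw [e]; exact h.zst_ne' F hx hd
  refine ⟨c, hc, hc1, Or.inr rfl, ?_⟩
  exact HT.AlphaY.not_alpha b hr hLE hc hc1
    (HT.Main.gsys_of_core b hr hc hc1 (HT.EndCore.core b hr h1 hc)) (by rw [e]; exact hy d hd hdT)

end Fr

end Cfsg.Agent.Omega.IId.SymWrD.Ht

end
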