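import Cfsg.Agent.Mrg.Omega.IId.SymWr.Fours
import Cfsg.Agent.Mrg.Omega.IId.SymWrD.Ht.LemJ
import Cfsg.Agent.Mrg.Omega.HT.LemEA
import Cfsg.Agent.Mrg.Omega.HOneTwo.Basic
import Cfsg.Agent.Mrg.Omega.IId.ExcFree
import Cfsg.Agent.Mrg.Omega.HT.Main
import Cfsg.Agent.MinSimple.Choice97
import Cfsg.Agent.Mrg.Omega.IId.SymWrD.Ht.HatJ
import Cfsg.Agent.Mrg.Omega.IId.SymWrD.Ht.Fr
import Cfsg.Agent.Mrg.Omega.IId.SymWrD.SylN.OfFr

section


/-!
# II.d, `SwBig` and `SwCv`, `T`-`T`, `D` arbitrary: LEMMA E over `T = C_S(n)` (bb OMEGA #19821, (LE))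

`V` = the sum of `k` even-subset modules of degree `2 ^ m + 1`, `r = pr M a b` a duad, `N = C_G(r)`.
If `Λ ≤ R 0 × C_G(X)` is normalised by `N`, then `Λ ≤ R 0`.

Otherwise `Λ R 0` contains an involution `f = v d`, `v ∈ V`, `d ∈ DD M`, centralised by `X` and `T`.
* `v ≠ 1` : `v` is not constant on `Δ = Ω_1 - {a, b}` or on another block `Δ`, so `Λ R 0` contains all duads
  inside `Δ`.  Three of them with product `1`: one of the three has its conjugate by the partner `h ∈ N` in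
  `C_G(X)` (`kill`).
* `v = 1` : the conjugates of `r` under `C_G(f)` and under `C_G(r f)` commute (LEMMA J for `f` and for
  `pr M (ν x) (μ (ν x)) f`); `bip`.
-/

set_option autoImplicit false
set_option linter.unusedSectionVars false

namespace Cfsg.Agent.Omega.IId.SymWrD.Ht.LE

open Subgroup Pointwise Cfsg Cfsg.Agent.Omega.MinPar Cfsg.Agent.Omega.FFThm
open Cfsg.Agent.ZN (o2 zc)
open Cfsg.Agent.Omega.Half.SymA (Pt E)
open Cfsg.Agent.Omega.BTwo Cfsg.Agent.Omega.HTwo Cfsg.Agent.Omega.HTwo.Par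
open Cfsg.Agent.Omega.HT.LemEA (GoodA)
open Cfsg.Agent.Omega.HT.LineOf (Ln ln pts dd)
open Cfsg.Agent.Omega.IId.SymWr.Ht.LE (exists_sep exists_third)
open Cfsg.Agent.MinSimple.VModule (le_normalizer_o2 o2_isPGroup o2_le mem_zc zc_le)

universe u

variable {G : Type u} [Group G] {P V : Subgroup G} {k m : ℕ}

/-! ### The orbit argument -/

/-- `e`, `r e` good, `e ∈ Ξ`, `Ξ` normalised by `N(R i)` and `Ξ ≤ R i × C_X`: contradiction -/
theorem bip [Finite G] {ι : Type*} {L : Subgroup G} {R : ι → Subgroup G} (b : BT L R) {i : ι} {r : G}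
    (hr : ∀ x ∈ R i, x = 1 ∨ x = r)
    (hKr : ∀ g ∈ normalizer (R i : Set G), g * r = r * g) {T : Subgroup G} (hTV : T ≤ normalizer (L : Set G))
    (hodd : ¬ 2 ∣ T.relIndex (normalizer (R i : Set G)))
    (hnc : ∃ k ∈ normalizer (R i : Set G), ∃ v ∈ L, ∃ w ∈ cj k L, v * w ≠ w * v) {Ξ : Subgroup G}
    (hKΞ : normalizer (R i : Set G) ≤ normalizer (Ξ : Set G)) (hΞ : ∀ l ∈ Ξ, ∃ a ∈ R i, a * l ∈ CenX L R)
    {e : G} (he : e ∈ Ξ) (g1 : GoodA r e) (g2 : GoodA r (r * e)) : False := by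
  obtain ⟨k0, hk0, v0, hv0, w0, hw0, hne⟩ := hnc
  have hEk : ∀ k ∈ normalizer (R i : Set G), ∀ f ∈ Ξ, f ∈ centralizer (cj k (XX L R) : Set G) ∨
      r * f ∈ centralizer (cj k (XX L R) : Set G) := by
    intro k hk f hf
    have h1 : k⁻¹ * f * k ∈ Ξ := conj_inv_mem_of_normalizer (hKΞ hk) hf
    obtain ⟨a, ha, h2⟩ := hΞ _ h1
    rw [centralizer_cj, mem_cj, mem_cj]
    rcases hr a ha with rfl | rfl
    · rw [one_mul] at h2
      exact Or.inl h2
    · right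
      have h3 : k⁻¹ * (a * f) * k = a * (k⁻¹ * f * k) := by
        have h4 : k⁻¹ * a = a * k⁻¹ := by
          rw [inv_mul_eq_iff_eq_mul, ← mul_assoc, hKr k hk, mul_inv_cancel_right]
        calc k⁻¹ * (a * f) * k = (k⁻¹ * a) * f * k := by group
          _ = _ := by rw [h4]; group
      rw [h3]; exact h2
  refine hne (HT.LemE.commute_of_bipartite hTV hodd
    (fun L' => ∀ k ∈ normalizer (R i : Set G), cj k L = L' → e ∈ centralizer (cj k (XX L R) : Set G)) ?_ ?_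
    k0 hk0 v0 hv0 w0 hw0)
  · intro k hk l hl h1 h2 a ha c hc'
    exact HT.LemEA.comm_cj b hr g1 (hKr k hk) (hKr l hl) (h1 k hk rfl) (h2 l hl rfl) ha hc'
  · have key : ∀ k ∈ normalizer (R i : Set G),
        ¬ (∀ k' ∈ normalizer (R i : Set G), cj k' L = cj k L → e ∈ centralizer (cj k' (XX L R) : Set G)) →
        ∃ k' ∈ normalizer (R i : Set G), cj k' L = cj k L ∧ r * e ∈ centralizer (cj k' (XX L R) : Set G) := by
      intro k hk h
      push Not at h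
      obtain ⟨k', hk', e1, hne⟩ := h
      exact ⟨k', hk', e1, (hEk k' hk' e he).resolve_left hne⟩
    intro k hk l hl h1 h2 a ha c hc'
    obtain ⟨k', hk', e1, h3⟩ := key k hk h1
    obtain ⟨l', hl', e2, h4⟩ := key l hl h2
    rw [← e1] at ha
    rw [← e2] at hc'
    exact HT.LemEA.comm_cj b hr g2 (hKr k' hk') (hKr l' hl') h3 h4 ha hc'

/-- `r ∈ Z(O₂(C(e)))` : the conjugates of `r` under `C(e)` commute -/
theorem goodA_of [Finite G] (hG : IsCharacteristicTwoType G) {r e : G} (hee : e * e = 1) (he1 : e ≠ 1)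
    (hre : r * e = e * r) (hc : ∀ g ∈ o2 (centralizer ({e} : Set G)), g * r = r * g) : GoodA r e := by
  intro g hg
  have hr : r ∈ o2 (centralizer ({e} : Set G)) := by
    refine MinSimple.Geo.inf_centralizer_o2_le hG (MinSimple.Geo.isTwoLocal_centralizer hee he1)
      (mem_inf.2 ⟨mem_centralizer_singleton_iff.2 hre, ?_⟩)
    rw [mem_centralizer_iff]
    exact hc
  have h1 : g * r * g⁻¹ ∈ o2 (centralizer ({e} : Set G)) :=
    (mem_normalizer_iff.1 (le_normalizer_o2 _ (mem_centralizer_singleton_iff.2 hg)) r).1 hr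
  exact (hc _ h1).symm

/-! ### The frame -/

section main

variable {S : Sylow 2 G} {M : SymK (S : Subgroup G) P V ⊥ k m} {D : Subgroup G} (h : Fr S P V D M)

include h

/-- `f = v d`, `v ∈ V` separates `p`, `q`: a subgroup normalised by `N` containing `f` contains the duad -/
theorem pr_mem_of {a b p q : Pt k m} (hab : a.1 = b.1) (hpq : p.1 = q.1) (hpa : p ≠ a) (hpb : p ≠ b) (hqa : q ≠ a)
    (hqb : q ≠ b) {Λ : Subgroup G} (hN : centralizer ({pr M a b} : Set G) ≤ normalizer (Λ : Set G)) {v d : G}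
    (hv : v ∈ V) (hd : d ∈ DD M) (hfΛ : v * d ∈ Λ) (hne : E M v p ≠ E M v q) : pr M p q ∈ Λ := by
  classical
  have key : ∀ r : Pt k m, (Equiv.swap p q r).1 = r.1 := by
    intro r
    rcases eq_or_ne r p with rfl | hx
    · rw [Equiv.swap_apply_left, hpq]
    · rcases eq_or_ne r q with rfl | hy
      · rw [Equiv.swap_apply_right, hpq]
      · rw [Equiv.swap_apply_of_ne_of_ne hx hy]
  obtain ⟨g, hg, h4⟩ := h.exists_pp (π := Equiv.swap p q) key
  have hgr : g * pr M a b = pr M a b * g := by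
    refine h.comm_pr hg hab (Or.inl ⟨?_, ?_⟩)
    · rw [h4, Equiv.swap_apply_of_ne_of_ne hpa.symm hqa.symm]
    · rw [h4, Equiv.swap_apply_of_ne_of_ne hpb.symm hqb.symm]
  have hgN : g ∈ centralizer ({pr M a b} : Set G) := mem_centralizer_singleton_iff.2 hgr
  have h5 : g * (v * d) * g⁻¹ ∈ Λ := (mem_normalizer_iff.1 (hN hgN) _).1 hfΛ
  have hgd : g * d = d * g := (mem_DD.1 hd).2 g hg fun r => by rw [h4]; exact key r
  have hdd : d * d = 1 := Sit.zz_sq (mem_DD.1 hd).1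
  have h6 : pr M p q = v * (g * v * g⁻¹) := by
    rw [h.conj_swap hg hpq h4 hv hne, ← mul_assoc, h.Vsq hv, one_mul]
  have h7 : v * (g * v * g⁻¹) = (v * d) * (g * (v * d) * g⁻¹) := by
    have h8 : d * (g * v * g⁻¹) = g * v * g⁻¹ * d :=
      Sit.zz_comm (mem_DD.1 hd).1 (h.VZ (h.amb.conj_mem hg hv))
    calc v * (g * v * g⁻¹) = v * (g * v * g⁻¹) * (d * d) := by rw [hdd, mul_one]
      _ = v * (g * v * g⁻¹ * d) * d := by group
      _ = v * d * (g * v * g⁻¹) * d := by rw [← h8]; group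
      _ = v * d * (g * v * (g⁻¹ * d)) := by group
      _ = v * d * (g * v * (d * g⁻¹)) := by
          rw [show g⁻¹ * d = d * g⁻¹ by
            rw [inv_mul_eq_iff_eq_mul, ← mul_assoc, hgd, mul_inv_cancel_right]]
      _ = (v * d) * (g * (v * d) * g⁻¹) := by group
  rw [h6, h7]
  exact mul_mem hfΛ h5

/-- an element of `X` inducing a transposition -/
theorem exists_sw [Finite G] {p q w : Pt k m} (hpq : p.1 = q.1) (hpw : p.1 = w.1) (npq : p ≠ q)
    (npw : p ≠ w) {ι : Type*} {L : Subgroup G} {R : ι → Subgroup G} (B : BT L R)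
    {i j l : ι} (h0 : R i = zpowers (pr M p q)) (h1 : R j = zpowers (pr M p w)) (h2 : R l = zpowers (pr M q w))
    {g v : G} (hg : g ∈ normalizer (R i : Set G)) (hv : v ∈ L)
    (hgv : cj (g * v * g⁻¹) (R j) = R l) : g * v * g⁻¹ ∈ XX L R ∧ g * v * g⁻¹ ∈ P ∧
      pp M (g * v * g⁻¹) = Equiv.swap p q := by
  have hx : g * v * g⁻¹ ∈ WW L (R i) := cj_le_WW hg (conj_mem_cj hv)
  have hx1 : g * v * g⁻¹ ∈ o2 (centralizer ({pr M p q} : Set G)) := by
    have h3 : g * v * g⁻¹ ∈ o2 (normalizer (R i : Set G)) := B.W_le_Q i hx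
    rwa [h0, MinSimple.Basic.normalizer_zpowers_eq (by rw [pow_two]; exact h.Vsq (pr_mem M p q))] at h3
  have hP := h.Qle hpq npq hx1
  refine ⟨W_le_X L R i hx, hP, (h.Qpp hpq npq hx1).resolve_left fun h5 => ?_⟩
  have h6 := mem_centralizer_iff.1 ((h.eq_one_iff hP).1 h5) (pr M p w) (pr_mem M p w)
  have h7 : g * v * g⁻¹ * pr M p w * (g * v * g⁻¹)⁻¹ = pr M p w := by
    rw [← h6, mul_inv_cancel_right]
  have h8 : pr M p w ∈ R l := by
    rw [← hgv, ← h7]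
    exact conj_mem_cj (by rw [h1]; exact mem_zpowers _)
  have h9 : pr M p w ∈ zpowers (pr M q w) := by rw [← h2]; exact h8
  have h10 := E_pr_left M hpw npw
  rcases (HT.LineOf.mem_zp h.pr_sq).1 h9 with e | e
  · rw [e, Half.SymA.E_one M] at h10
    exact zero_ne_one h10
  · rw [e, E_pr_of_ne M (hpq.symm.trans hpw) npq npw] at h10
    exact zero_ne_one h10

/-- if the conjugate of a duad outside `{a, b}` under the partner is centralised by `X`: contradiction -/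
theorem kill [Finite G] {a b p q : Pt k m} (hab : a.1 = b.1) (hpq : p.1 = q.1) (npq : p ≠ q) (hpa : p ≠ a)
    (hpb : p ≠ b) (hqa : q ≠ a) (hqb : q ≠ b) {ι : Type*} {L : Subgroup G} {R : ι → Subgroup G} (B : BT L R)
    (hLV : L ≤ V) {i0 i1 i2 : ι} (hi : i1 ≠ i2) (hr1 : pr M a b ≠ 1) {g v : G}
    (hgr : g * pr M a b * g⁻¹ = pr M a b) (hrR : pr M a b ∈ R i0) (hv : v ∈ L)
    (hgv : cj (g * v * g⁻¹) (R i1) = R i2) (hX : g * pr M p q * g⁻¹ ∈ CenX L R) : False := by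
  set r := pr M a b with hrdef
  set y := pr M p q with hy
  obtain ⟨x, hx, hxR⟩ := B.trans_X_one i0 i1
  set u := g⁻¹ * x * g with hu
  have huy : u * y = y * u := by
    have h1 := mem_centralizer_iff.1 hX x hx
    calc u * y = g⁻¹ * (x * (g * y * g⁻¹)) * g := by rw [hu]; group
      _ = g⁻¹ * ((g * y * g⁻¹) * x) * g := by rw [h1]
      _ = y * u := by rw [hu]; group
  have huC : u ∈ centralizer ({y} : Set G) := mem_centralizer_singleton_iff.2 huy
  have hEr : E M r p = E M r q := by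
    rw [hrdef, E_pr_of_ne M hab hpa hpb, E_pr_of_ne M hab hqa hqb]
  have hrc : ∀ g ∈ o2 (centralizer ({y} : Set G)), g * r = r * g := fun g hg =>
    h.perp_comm hpq npq hg (pr_mem M a b) hEr
  have hvV : v ∈ V := hLV hv
  have hvQ : v ∈ o2 (centralizer ({y} : Set G)) := h.V_le hpq npq hvV
  -- `u r u⁻¹` commutes with `v`
  have h1 : v * (u * r * u⁻¹) = u * r * u⁻¹ * v := by
    have h2 : u⁻¹ * v * u ∈ o2 (centralizer ({y} : Set G)) :=
      conj_inv_mem_of_normalizer (le_normalizer_o2 _ huC) hvQ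
    have h3 := hrc _ h2
    calc v * (u * r * u⁻¹) = u * ((u⁻¹ * v * u) * r) * u⁻¹ := by group
      _ = u * (r * (u⁻¹ * v * u)) * u⁻¹ := by rw [h3]
      _ = u * r * u⁻¹ * v := by group
  have h4 : x * r * x⁻¹ ∈ R i1 := by rw [← hxR]; exact conj_mem_cj hrR
  have h5 : g * (u * r * u⁻¹) * g⁻¹ = x * r * x⁻¹ := by
    calc g * (u * r * u⁻¹) * g⁻¹ = x * (g * r * g⁻¹) * x⁻¹ := by rw [hu]; group
      _ = x * r * x⁻¹ := by rw [hgr]
  have h6 : g * v * g⁻¹ * (x * r * x⁻¹) * (g * v * g⁻¹)⁻¹ = x * r * x⁻¹ := by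
    calc g * v * g⁻¹ * (x * r * x⁻¹) * (g * v * g⁻¹)⁻¹
        = g * (v * (g⁻¹ * (x * r * x⁻¹) * g)) * v⁻¹ * g⁻¹ := by group
      _ = g * (v * (u * r * u⁻¹)) * v⁻¹ * g⁻¹ := by rw [← h5]; group
      _ = g * (u * r * u⁻¹ * v) * v⁻¹ * g⁻¹ := by rw [h1]
      _ = x * r * x⁻¹ := by rw [← h5]; group
  have h7 : x * r * x⁻¹ ∈ R i2 := by
    rw [← hgv, ← h6]
    exact conj_mem_cj h4
  have h8 := B.eq_one hi h4 h7
  have h9 : r = 1 := by
    calc r = x⁻¹ * (x * r * x⁻¹) * x := by group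
      _ = 1 := by rw [h8]; group
  exact hr1 h9

end main

/-! ### The theorem -/

section thm

variable [Finite G] {S : Sylow 2 G} {M : SymK (S : Subgroup G) P V ⊥ k m} {D : Subgroup G} (h : Fr S P V D M)
  {μ ν : Equiv.Perm (Pt k m)} (F : Fours M μ ν) {x : Pt k m} (hx : x.2 ≠ 0) (zv : zc (o2 P) ≤ V ⊔ DD M)
  (syl : ¬ 2 ∣ (tn S M μ x).relIndex (centralizer ({pr M x (μ x)} : Set G)))

include h F hx zv syl

/-- `O₂(C(e)) ≤ T` for `1 ≠ e ∈ Z₀` -/
theorem o2_le_tn {e : G} (he : e ∈ zc (tn S M μ x) ⊓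
    centralizer ((tn S M μ x ⊔ h.X3 (h.tri F hx) : Subgroup G) : Set G)) :
    o2 (centralizer ({e} : Set G)) ≤ tn S M μ x := by
  have hT : tn S M μ x ≤ centralizer ({e} : Set G) := fun s hs =>
    mem_centralizer_singleton_iff.2 ((mem_zc.1 he.1).2.1 s hs)
  have hX : h.X3 (h.tri F hx) ≤ centralizer ({e} : Set G) := fun y hy =>
    mem_centralizer_singleton_iff.2 (mem_centralizer_iff.1 he.2 y (mem_sup_right hy))
  have h1 := h.lemJ' F hx zv syl (K := o2 (centralizer ({e} : Set G))) (hT.trans (le_normalizer_o2 _))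
    (hX.trans (le_normalizer_o2 _)) (fun g hg => by
      obtain ⟨n, hn⟩ := o2_isPGroup (centralizer ({e} : Set G)) ⟨g, hg⟩
      refine ⟨n, ?_⟩
      have h2 : g ^ 2 ^ n = 1 := congrArg Subtype.val hn
      rw [h2]
      exact one_mem _)
  exact HT.LemE.le_of_odd (K := tn S M μ x ⊔ o2 (centralizer ({e} : Set G))) Fr.tn_p le_sup_left h1
    (o2_isPGroup _) le_sup_right (hT.trans (le_normalizer_o2 _))

/-- `r` is good for `1 ≠ e ∈ Z₀` -/
theorem good {e : G} (he : e ∈ zc (tn S M μ x) ⊓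
    centralizer ((tn S M μ x ⊔ h.X3 (h.tri F hx) : Subgroup G) : Set G)) (he1 : e ≠ 1) :
    GoodA (pr M x (μ x)) e := by
  have h1 := o2_le_tn h F hx zv syl he
  have hee : e * e = 1 := by rw [← pow_two]; exact (mem_zc.1 he.1).2.2
  have hre : pr M x (μ x) * e = e * pr M x (μ x) :=
    (mem_zc.1 he.1).2.1 _ (h.V_le_tn F hx (pr_mem M x (μ x)))
  refine goodA_of h.char2 hee he1 hre fun g hg => ?_
  exact mem_centralizer_singleton_iff.1 (h1 hg).2

/-- `r` is good for `r d`, `1 ≠ d ∈ DD M` centralised by `T` -/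
theorem good' {d : G} (hd : d ∈ DD M) (hTd : ∀ s ∈ tn S M μ x, s * d = d * s) (hd1 : d ≠ 1) :
    GoodA (pr M x (μ x)) (pr M x (μ x) * d) := by
  have hn := h.nu_ne F hx
  set n := pr M x (μ x) with hndef
  set n' := pr M (ν x) (μ (ν x)) with hn'
  have hnV : n ∈ V := pr_mem M _ _
  have hn'V : n' ∈ V := pr_mem M _ _
  have hzz := (mem_DD.1 hd).1
  have hcomm : ∀ {v : G}, v ∈ V → v * d = d * v := fun hv => Sit.zz_comm (h.VZ hv) hzz
  have hdd : d * d = 1 := Sit.zz_sq hzz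
  have hsq : ∀ {v : G}, v ∈ V → v * d * (v * d) = 1 := by
    intro v hv
    calc v * d * (v * d) = v * (d * v) * d := by group
      _ = (v * v) * (d * d) := by rw [← hcomm hv]; group
      _ = 1 := by rw [h.Vsq hv, hdd, one_mul]
  have hne : ∀ {v : G}, v ∈ V → v * d ≠ 1 := by
    intro v hv e
    have h1 : v = d⁻¹ := eq_inv_of_mul_eq_one_left e
    have h2 := h.eq_one_of_DD hv (by rw [h1]; exact inv_mem hd)
    rw [h2, one_mul] at e
    exact hd1 e
  -- `n' d ∈ Z₀`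
  have hZ : n' * d ∈ zc (tn S M μ x) ⊓
      centralizer ((tn S M μ x ⊔ h.X3 (h.tri F hx) : Subgroup G) : Set G) := by
    refine mul_mem (h.sib_mem F hx) ?_
    have h1 := h.mem_Z0' F hx (c := 1) (one_mem V) hd (fun s _ => by rw [mul_one, one_mul]) hTd
      (Half.SymA.E_one M _) (Half.SymA.E_one M _) (Half.SymA.E_one M _)
    rwa [one_mul] at h1
  have h1 := o2_le_tn h F hx zv syl hZ
  -- `s ∈ S` inducing `ν`
  have hνD : ν ∈ F.FD := ⟨fun p => Or.inr (Or.inr (Or.inl rfl)), fun p => (F.comm p).symm⟩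
  obtain ⟨s, hs, hsν⟩ := Fours.exists_D h.toSit F hνD
  have hsS : s ∈ (S : Subgroup G) := hs.1
  have hsP := h.SP hsS
  have hsn : s * n * s⁻¹ = n' := by
    rw [hndef, h.conj_pr hsP (F.mfst x).symm, hsν, hn', F.comm]
  have hsd : s * d = d * s := (mem_DD.1 hd).2 s hsP fun r => by rw [hsν]; exact F.nfst r
  have hsnd : s * (n * d) * s⁻¹ = n' * d := by
    calc s * (n * d) * s⁻¹ = s * n * s⁻¹ * (s * d * s⁻¹) := by group
      _ = n' * d := by rw [hsn, mul_inv_eq_of_eq_mul hsd]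
  refine goodA_of h.char2 (hsq hnV) (hne hnV) ?_ fun g hg => ?_
  · rw [← mul_assoc, mul_assoc n d n, ← hcomm hnV, ← mul_assoc]
  · have h2 : s * g * s⁻¹ ∈ o2 (centralizer ({n' * d} : Set G)) := ExcFree.o2_cj hsnd hg
    have h3 := h1 h2
    rw [← h.tn_nu F hx] at h3
    have h4 := mem_centralizer_singleton_iff.1 h3.2
    change s * g * s⁻¹ * n' = n' * (s * g * s⁻¹) at h4
    rw [← hsn] at h4
    calc g * n = s⁻¹ * (s * g * s⁻¹ * (s * n * s⁻¹)) * s := by group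
      _ = s⁻¹ * (s * n * s⁻¹ * (s * g * s⁻¹)) * s := by rw [h4]
      _ = n * g := by group

/-- **LEMMA E over `T = C_S(n)`, `D` arbitrary** -/
theorem le_tn (j : Fin 3) :
    ThmA.LE (ln (h.line3 (h.tri F hx))) (pts (pr M x (μ x)) (pr M x (x.1, 0))) j := by
  classical
  have t := h.tri F hx
  have b := h.htt F hx zv syl
  have B := b.toBTS
  refine ThmA.le_all B.toBT (i := 0) (fun Λ hΛ hN => ?_) j
  by_contra hΛR
  set L := ln (h.line3 (h.tri F hx)) with hL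
  set R := pts (pr M x (μ x)) (pr M x (x.1, 0)) with hR
  set r := pr M x (μ x) with hr
  set T := tn S M μ x with hT
  have hrV : r ∈ V := pr_mem M x (μ x)
  have hrr : r * r = 1 := h.Vsq hrV
  have h0 : R 0 = zpowers (pr M x (μ x)) := rfl
  have h1 : R 1 = zpowers (pr M x (x.1, 0)) := rfl
  have h2 : R 2 = zpowers (pr M (μ x) (x.1, 0)) := by
    show zpowers (dd (pr M x (μ x)) (pr M x (x.1, 0)) 2) = _
    rw [show dd (pr M x (μ x)) (pr M x (x.1, 0)) 2 = pr M (μ x) (x.1, 0) from h.dd_two t]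
  have hr1 : r ≠ 1 := h.pr_ne t.pq t.n1
  have hRK : ∀ y ∈ R 0, y = 1 ∨ y = r := fun y hy => (HT.LineOf.mem_zp h.pr_sq).1 hy
  have hrR : r ∈ R 0 := by rw [h0]; exact mem_zpowers r
  -- the normaliser of the point
  have hNr : normalizer (R 0 : Set G) = centralizer ({r} : Set G) := by
    rw [h0, MinSimple.Basic.normalizer_zpowers_eq (by rw [pow_two]; exact hrr)]
  set K := centralizer ({r} : Set G) with hK
  have hKr : ∀ g ∈ K, g * r = r * g := fun g hg => mem_centralizer_singleton_iff.1 hg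
  have hTK : T ≤ K := inf_le_right
  have hTL : T ≤ normalizer (L : Set G) := h.tn_norm F hx
  have hLV : L ≤ V := h.ln_le t
  -- `Ξ = R 0 Λ`
  set Ξ := R 0 ⊔ Λ with hΞ
  have hKΞ : K ≤ normalizer (Ξ : Set G) := by
    intro g hg
    have hgR : g ∈ normalizer (R 0 : Set G) := by rw [hNr]; exact hg
    rw [← cj_eq_self_iff, hΞ, cj_sup, cj_eq_self_iff.2 hgR, cj_eq_self_iff.2 (hN hgR)]
  have hΞm : ∀ l ∈ Ξ, ∃ a' ∈ R 0, a' * l ∈ CenX L R := by
    intro l hl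
    have h3 : Ξ ≤ RC B.toBT 0 := by
      refine sup_le (fun a' ha => ⟨a'⁻¹, inv_mem ha, ?_⟩) hΛ
      rw [inv_mul_cancel]
      exact one_mem _
    exact h3 hl
  have hE0 : Ξ ⊓ CenX L R ≠ ⊥ := by
    intro h'
    apply hΛR
    intro y hy
    obtain ⟨a', ha, hm⟩ := hΛ y hy
    have h3 : a' * y ∈ Ξ ⊓ CenX L R :=
      ⟨mul_mem ((le_sup_left : R 0 ≤ Ξ) ha) ((le_sup_right : Λ ≤ Ξ) hy), hm⟩
    rw [h', mem_bot, mul_eq_one_iff_eq_inv] at h3
    have h4 : y = a'⁻¹ := by rw [h3, inv_inv]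
    rw [h4]; exact inv_mem ha
  have hTΞ : T ≤ normalizer ((Ξ ⊓ CenX L R : Subgroup G) : Set G) := by
    intro s hs
    have h3 := B.toBT.NV_le_NCenX (hTL hs)
    rw [← cj_eq_self_iff, cj_inf, cj_eq_self_iff.2 (hKΞ (hTK hs)), cj_eq_self_iff.2 h3]
  have hQT : o2 K ≤ T := HT.LemE.le_of_odd (S.isPGroup'.to_le inf_le_left) inf_le_right syl
      (o2_isPGroup _) (o2_le _) (hTK.trans (le_normalizer_o2 _))
  have hCT : Ξ ⊓ CenX L R ≤ T := by
    have h3 : CenX L R ≤ QQ (R 0) := (B.CenX_le_C).trans (iInf_le _ 0)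
    have h4 : QQ (R 0) = o2 K := by
      change o2 (normalizer (R 0 : Set G)) = o2 K
      rw [hNr]
    rw [h4] at h3
    exact inf_le_right.trans (h3.trans hQT)
  have hTp : IsPGroup 2 T := S.isPGroup'.to_le inf_le_left
  obtain ⟨f, hf, hf1, hff, hfT⟩ := HT.LemE.exists_inv hTp hE0 hCT hTΞ
  have hfz : f ∈ zc T := mem_zc.2 ⟨hCT hf, fun g hg => (hfT g hg).symm, by rw [pow_two]; exact hff⟩
  obtain ⟨v, hv, d, hd, hvT, hdT, e⟩ := h.zc_tn_dec F hx zv hfz
  have hfX : f ∈ CenX L R := hf.2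
  -- `v = 1`
  by_cases hv1 : v = 1
  · rw [hv1, one_mul] at e
    subst e
    have hfZ : f ∈ zc T ⊓ centralizer ((T ⊔ h.X3 (h.tri F hx) : Subgroup G) : Set G) := by
      have h3 := h.mem_Z0' F hx (c := 1) (one_mem V) hd (fun s _ => by rw [mul_one, one_mul]) hdT
        (Half.SymA.E_one M _) (Half.SymA.E_one M _) (Half.SymA.E_one M _)
      rwa [one_mul] at h3
    have hi10 : (1 : Fin 3) ≠ 0 := by decide
    have hi20 : (2 : Fin 3) ≠ 0 := by decide
    have hi12 : (1 : Fin 3) ≠ 2 := by decide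
    refine bip B.toBT hRK (fun g hg => hKr g (by rwa [hNr] at hg)) hTL (by rw [hNr]; exact syl) ?_
      (by rw [hNr]; exact hKΞ) hΞm hf.1 (good h F hx zv syl hfZ hf1) (good' h F hx zv syl hd hdT hf1)
    obtain ⟨g, hgN, hgt⟩ := B.toBT.mt 0
    obtain ⟨⟨w, hwL, hw⟩, -⟩ := hgt 1 2 hi10 hi20
    by_contra hcon
    push Not at hcon
    have h3 : pr M x (x.1, 0) ∈ R 2 := by
      have h4 : g * w * g⁻¹ * pr M x (x.1, 0) * (g * w * g⁻¹)⁻¹ = pr M x (x.1, 0) := by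
        have h5 := hcon g hgN (pr M x (x.1, 0)) (B.toBT.R_le 1 (by rw [h1]; exact mem_zpowers _)) (g * w * g⁻¹)
          (conj_mem_cj hwL)
        rw [← h5, mul_inv_cancel_right]
      rw [← hw, ← h4]
      exact conj_mem_cj (by rw [h1]; exact mem_zpowers _)
    have h4 := B.toBT.eq_one hi12 (by rw [h1]; exact mem_zpowers _ : pr M x (x.1, 0) ∈ R 1) h3
    exact h.pr_ne t.pr t.n2 h4
  -- `v ≠ 1`
  have hdX : ∀ y ∈ XX L R, y * d = d * y := fun y hy => h.X_DD t hd hy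
  have hvX : ∀ y ∈ XX L R, y * v = v * y := by
    intro y hy
    have h3 := mem_centralizer_iff.1 hfX y hy
    rw [e] at h3
    have h4 : y * v * d = v * y * d := by
      calc y * v * d = y * (v * d) := by group
        _ = v * d * y := h3
        _ = v * (y * d) := by rw [hdX y hy]; group
        _ = v * y * d := by group
    exact mul_right_cancel h4
  obtain ⟨g, hgN, hgt⟩ := B.toBT.mt 0
  obtain ⟨⟨w0, hw0L, hw0⟩, -⟩ := hgt 1 2 (by decide) (by decide)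
  obtain ⟨hx1, hx1P, hx1s⟩ := exists_sw h t.pq t.pr t.n1 t.n2 B.toBT h0 h1 h2 hgN hw0L hw0
  obtain ⟨g', hgN', hgt'⟩ := B.toBT.mt 2
  obtain ⟨⟨w', hw'L, hw'⟩, -⟩ := hgt' 1 0 (by decide) (by decide)
  have h2' : R 2 = zpowers (pr M (x.1, 0) (μ x)) := by rw [h2, pr_comm M t.qr]
  have h1' : R 1 = zpowers (pr M (x.1, 0) x) := by rw [h1, pr_comm M t.pr]
  have h0' : R 0 = zpowers (pr M (μ x) x) := by rw [h0, pr_comm M t.pq]
  obtain ⟨hx2, hx2P, hx2s⟩ := exists_sw h t.qr.symm t.pr.symm t.n3.symm t.n2.symm B.toBT h2' h1' h0' hgN' hw'L hw'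
  have hEf : ∀ y ∈ XX L R, y ∈ P → ∀ p, E M v (pp M y p) = E M v p := fun y hy hyP =>
    (h.comm_iff hyP hv).1 (hvX y hy)
  have hE1 : E M v x = E M v (μ x) := by
    have := hEf _ hx1 hx1P (μ x)
    rwa [hx1s, Equiv.swap_apply_right] at this
  have hE2 : E M v (μ x) = E M v (x.1, 0) := by
    have := hEf _ hx2 hx2P (x.1, 0)
    rwa [hx2s, Equiv.swap_apply_left] at this
  obtain ⟨p, q, hpq, hpa, hpb, hqa, hqb, hne⟩ := exists_sep (M := M) h.hm1 t.pq t.pr t.n2 t.n3 hv hv1 hE1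
    (hE1.trans hE2)
  have npq : p ≠ q := fun e => hne (by rw [e])
  obtain ⟨w, hwp, hwa, hwb, hwp', hwq⟩ := exists_third h.hm (a := x) (b := μ x) (p := p) (q := q)
  -- three duads
  have m1 : pr M p q ∈ Ξ := by
    refine pr_mem_of h t.pq hpq hpa hpb hqa hqb hKΞ hv hd ?_ hne
    rw [← e]; exact hf.1
  have m2 : pr M q w ∈ Ξ := by
    refine pr_mem_of h t.pq (hpq.symm.trans hwp.symm) hqa hqb hwa hwb hKΞ (pr_mem M p q) (one_mem (DD M)) ?_ ?_
    · rw [mul_one]; exact m1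
    · rw [E_pr_right M hpq npq, E_pr_of_ne M hpq hwp' hwq]
      exact one_ne_zero
  have m3 : pr M p w ∈ Ξ := by
    rw [← pr_mul M hpq (hpq.symm.trans hwp.symm)]
    exact mul_mem m1 m2
  have hgK : g ∈ K := by rw [← hNr]; exact hgN
  have hgr : g * r * g⁻¹ = r := by rw [hKr g hgK, mul_inv_cancel_right]
  have hcase : ∀ y ∈ Ξ, g * y * g⁻¹ ∈ CenX L R ∨ r * (g * y * g⁻¹) ∈ CenX L R := by
    intro y hy
    obtain ⟨a', ha', hm'⟩ := hΞm _ (conj_mem_of_normalizer (hKΞ hgK) hy)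
    rcases hRK a' ha' with rfl | rfl
    · rw [one_mul] at hm'; exact Or.inl hm'
    · exact Or.inr hm'
  have hkill : ∀ p q : Pt k m, p.1 = q.1 → p ≠ q → p ≠ x → p ≠ μ x → q ≠ x → q ≠ μ x →
      g * pr M p q * g⁻¹ ∈ CenX L R → False := fun p q e1 e2 e3 e4 e5 e6 e7 =>
    kill h t.pq e1 e2 e3 e4 e5 e6 B.toBT hLV (by decide : (1 : Fin 3) ≠ 2) hr1 hgr hrR hw0L hw0 e7
  have hrc : ∀ y ∈ V, r * (g * y * g⁻¹) = g * y * g⁻¹ * r := by
    intro y hy
    calc r * (g * y * g⁻¹) = (g * r * g⁻¹) * (g * y * g⁻¹) := by rw [hgr]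
      _ = g * (r * y) * g⁻¹ := by group
      _ = g * (y * r) * g⁻¹ := by rw [h.Vcomm hrV hy]
      _ = g * y * g⁻¹ * (g * r * g⁻¹) := by group
      _ = g * y * g⁻¹ * r := by rw [hgr]
  rcases hcase _ m1 with c1 | c1
  · exact hkill p q hpq npq hpa hpb hqa hqb c1
  rcases hcase _ m2 with c2 | c2
  · exact hkill q w (hpq.symm.trans hwp.symm) hwq.symm hqa hqb hwa hwb c2
  rcases hcase _ m3 with c3 | c3
  · exact hkill p w hwp.symm hwp'.symm hpa hpb hwa hwb c3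
  -- `r ∈ C_X`
  have hrX : r ∈ CenX L R := by
    have h3 := mul_mem (mul_mem c1 c2) c3
    have h4 : r * (g * pr M p q * g⁻¹) * (r * (g * pr M q w * g⁻¹)) * (r * (g * pr M p w * g⁻¹)) = r := by
      have h5 : pr M p q * pr M q w * pr M p w = 1 := by
        rw [pr_mul M hpq (hpq.symm.trans hwp.symm)]
        exact h.Vsq (pr_mem M p w)
      calc r * (g * pr M p q * g⁻¹) * (r * (g * pr M q w * g⁻¹)) * (r * (g * pr M p w * g⁻¹))
          = r * ((g * pr M p q * g⁻¹) * r) * (g * pr M q w * g⁻¹) * (r * (g * pr M p w * g⁻¹)) := by group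
        _ = r * (r * (g * pr M p q * g⁻¹)) * (g * pr M q w * g⁻¹) * (r * (g * pr M p w * g⁻¹)) := by
            rw [hrc _ (pr_mem M p q)]
        _ = (r * r) * (g * (pr M p q * pr M q w) * g⁻¹) * (r * (g * pr M p w * g⁻¹)) := by group
        _ = (g * (pr M p q * pr M q w) * g⁻¹ * r) * (g * pr M p w * g⁻¹) := by rw [hrr]; group
        _ = r * (g * (pr M p q * pr M q w) * g⁻¹) * (g * pr M p w * g⁻¹) := by
            rw [hrc _ (mul_mem (pr_mem M p q) (pr_mem M q w))]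
        _ = r * (g * (pr M p q * pr M q w * pr M p w) * g⁻¹) := by group
        _ = r := by rw [h5]; group
    rwa [h4] at h3
  obtain ⟨y, hy, hyR⟩ := B.toBT.trans_X_one 0 1
  have h3 : y * r * y⁻¹ = r := by rw [mem_centralizer_iff.1 hrX y hy, mul_inv_cancel_right]
  have h4 : r ∈ R 1 := by
    rw [← hyR, ← h3]
    exact conj_mem_cj hrR
  exact hr1 (B.toBT.eq_one (by decide : (0 : Fin 3) ≠ 1) hrR h4)

end thm

end Cfsg.Agent.Omega.IId.SymWrD.Ht.LE

end

section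


/-!
# THEOREM SYL^ (bb OMEGA #21666, helper916), steps (2), (3), over a line `{1, a, b, ab}`

`Cf h T` : `T ≤ C(a)` is a 2-group of odd index in `N_G({1, a, b, ab})`, with the decomposition of `Ω₁Z(T)` and `(zt)`.
* `Cf.main` : `T < T'`, `T' ≤ C(a)` a 2-group of odd index in `C_G(a)`, `1 ≠ x ∈ Ω₁Z(T') ∩ C(X)` `⟹` there are
  `1 ≠ k ∈ Ω₁Z(T) ∩ C(X)` and `γ ∈ C(k)`, `a^γ = a k`, `b^γ = b k`.
-/

set_option autoImplicit false
set_option linter.unusedSectionVars false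

namespace Cfsg.Agent.Omega.IId.SymWrD.Ht.TwoA

open Subgroup Cfsg
open Cfsg.Agent.ZN (o2 zc)
open Cfsg.Agent.Omega.HT.LineOf (Ln ln pts dd)
open Cfsg.Agent.Omega.BTwo (BT XX WW QQ O2 cj)
open Cfsg.Agent.MinSimple.VModule (le_normalizer_o2 o2_isPGroup o2_le mem_zc zc_le le_o2 o2_le_of_sylow)

universe u

variable {G : Type u} [Group G]

/-- the configuration -/
structure Cf {a b : G} (h : Ln a b) (T : Subgroup G) : Prop where
  bt : BT (ln h) (pts a b)
  char2 : IsCharacteristicTwoType G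
  Tp : IsPGroup 2 T
  TN : T ≤ normalizer (ln h : Set G)
  Ta : T ≤ centralizer ({a} : Set G)
  syl : ¬ 2 ∣ T.relIndex (normalizer (ln h : Set G))
  dec : ∀ z ∈ zc T, ∃ v ∈ ln h, ∃ c, (∀ y ∈ XX (ln h) (pts a b), y * c = c * y) ∧ (∀ t ∈ T, t * c = c * t) ∧
    z = v * c
  zt : ∀ t ∈ T, ∀ c ∈ T, c * c = 1 → (∀ s ∈ T, s ∈ centralizer (ln h : Set G) → s * c = c * s) →
    t * c * t⁻¹ = c ∨ t * c * t⁻¹ = c * a

theorem mem_sup_nrm {A B : Subgroup G} (h : A ≤ normalizer (B : Set G)) {x : G} (hx : x ∈ A ⊔ B) :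
    ∃ a ∈ A, ∃ b ∈ B, a * b = x := by
  have h1 : x ∈ ((A ⊔ B : Subgroup G) : Set G) := hx
  rw [coe_mul_of_left_le_normalizer_right A B h] at h1
  exact Set.mem_mul.mp h1

/-- `T⟨w⟩` is a 2-group -/
theorem sup_zp [Finite G] {T : Subgroup G} (hT : IsPGroup 2 T) {w : G} (hw : w ∈ normalizer (T : Set G))
    (h2 : w * w ∈ T) : IsPGroup 2 (T ⊔ zpowers w : Subgroup G) := by
  obtain ⟨n, hn⟩ := hT ⟨w * w, h2⟩
  have hn' : w ^ 2 ^ (n + 1) = 1 := by
    have h3 : (w * w) ^ 2 ^ n = 1 := by simpa using congrArg Subtype.val hn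
    rw [pow_succ, mul_comm, pow_mul, pow_two]; exact h3
  have h4 : IsPGroup 2 (zpowers w) := by
    rintro ⟨_, i, rfl⟩
    refine ⟨n + 1, Subtype.ext ?_⟩
    show (w ^ i) ^ 2 ^ (n + 1) = 1
    rw [← zpow_natCast, zpow_comm, zpow_natCast, hn', one_zpow]
  exact IsPGroup.to_sup_of_normal_left' hT h4 (by rw [zpowers_le]; exact hw)

/-- `O₂(N) ≤ O₂(H)` for `N` normal in `H` -/
theorem o2_le_o2 {N H : Subgroup G} (hN : N ≤ H) (hH : H ≤ normalizer (N : Set G)) : o2 N ≤ o2 H := by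
  refine le_o2 ((o2_le N).trans hN) (o2_isPGroup N) fun g hg => ?_
  rw [← BTwo.cj_eq_self_iff]
  have h1 : cj g N = N := BTwo.cj_eq_self_iff.2 (hH hg)
  show cj g (O2 N) = O2 N
  rw [BTwo.cj_O2, h1]

namespace Cf

variable {a b : G} {h : Ln a b} {T : Subgroup G} (C : Cf h T)
include C

theorem mem_L {v : G} (hv : v ∈ ln h) : v = 1 ∨ v = a ∨ v = b ∨ v = a * b := by
  rcases hv with e | ⟨i, e⟩
  · exact Or.inl e
  · fin_cases i
    · exact Or.inr (Or.inl e)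
    · exact Or.inr (Or.inr (Or.inl e))
    · exact Or.inr (Or.inr (Or.inr e))

theorem aL : a ∈ ln h := h.dd_mem 0
theorem bL : b ∈ ln h := h.dd_mem 1
theorem abL : a * b ∈ ln h := h.dd_mem 2

theorem sqL {v : G} (hv : v ∈ ln h) : v * v = 1 := C.bt.V_sq v hv

theorem commL {v w : G} (hv : v ∈ ln h) (hw : w ∈ ln h) : v * w = w * v := C.bt.V_comm v hv w hw

/-- two commuting involutions -/
theorem mem_cen_L {g : G} (h1 : g * a = a * g) (h2 : g * b = b * g) : g ∈ centralizer (ln h : Set G) := by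
  rw [mem_centralizer_iff]
  intro v hv
  rcases C.mem_L hv with rfl | rfl | rfl | rfl
  · rw [one_mul, mul_one]
  · exact h1.symm
  · exact h2.symm
  · calc a * b * g = a * (b * g) := by group
      _ = a * g * b := by rw [← h2]; group
      _ = g * (a * b) := by rw [← h1]; group

variable [Finite G]

theorem mem_N {g : G} (h1 : g * a * g⁻¹ ∈ ln h) (h2 : g * b * g⁻¹ ∈ ln h) : g ∈ normalizer (ln h : Set G) := by
  refine BTwo.mem_normalizer_of_conj fun v hv => ?_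
  rcases C.mem_L hv with rfl | rfl | rfl | rfl
  · have e : g * 1 * g⁻¹ = 1 := by group
    rw [e]; exact one_mem _
  · exact h1
  · exact h2
  · have e : g * (a * b) * g⁻¹ = g * a * g⁻¹ * (g * b * g⁻¹) := by group
    rw [e]; exact mul_mem h1 h2

/-- `T` is a maximal 2-subgroup of `N(L)` -/
theorem max {R : Subgroup G} (hR : IsPGroup 2 R) (hTR : T ≤ R) (hRN : R ≤ normalizer (ln h : Set G)) : R ≤ T := by
  have h1 := HT.card_dvd_card C.TN C.syl hR hRN
  exact (eq_of_le_of_card_ge hTR (Nat.le_of_dvd Nat.card_pos h1)).symm.le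

theorem not_mem_N {w : G} (hw : w ∈ normalizer (T : Set G)) (hw2 : w * w ∈ T) (hwT : w ∉ T) :
    w ∉ normalizer (ln h : Set G) := by
  intro hwN
  have h2 := C.max (sup_zp C.Tp hw hw2) le_sup_left (sup_le C.TN (by rw [zpowers_le]; exact hwN))
  exact hwT (h2 (mem_sup_right (mem_zpowers w)))

/-- `N(R 0) = C(a)` -/
theorem N0 : normalizer (pts a b 0 : Set G) = centralizer ({a} : Set G) := h.normalizer_pts 0

/-- `O₂(C(a)) ≤ T` -/
theorem Q_le : o2 (centralizer ({a} : Set G)) ≤ T := by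
  have h1 : QQ (pts a b 0) ≤ normalizer (ln h : Set G) := C.bt.Q_le_NV 0
  have e : QQ (pts a b 0) = o2 (centralizer ({a} : Set G)) := by
    show O2 (normalizer (pts a b 0 : Set G)) = _
    rw [C.N0]; rfl
  rw [e] at h1
  have h2 : IsPGroup 2 (T ⊔ o2 (centralizer ({a} : Set G)) : Subgroup G) :=
    IsPGroup.to_sup_of_normal_right' C.Tp (o2_isPGroup _) (C.Ta.trans (le_normalizer_o2 _))
  exact le_sup_right.trans (C.max h2 le_sup_left (sup_le C.TN h1))

theorem L_le : ln h ≤ T := by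
  have h1 : ln h ≤ QQ (pts a b 0) := C.bt.V_Q 0
  have e : QQ (pts a b 0) = o2 (centralizer ({a} : Set G)) := by
    show O2 (normalizer (pts a b 0 : Set G)) = _
    rw [C.N0]; rfl
  rw [e] at h1
  exact h1.trans C.Q_le

theorem comm_a {t : G} (ht : t ∈ T) : t * a = a * t := mem_centralizer_singleton_iff.1 (C.Ta ht)

/-- `W_i` swaps the other two points -/
theorem exists_W {i : Fin 3} {v w : G} (hv : v ∈ ln h) (hw : w ∈ ln h) (hvi : v ∉ pts a b i) (hwi : w ∉ pts a b i) :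
    ∃ g ∈ WW (ln h) (pts a b i), g * v * g⁻¹ = w := by
  obtain ⟨j, hj⟩ : ∃ j, v = dd a b j := hv.resolve_left fun e => hvi (by rw [e]; exact one_mem _)
  obtain ⟨l, hl⟩ : ∃ j, w = dd a b j := hw.resolve_left fun e => hwi (by rw [e]; exact one_mem _)
  have hji : j ≠ i := by rintro rfl; exact hvi (by rw [hj]; exact mem_zpowers _)
  have hli : l ≠ i := by rintro rfl; exact hwi (by rw [hl]; exact mem_zpowers _)
  obtain ⟨g, hg, e⟩ := C.bt.trans i hji hli
  refine ⟨g, hg, ?_⟩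
  have h1 : g * v * g⁻¹ ∈ pts a b l := by
    rw [← e, hj]; exact BTwo.conj_mem_cj (mem_zpowers _)
  rcases h.mem_pts.1 h1 with e1 | e1
  · exact absurd (conj_eq_one_iff.1 e1) (by rw [hj]; exact h.dd_ne j)
  · rw [e1, hl]

theorem b_notin : b ∉ pts a b 0 := fun e => by
  rcases h.mem_pts.1 e with e | e
  · exact h.b1 e
  · exact h.ne (show b = a from e).symm

theorem ab_notin : a * b ∉ pts a b 0 := fun e => by
  rcases h.mem_pts.1 e with e | e
  · exact h.ab1 e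
  · exact h.a_ab (show a * b = a from e).symm

/-- an element of `T` swapping `b` and `ab` -/
theorem exists_t : ∃ t ∈ T, t * b * t⁻¹ = a * b := by
  obtain ⟨t, ht, e⟩ := C.exists_W (i := 0) C.bL C.abL C.b_notin C.ab_notin
  have h1 : WW (ln h) (pts a b 0) ≤ QQ (pts a b 0) := C.bt.W_le_Q 0
  have e1 : QQ (pts a b 0) = o2 (centralizer ({a} : Set G)) := by
    show O2 (normalizer (pts a b 0 : Set G)) = _
    rw [C.N0]; rfl
  rw [e1] at h1
  exact ⟨t, C.Q_le (h1 ht), e⟩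

/-- `T` acts as `1` or as the swap -/
theorem act_T {t : G} (ht : t ∈ T) : t * b * t⁻¹ = b ∨ t * b * t⁻¹ = a * b := by
  rcases C.mem_L (BTwo.conj_mem_of_normalizer (C.TN ht) C.bL) with e | e | e | e
  · exact absurd (conj_eq_one_iff.1 e) h.b1
  · exfalso
    have h1 : t * a * t⁻¹ = a := by rw [C.comm_a ht, mul_inv_cancel_right]
    exact h.ne (mul_left_cancel (mul_right_cancel (h1.trans e.symm)))
  · exact Or.inl e
  · exact Or.inr e

/-- `Ω₁Z(C_T(L)) = L (Ω₁Z(T) ∩ C(X))` -/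
theorem dec0 {u : G} (hu : u ∈ T) (hu2 : u * u = 1)
    (huT : ∀ s ∈ T, s ∈ centralizer (ln h : Set G) → s * u = u * s) :
    ∃ l ∈ ln h, ∃ c ∈ zc T, (∀ y ∈ XX (ln h) (pts a b), y * c = c * y) ∧ u = l * c := by
  obtain ⟨t, ht, et⟩ := C.exists_t
  -- an involution commuting with `T`
  have key : ∀ z ∈ T, z * z = 1 → (∀ s ∈ T, s * z = z * s) →
      ∃ l ∈ ln h, ∃ c ∈ zc T, (∀ y ∈ XX (ln h) (pts a b), y * c = c * y) ∧ z = l * c := by
    intro z hz hz2 hzT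
    obtain ⟨v, hv, c, hc1, hc2, e⟩ := C.dec z (mem_zc.2 ⟨hz, hzT, by rw [pow_two]; exact hz2⟩)
    have hvT := C.L_le hv
    have ec : c = v⁻¹ * z := by rw [e]; group
    have hcT : c ∈ T := by rw [ec]; exact mul_mem (inv_mem hvT) hz
    have hcc : c * c = 1 := by
      have h1 : v⁻¹ * c = c * v⁻¹ := hc2 _ (inv_mem hvT)
      have h2 : v⁻¹ = v := inv_eq_of_mul_eq_one_left (C.sqL hv)
      calc c * c = v⁻¹ * z * c := by rw [← ec]
        _ = v⁻¹ * (v * c) * c := by rw [e]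
        _ = v⁻¹ * v⁻¹ * v * v * c * c := by rw [h2]; rw [C.sqL hv]; group
        _ = v⁻¹ * v⁻¹ * (v * c * (v * c)) := by
          rw [h2] at h1
          rw [show v * c * (v * c) = v * (c * v) * c by group, ← h1]; group
        _ = 1 := by rw [← e, hz2, mul_one, h2, C.sqL hv]
    exact ⟨v, hv, c, mem_zc.2 ⟨hcT, hc2, by rw [pow_two]; exact hcc⟩, hc1, e⟩
  -- an element of `T₀` or of `t T₀`
  have hall : ∀ z ∈ T, (∀ s ∈ T, s ∈ centralizer (ln h : Set G) → s * z = z * s) → t * z * t⁻¹ = z →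
      ∀ s ∈ T, s * z = z * s := by
    intro z _ hz0 hzt s hs
    rcases C.act_T hs with e | e
    · exact hz0 s hs (C.mem_cen_L (C.comm_a hs) (mul_inv_eq_iff_eq_mul.1 e))
    · have h1 : t⁻¹ * s ∈ T := mul_mem (inv_mem ht) hs
      have h2 : t⁻¹ * s * b * (t⁻¹ * s)⁻¹ = b := by
        calc t⁻¹ * s * b * (t⁻¹ * s)⁻¹ = t⁻¹ * (s * b * s⁻¹) * t := by group
          _ = t⁻¹ * (t * b * t⁻¹) * t := by rw [e, et]
          _ = b := by group
      have h3 := hz0 _ h1 (C.mem_cen_L (C.comm_a h1) (mul_inv_eq_iff_eq_mul.1 h2))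
      have h4 : t * z = z * t := mul_inv_eq_iff_eq_mul.1 hzt
      calc s * z = t * (t⁻¹ * s * z) := by group
        _ = t * z * (t⁻¹ * s) := by rw [h3]; group
        _ = z * s := by rw [h4]; group
  rcases C.zt t ht u hu hu2 huT with e | e
  · exact key u hu hu2 (hall u hu huT e)
  · -- `b u` commutes with `T`
    have hub : u * b = b * u := by
      have h1 := huT b (C.L_le C.bL) (C.bt.V_le_cen C.bL)
      exact h1.symm
    have hua : a * u = u * a := (C.comm_a hu).symm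
    have hbu : b * u ∈ T := mul_mem (C.L_le C.bL) hu
    have hbu2 : b * u * (b * u) = 1 := by
      calc b * u * (b * u) = b * (u * b) * u := by group
        _ = b * b * (u * u) := by rw [hub]; group
        _ = 1 := by rw [C.sqL C.bL, hu2, one_mul]
    have h1 : ∀ s ∈ T, s ∈ centralizer (ln h : Set G) → s * (b * u) = b * u * s := by
      intro s hs hsL
      have h2 := mem_centralizer_iff.1 hsL b C.bL
      rw [← mul_assoc, ← h2, mul_assoc, huT s hs hsL, mul_assoc]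
    have h2 : t * (b * u) * t⁻¹ = b * u := by
      calc t * (b * u) * t⁻¹ = (t * b * t⁻¹) * (t * u * t⁻¹) := by group
        _ = a * b * (u * a) := by rw [et, e]
        _ = a * (b * u) * a := by group
        _ = a * (u * b) * a := by rw [hub]
        _ = a * u * (b * a) := by group
        _ = u * a * (a * b) := by rw [hua, h.comm]
        _ = u * (a * a) * b := by group
        _ = b * u := by rw [h.aa, mul_one, hub]
    obtain ⟨l, hl, c, hc, hcX, e2⟩ := key _ hbu hbu2 (hall _ hbu h1 h2)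
    refine ⟨b * l, mul_mem C.bL hl, c, hc, hcX, ?_⟩
    calc u = b * b * u := by rw [h.bb, one_mul]
      _ = b * (b * u) := by group
      _ = b * l * c := by rw [e2]; group

/-- `a` is not in `C(X)` -/
theorem a_notin : ¬ ∀ y ∈ XX (ln h) (pts a b), y * a = a * y := fun e =>
  h.a1 (C.bt.cen_VX C.aL (mem_centralizer_iff.2 fun y hy => e y hy))

/-- the common output of (A) and (B) -/
def Out (_ : Cf h T) (w : G) : Prop := w ∈ normalizer (T : Set G) ∧ w ∉ T ∧ w * w ∈ T ∧ w * a * w⁻¹ = a ∧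
  ∃ k ∈ zc T, k ≠ 1 ∧ (∀ y ∈ XX (ln h) (pts a b), y * k = k * y) ∧ (w * b * w⁻¹ = b * k ∨ w * b * w⁻¹ = a * b * k)

/-- **(3)** -/
theorem three {w : G} (hw : C.Out w) : ∃ k ∈ zc T, k ≠ 1 ∧ (∀ y ∈ XX (ln h) (pts a b), y * k = k * y) ∧
    ∃ g, g * k = k * g ∧ g * a * g⁻¹ = a * k ∧ g * b * g⁻¹ = b * k := by
  -- wlog `b^w = b k`
  obtain ⟨w, hwN, hwT, hw2, hwa, k, hk, hk1, hkX, hwb⟩ : ∃ w ∈ normalizer (T : Set G), w ∉ T ∧ w * w ∈ T ∧
      w * a * w⁻¹ = a ∧ ∃ k ∈ zc T, k ≠ 1 ∧ (∀ y ∈ XX (ln h) (pts a b), y * k = k * y) ∧ w * b * w⁻¹ = b * k := by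
    obtain ⟨hwN, hwT, hw2, hwa, k, hk, hk1, hkX, hwb | hwb⟩ := hw
    · exact ⟨w, hwN, hwT, hw2, hwa, k, hk, hk1, hkX, hwb⟩
    · obtain ⟨t, ht, et⟩ := C.exists_t
      have htN : t ∈ normalizer (T : Set G) := le_normalizer ht
      refine ⟨t * w, mul_mem htN hwN, fun e => hwT ?_, ?_, ?_, k, hk, hk1, hkX, ?_⟩
      · have := mul_mem (inv_mem ht) e
        rwa [inv_mul_cancel_left] at this
      · have h1 : w * t * w⁻¹ ∈ T := (mem_normalizer_iff.1 hwN t).1 ht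
        have e : t * w * (t * w) = t * (w * t * w⁻¹) * (w * w) := by group
        rw [e]; exact mul_mem (mul_mem ht h1) hw2
      · calc t * w * a * (t * w)⁻¹ = t * (w * a * w⁻¹) * t⁻¹ := by group
          _ = a := by rw [hwa, C.comm_a ht, mul_inv_cancel_right]
      · have h1 : t * k = k * t := (mem_zc.1 hk).2.1 t ht
        calc t * w * b * (t * w)⁻¹ = t * (w * b * w⁻¹) * t⁻¹ := by group
          _ = t * (a * b * k) * t⁻¹ := by rw [hwb]
          _ = (t * a) * b * (k * t⁻¹) := by group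
          _ = (a * t) * b * (k * t⁻¹) := by rw [C.comm_a ht]
          _ = a * (t * b * t⁻¹) * (t * k * t⁻¹) := by group
          _ = a * (a * b) * k := by rw [et, h1, mul_inv_cancel_right]
          _ = a * a * b * k := by group
          _ = b * k := by rw [h.aa, one_mul]
  have hkT := (mem_zc.1 hk).2.1
  have hkk : k * k = 1 := by rw [← pow_two]; exact (mem_zc.1 hk).2.2
  have hkm : k ∈ T := (mem_zc.1 hk).1
  have hka : a * k = k * a := hkT a (C.L_le C.aL)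
  have hkb : b * k = k * b := hkT b (C.L_le C.bL)
  have hk' : w * k * w⁻¹ ∈ T := (mem_normalizer_iff.1 hwN k).1 hkm
  -- `k^w`
  have hkw : w * k * w⁻¹ = k ∨ w * k * w⁻¹ = k * a := by
    have h1 : w * w * b * (w * w)⁻¹ = b * (k * (w * k * w⁻¹)) := by
      calc w * w * b * (w * w)⁻¹ = w * (w * b * w⁻¹) * w⁻¹ := by group
        _ = w * (b * k) * w⁻¹ := by rw [hwb]
        _ = (w * b * w⁻¹) * (w * k * w⁻¹) := by group
        _ = _ := by rw [hwb]; group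
    rcases C.act_T hw2 with e | e
    · left
      rw [h1] at e
      have e1 : k * (w * k * w⁻¹) = 1 := mul_left_cancel (e.trans (mul_one b).symm)
      calc w * k * w⁻¹ = k * k * (w * k * w⁻¹) := by rw [hkk, one_mul]
        _ = k * (k * (w * k * w⁻¹)) := by group
        _ = k := by rw [e1, mul_one]
    · right
      rw [h1, h.comm] at e
      have e1 : k * (w * k * w⁻¹) = a := mul_left_cancel e
      calc w * k * w⁻¹ = k * k * (w * k * w⁻¹) := by rw [hkk, one_mul]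
        _ = k * (k * (w * k * w⁻¹)) := by group
        _ = k * a := by rw [e1]
  -- the transposition `a ↔ b`
  obtain ⟨y, hy, ya, yb⟩ : ∃ y ∈ XX (ln h) (pts a b), y * a * y⁻¹ = b ∧ y * b * y⁻¹ = a := by
    obtain ⟨y, hy, e1, e2⟩ := C.bt.trans_X (i := 0) (j := 1) (k := 1) (l := 0) (by decide) (by decide)
    have conv : ∀ {i j : Fin 3}, cj y (pts a b i) = pts a b j → y * dd a b i * y⁻¹ = dd a b j := by
      intro i j e
      have h1 : y * dd a b i * y⁻¹ ∈ pts a b j := by rw [← e]; exact BTwo.conj_mem_cj (mem_zpowers _)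
      exact (h.mem_pts.1 h1).resolve_left fun e => h.dd_ne i (conj_eq_one_iff.1 e)
    exact ⟨y, hy, conv e1, conv e2⟩
  have hyk := hkX y hy
  have hyk' : y * k * y⁻¹ = k := by rw [hyk, mul_inv_cancel_right]
  rcases hkw with hkw | hkw
  · -- `k^w = k`
    have e1 : w⁻¹ * k * w = k := by
      calc w⁻¹ * k * w = w⁻¹ * (w * k * w⁻¹) * w := by rw [hkw]
        _ = k := by group
    have e2 : w⁻¹ * b * w = b * k := by
      calc w⁻¹ * b * w = w⁻¹ * (b * k) * w * (w⁻¹ * k * w)⁻¹ := by group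
        _ = w⁻¹ * (w * b * w⁻¹) * w * k⁻¹ := by rw [hwb, e1]
        _ = b * k⁻¹ := by group
        _ = b * k := by rw [inv_eq_of_mul_eq_one_left hkk]
    have e3 : w⁻¹ * a * w = a := by
      calc w⁻¹ * a * w = w⁻¹ * (w * a * w⁻¹) * w := by rw [hwa]
        _ = a := by group
    refine ⟨k, hk, hk1, hkX, y * (w * y * w⁻¹), ?_, ?_, ?_⟩
    · have f1 : w * y * w⁻¹ * k = k * (w * y * w⁻¹) := by
        calc w * y * w⁻¹ * k = w * (y * (w⁻¹ * k * w)) * w⁻¹ := by group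
          _ = w * (k * y) * w⁻¹ := by rw [e1, hyk]
          _ = (w * k * w⁻¹) * (w * y * w⁻¹) := by group
          _ = _ := by rw [hkw]
      rw [mul_assoc, f1, ← mul_assoc, hyk, mul_assoc]
    · calc y * (w * y * w⁻¹) * a * (y * (w * y * w⁻¹))⁻¹
          = y * (w * (y * (w⁻¹ * a * w) * y⁻¹) * w⁻¹) * y⁻¹ := by group
        _ = y * (b * k) * y⁻¹ := by rw [e3, ya, hwb]
        _ = (y * b * y⁻¹) * (y * k * y⁻¹) := by group
        _ = a * k := by rw [yb, hyk']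
    · calc y * (w * y * w⁻¹) * b * (y * (w * y * w⁻¹))⁻¹
          = y * (w * (y * (w⁻¹ * b * w) * y⁻¹) * w⁻¹) * y⁻¹ := by group
        _ = y * (w * ((y * b * y⁻¹) * (y * k * y⁻¹)) * w⁻¹) * y⁻¹ := by rw [e2]; group
        _ = y * ((w * a * w⁻¹) * (w * k * w⁻¹)) * y⁻¹ := by rw [yb, hyk']; group
        _ = (y * a * y⁻¹) * (y * k * y⁻¹) := by rw [hwa, hkw]; group
        _ = b * k := by rw [ya, hyk']
  · -- `k^w = k a`: `T ⟨w⟩` normalises a conjugate of `L`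
    exfalso
    have e3 : w⁻¹ * a * w = a := by
      calc w⁻¹ * a * w = w⁻¹ * (w * a * w⁻¹) * w := by rw [hwa]
        _ = a := by group
    have e1 : w⁻¹ * k * w = k * a := by
      calc w⁻¹ * k * w = w⁻¹ * (k * a) * w * (w⁻¹ * a * w)⁻¹ := by group
        _ = w⁻¹ * (w * k * w⁻¹) * w * a⁻¹ := by rw [hkw, e3]
        _ = k * a⁻¹ := by group
        _ = k * a := by rw [inv_eq_of_mul_eq_one_left h.aa]
    have e2 : w⁻¹ * b * w = b * (k * a) := by
      have f : (k * a)⁻¹ = k * a := inv_eq_of_mul_eq_one_left (by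
        calc k * a * (k * a) = k * (a * k) * a := by group
          _ = k * k * (a * a) := by rw [hka]; group
          _ = 1 := by rw [hkk, h.aa, mul_one])
      calc w⁻¹ * b * w = w⁻¹ * (b * k) * w * (w⁻¹ * k * w)⁻¹ := by group
        _ = w⁻¹ * (w * b * w⁻¹) * w * (k * a)⁻¹ := by rw [hwb, e1]
        _ = b * (k * a) := by rw [f]; group
    obtain ⟨d, hd⟩ : ∃ d, d = y * (w * y * w⁻¹) := ⟨_, rfl⟩
    have da : d * a * d⁻¹ = a * k := by
      rw [hd]
      calc y * (w * y * w⁻¹) * a * (y * (w * y * w⁻¹))⁻¹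
          = y * (w * (y * (w⁻¹ * a * w) * y⁻¹) * w⁻¹) * y⁻¹ := by group
        _ = y * (b * k) * y⁻¹ := by rw [e3, ya, hwb]
        _ = (y * b * y⁻¹) * (y * k * y⁻¹) := by group
        _ = a * k := by rw [yb, hyk']
    have db : d * b * d⁻¹ = a := by
      rw [hd]
      calc y * (w * y * w⁻¹) * b * (y * (w * y * w⁻¹))⁻¹
          = y * (w * (y * (w⁻¹ * b * w) * y⁻¹) * w⁻¹) * y⁻¹ := by group
        _ = y * (w * ((y * b * y⁻¹) * (y * k * y⁻¹) * (y * a * y⁻¹)) * w⁻¹) * y⁻¹ := by rw [e2]; group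
        _ = y * ((w * a * w⁻¹) * (w * k * w⁻¹) * (w * b * w⁻¹)) * y⁻¹ := by rw [yb, hyk', ya]; group
        _ = y * (a * (k * a) * (b * k)) * y⁻¹ := by rw [hwa, hkw, hwb]
        _ = y * (a * (a * k) * (k * b)) * y⁻¹ := by rw [← hka, hkb]
        _ = y * ((a * a) * (k * k) * b) * y⁻¹ := by group
        _ = y * b * y⁻¹ := by rw [h.aa, hkk, one_mul, one_mul]
        _ = a := yb
    -- `R = T ⟨w⟩`
    have hR := sup_zp C.Tp hwN hw2
    have hRd : cj d⁻¹ (T ⊔ zpowers w) ≤ normalizer (ln h : Set G) := by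
      rintro _ ⟨r, hr, rfl⟩
      change d⁻¹ * r * d⁻¹⁻¹ ∈ _
      have hr1 : (r * a * r⁻¹ = a) ∧ (r * k * r⁻¹ = k ∨ r * k * r⁻¹ = k * a) := by
        let H : Subgroup G :=
          { carrier := {r | r * a * r⁻¹ = a ∧ (r * k * r⁻¹ = k ∨ r * k * r⁻¹ = k * a)}
            one_mem' := ⟨by group, Or.inl (by group)⟩
            mul_mem' := by
              rintro r s ⟨hr1, hr2⟩ ⟨hs1, hs2⟩
              have f1 : r * s * a * (r * s)⁻¹ = a := by
                calc r * s * a * (r * s)⁻¹ = r * (s * a * s⁻¹) * r⁻¹ := by group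
                  _ = a := by rw [hs1, hr1]
              refine ⟨f1, ?_⟩
              have f2 : r * s * k * (r * s)⁻¹ = r * (s * k * s⁻¹) * r⁻¹ := by group
              rw [f2]
              rcases hs2 with e | e
              · rw [e]; exact hr2
              · have f3 : r * (k * a) * r⁻¹ = r * k * r⁻¹ * (r * a * r⁻¹) := by group
                rw [e, f3, hr1]
                rcases hr2 with e | e
                · rw [e]; exact Or.inr rfl
                · rw [e, mul_assoc, h.aa, mul_one]; exact Or.inl rfl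
            inv_mem' := by
              rintro r ⟨hr1, hr2⟩
              have f1 : r⁻¹ * a * r⁻¹⁻¹ = a := by
                calc r⁻¹ * a * r⁻¹⁻¹ = r⁻¹ * (r * a * r⁻¹) * r := by rw [hr1]; group
                  _ = a := by group
              refine ⟨f1, ?_⟩
              rcases hr2 with e | e
              · left
                calc r⁻¹ * k * r⁻¹⁻¹ = r⁻¹ * (r * k * r⁻¹) * r := by rw [e]; group
                  _ = k := by group
              · right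
                have f4 : r⁻¹ * (k * a) * r⁻¹⁻¹ = k := by
                  calc r⁻¹ * (k * a) * r⁻¹⁻¹ = r⁻¹ * (r * k * r⁻¹) * r := by rw [e]; group
                    _ = k := by group
                calc r⁻¹ * k * r⁻¹⁻¹ = r⁻¹ * (k * a) * r⁻¹⁻¹ * (r⁻¹ * a * r⁻¹⁻¹)⁻¹ := by group
                  _ = k * a⁻¹ := by rw [f4, f1]
                  _ = k * a := by rw [inv_eq_of_mul_eq_one_left h.aa] }
        have hle : T ⊔ zpowers w ≤ H := by
          refine sup_le (fun t ht => ⟨?_, Or.inl ?_⟩) ?_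
          · rw [C.comm_a ht, mul_inv_cancel_right]
          · rw [hkT t ht, mul_inv_cancel_right]
          · rw [zpowers_le]; exact ⟨hwa, Or.inr hkw⟩
        exact hle hr
      have db' : d⁻¹ * a * d = b := by rw [← db]; group
      have dk' : d⁻¹ * k * d = a * b := by
        have : k = a * (a * k) := by rw [← mul_assoc, h.aa, one_mul]
        calc d⁻¹ * k * d = d⁻¹ * (a * (a * k)) * d := by rw [← this]
          _ = (d⁻¹ * a * d) * (d⁻¹ * (a * k) * d) := by group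
          _ = b * (d⁻¹ * (d * a * d⁻¹) * d) := by rw [db', da]
          _ = b * a := by group
          _ = a * b := h.comm.symm
      have dka : d⁻¹ * (k * a) * d = a := by
        calc d⁻¹ * (k * a) * d = (d⁻¹ * k * d) * (d⁻¹ * a * d) := by group
          _ = a * b * b := by rw [dk', db']
          _ = a := by rw [mul_assoc, h.bb, mul_one]
      have dak : d⁻¹ * (a * k) * d = a := by rw [hka]; exact dka
      -- `a = (a k)^{d⁻¹}`, `b = a^{d⁻¹}`
      refine C.mem_N ?_ ?_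
      · have f : d⁻¹ * r * d⁻¹⁻¹ * a * (d⁻¹ * r * d⁻¹⁻¹)⁻¹ = d⁻¹ * ((r * a * r⁻¹) * (r * k * r⁻¹)) * d := by
          calc d⁻¹ * r * d⁻¹⁻¹ * a * (d⁻¹ * r * d⁻¹⁻¹)⁻¹ = d⁻¹ * (r * (d * a * d⁻¹) * r⁻¹) * d := by group
            _ = _ := by rw [da]; group
        rw [f, hr1.1]
        rcases hr1.2 with e | e
        · rw [e, dak]; exact C.aL
        · rw [e]
          have f2 : d⁻¹ * (a * (k * a)) * d = (d⁻¹ * a * d) * (d⁻¹ * (k * a) * d) := by group
          rw [f2, db', dka, ← h.comm]; exact C.abL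
      · have f : d⁻¹ * r * d⁻¹⁻¹ * b * (d⁻¹ * r * d⁻¹⁻¹)⁻¹ = d⁻¹ * (r * a * r⁻¹) * d := by
          calc d⁻¹ * r * d⁻¹⁻¹ * b * (d⁻¹ * r * d⁻¹⁻¹)⁻¹ = d⁻¹ * (r * (d * b * d⁻¹) * r⁻¹) * d := by group
            _ = _ := by rw [db]
        rw [f, hr1.1, db']; exact C.bL
    have hRp : IsPGroup 2 (cj d⁻¹ (T ⊔ zpowers w) : Subgroup G) := hR.map _
    have h2 := Nat.le_of_dvd Nat.card_pos (HT.card_dvd_card C.TN C.syl hRp hRd)
    rw [BTwo.card_cj] at h2
    have h3 : T = T ⊔ zpowers w := eq_of_le_of_card_ge le_sup_left h2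
    exact hwT (h3.symm.le (mem_sup_right (mem_zpowers w)))

/-- `O₂(C(x)) ∩ N(L)` centralises `L`, for `x ∈ C(X)` -/
theorem cen_O {x : G} (hxX : ∀ y ∈ XX (ln h) (pts a b), y * x = x * y) {g : G}
    (hg : g ∈ o2 (centralizer ({x} : Set G))) (hgN : g ∈ normalizer (ln h : Set G)) :
    g ∈ centralizer (ln h : Set G) := by
  refine h.cen_of C.bt (K := o2 (centralizer ({x} : Set G)))
    (fun y hy => le_normalizer_o2 _ (mem_centralizer_singleton_iff.2 (hxX y hy))) (fun g hg _ => ?_) hg hgN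
  obtain ⟨n, e⟩ := (o2_isPGroup (centralizer ({x} : Set G))) ⟨g, hg⟩
  refine ⟨n, ?_⟩
  have e1 : g ^ 2 ^ n = 1 := by simpa using congrArg Subtype.val e
  rw [e1]; exact one_mem _

/-- **(B)** -/
theorem caseB {x : G} (hTx : ∀ t ∈ T, t * x = x * t) (hxX : ∀ y ∈ XX (ln h) (pts a b), y * x = x * y)
    (hO : ¬ o2 (centralizer ({x} : Set G)) ≤ T) : ∃ w, C.Out w := by
  obtain ⟨O, hOe⟩ : ∃ O, O = o2 (centralizer ({x} : Set G)) := ⟨_, rfl⟩
  rw [← hOe] at hO
  have hTO : T ≤ normalizer (O : Set G) := by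
    rw [hOe]
    exact fun t ht => le_normalizer_o2 _ (mem_centralizer_singleton_iff.2 (hTx t ht))
  have hOp : IsPGroup 2 O := by rw [hOe]; exact o2_isPGroup _
  have hp : IsPGroup 2 (T ⊔ O : Subgroup G) := IsPGroup.to_sup_of_normal_right' C.Tp hOp hTO
  have hlt : T < T ⊔ O := lt_of_le_of_ne le_sup_left fun e => hO (le_sup_right.trans e.symm.le)
  obtain ⟨g, hg, hgN, hgT, hg2⟩ := MinSimple.Choice97.exists_normalizing hp hlt
  obtain ⟨s, hs, w, hw, rfl⟩ := mem_sup_nrm hTO hg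
  have hsN : s ∈ normalizer (T : Set G) := le_normalizer hs
  have hwN : w ∈ normalizer (T : Set G) := by
    have := mul_mem (inv_mem hsN) hgN
    rwa [inv_mul_cancel_left] at this
  have hwT : w ∉ T := fun e => hgT (mul_mem hs e)
  have hw2 : w * w ∈ T := by
    have h1 : w * s * w⁻¹ ∈ T := (mem_normalizer_iff.1 hwN s).1 hs
    have h2 : s * (w * s * w⁻¹) * (w * w) ∈ T := by
      have e : s * (w * s * w⁻¹) * (w * w) = s * w * (s * w) := by group
      rw [e]; exact hg2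
    have h3 := mul_mem (inv_mem (mul_mem hs h1)) h2
    rwa [inv_mul_cancel_left] at h3
  have hO0 : ∀ y ∈ O, y ∈ T → y ∈ centralizer (ln h : Set G) := fun y hy hyT =>
    C.cen_O hxX (by rw [← hOe]; exact hy) (C.TN hyT)
  -- `[w, t] ∈ O ∩ T`
  have hcm : ∀ t ∈ T, w * t * w⁻¹ * t⁻¹ ∈ T ∧ w * t * w⁻¹ * t⁻¹ ∈ centralizer (ln h : Set G) := by
    intro t ht
    have h1 : w * t * w⁻¹ * t⁻¹ ∈ T := mul_mem ((mem_normalizer_iff.1 hwN t).1 ht) (inv_mem ht)
    refine ⟨h1, hO0 _ ?_ h1⟩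
    have e : w * t * w⁻¹ * t⁻¹ = w * (t * w⁻¹ * t⁻¹) := by group
    rw [e]
    exact mul_mem hw (BTwo.conj_mem_of_normalizer (hTO ht) (inv_mem hw))
  have hwiN := inv_mem hwN
  have hcm' : ∀ t ∈ T, t ∈ centralizer (ln h : Set G) → w⁻¹ * t * w ∈ T ∧
      w⁻¹ * t * w ∈ centralizer (ln h : Set G) := by
    intro t ht htL
    have h0 : w⁻¹ * t * w ∈ T := by
      have := (mem_normalizer_iff.1 hwiN t).1 ht
      rwa [inv_inv] at this
    refine ⟨h0, ?_⟩
    have h1 := (hcm _ h0).2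
    have e : w⁻¹ * t * w = (w * (w⁻¹ * t * w) * w⁻¹ * (w⁻¹ * t * w)⁻¹)⁻¹ * t := by group
    rw [e]
    exact mul_mem (inv_mem h1) htL
  -- the conjugates of `L`
  have hLw : ∀ v ∈ ln h, w * v * w⁻¹ ∈ T ∧ w * v * w⁻¹ * (w * v * w⁻¹) = 1 ∧
      ∀ s ∈ T, s ∈ centralizer (ln h : Set G) → s * (w * v * w⁻¹) = w * v * w⁻¹ * s := by
    intro v hv
    refine ⟨(mem_normalizer_iff.1 hwN v).1 (C.L_le hv), ?_, fun s hs hsL => ?_⟩
    · calc w * v * w⁻¹ * (w * v * w⁻¹) = w * (v * v) * w⁻¹ := by group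
        _ = 1 := by rw [C.sqL hv]; group
    · have h1 := mem_centralizer_iff.1 (hcm' s hs hsL).2 v hv
      calc s * (w * v * w⁻¹) = w * (w⁻¹ * s * w * v) * w⁻¹ := by group
        _ = w * (v * (w⁻¹ * s * w)) * w⁻¹ := by rw [h1]
        _ = w * v * w⁻¹ * s := by group
  obtain ⟨u, hu⟩ : ∃ u, u = w * b * w⁻¹ := ⟨_, rfl⟩
  obtain ⟨huT, hu2, hu0⟩ := hLw b C.bL
  rw [← hu] at huT hu2 hu0
  obtain ⟨t, ht, et⟩ := C.exists_t
  -- `a^w = a`
  have hwa : w * a * w⁻¹ = a := by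
    obtain ⟨y, hy⟩ : ∃ y, y = w * t * w⁻¹ * t⁻¹ := ⟨_, rfl⟩
    obtain ⟨hyT, hyL⟩ := hcm t ht
    rw [← hy] at hyT hyL
    have e1 : w * (a * b) * w⁻¹ = y * (t * u * t⁻¹) * y⁻¹ := by
      calc w * (a * b) * w⁻¹ = w * (t * b * t⁻¹) * w⁻¹ := by rw [et]
        _ = _ := by rw [hy, hu]; group
    have e2 : w * (a * b) * w⁻¹ = w * a * w⁻¹ * u := by rw [hu]; group
    have hyu : y * u = u * y := hu0 y hyT hyL
    have hya : y * a = a * y := C.comm_a hyT
    rcases C.zt t ht u huT hu2 hu0 with e | e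
    · exfalso
      have e3 : y * u * y⁻¹ = u := by rw [hyu, mul_inv_cancel_right]
      rw [e, e3, e2] at e1
      have e4 : w * a * w⁻¹ = 1 := mul_right_cancel (e1.trans (one_mul u).symm)
      exact h.a1 (conj_eq_one_iff.1 e4)
    · have e3 : y * (u * a) * y⁻¹ = u * a := by
        calc y * (u * a) * y⁻¹ = (y * u) * a * y⁻¹ := by group
          _ = u * (y * a) * y⁻¹ := by rw [hyu]; group
          _ = u * a := by rw [hya]; group
      rw [e, e3, e2, ← C.comm_a huT |>.symm] at e1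
      exact mul_right_cancel e1
  refine ⟨w, hwN, hwT, hw2, hwa, ?_⟩
  obtain ⟨l, hl, c, hc, hcX, e⟩ := C.dec0 huT hu2 hu0
  have hcT := (mem_zc.1 hc).2.1
  have key : l = b ∨ l = a * b := by
    have hno : (∀ s ∈ T, s * u = u * s) → False := by
      intro hall
      have h1 : w * t * w⁻¹ ∈ T := (mem_normalizer_iff.1 hwN t).1 ht
      have h2 := hall _ h1
      have h3 : t * b = b * t := by
        calc t * b = w⁻¹ * (w * t * w⁻¹ * u) * w := by rw [hu]; group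
          _ = w⁻¹ * (u * (w * t * w⁻¹)) * w := by rw [h2]
          _ = b * t := by rw [hu]; group
      have h4 : b = a * b := by rw [← et, h3, mul_inv_cancel_right]
      exact h.b_ab h4
    rcases C.mem_L hl with e1 | e1 | e1 | e1
    · exfalso; apply hno
      intro s hs
      rw [e, e1, one_mul]; exact hcT s hs
    · exfalso; apply hno
      intro s hs
      rw [e, e1, ← mul_assoc, C.comm_a hs, mul_assoc, hcT s hs, mul_assoc]
    · exact Or.inl e1
    · exact Or.inr e1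
  refine ⟨c, hc, fun hc1 => ?_, hcX, ?_⟩
  · refine C.not_mem_N hwN hw2 hwT (C.mem_N (by rw [hwa]; exact C.aL) ?_)
    rw [← hu, e, hc1, mul_one]; exact hl
  · rw [← hu, e]
    rcases key with e1 | e1
    · left; rw [e1]
    · right; rw [e1]


/-- `[T, L] ≤ ⟨a⟩` -/
theorem TL {t v : G} (ht : t ∈ T) (hv : v ∈ ln h) : t * v * t⁻¹ = v ∨ t * v * t⁻¹ = a * v := by
  have h1 : t * a * t⁻¹ = a := by rw [C.comm_a ht, mul_inv_cancel_right]
  rcases C.mem_L hv with rfl | rfl | rfl | rfl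
  · left; group
  · exact Or.inl h1
  · exact C.act_T ht
  · have h2 : t * (a * b) * t⁻¹ = t * a * t⁻¹ * (t * b * t⁻¹) := by group
    rw [h2, h1]
    rcases C.act_T ht with e | e
    · left; rw [e]
    · right; rw [e]

/-- `O₂(C(r)) ∩ C(L) ≤ T` for every point `r` -/
theorem QC_le (j : Fin 3) {g : G} (hg : g ∈ QQ (pts a b j)) (hgL : g ∈ centralizer (ln h : Set G)) : g ∈ T := by
  have h1 : (QQ (pts a b j) ⊓ centralizer (ln h : Set G) : Subgroup G) ≤ o2 (centralizer (ln h : Set G)) := by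
    refine le_o2 inf_le_right ((o2_isPGroup _).to_le (inf_le_left : _ ≤ QQ (pts a b j))) fun y hy => ?_
    refine BTwo.mem_normalizer_of_conj fun z hz => ?_
    have hy1 : y ∈ normalizer (pts a b j : Set G) := C.bt.cen_le_N j hy
    exact mem_inf.2 ⟨BTwo.conj_mem_of_normalizer (le_normalizer_o2 _ hy1) hz.1,
      mul_mem (mul_mem hy hz.2) (inv_mem hy)⟩
  have h2 : o2 (centralizer (ln h : Set G)) ≤ o2 (normalizer (ln h : Set G)) :=
    o2_le_o2 (centralizer_le_normalizer _) (BTwo.normalizer_le_normalizer_centralizer _)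
  exact o2_le_of_sylow C.Tp C.syl (h2 (h1 (mem_inf.2 ⟨hg, hgL⟩)))

/-- **(A)** -/
theorem caseA {T' : Subgroup G} (hT' : IsPGroup 2 T') (hlt : T < T') (hTa' : T' ≤ centralizer ({a} : Set G))
    {x : G} (hx : x ∈ zc T') (hx1 : x ≠ 1) (hxX : ∀ y ∈ XX (ln h) (pts a b), y * x = x * y)
    (hO : o2 (centralizer ({x} : Set G)) ≤ T) : ∃ w, C.Out w := by
  obtain ⟨w, hwT', hwN, hwT, hw2⟩ := MinSimple.Choice97.exists_normalizing hT' hlt
  have hxT' := (mem_zc.1 hx).2.1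
  have hx2 : x ^ 2 = 1 := (mem_zc.1 hx).2.2
  have hwa : w * a = a * w := mem_centralizer_singleton_iff.1 (hTa' hwT')
  have hwa' : w * a * w⁻¹ = a := by rw [hwa, mul_inv_cancel_right]
  have hwx : w * x = x * w := hxT' w hwT'
  obtain ⟨O, hOe⟩ : ∃ O, O = o2 (centralizer ({x} : Set G)) := ⟨_, rfl⟩
  rw [← hOe] at hO
  have hxC : ∀ {g : G}, g * x = x * g → g ∈ normalizer (O : Set G) := fun {g} hg => by
    rw [hOe]; exact le_normalizer_o2 _ (mem_centralizer_singleton_iff.2 hg)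
  have hOp : IsPGroup 2 O := by rw [hOe]; exact o2_isPGroup _
  have hOL : O ≤ centralizer (ln h : Set G) := fun g hg =>
    C.cen_O hxX (by rw [← hOe]; exact hg) (C.TN (hO hg))
  have hTx : ∀ t ∈ T, t * x = x * t := fun t ht => hxT' t (hlt.le ht)
  have hLO : ln h ≤ O := by
    intro v hv
    rw [hOe]
    refine MinSimple.Basic.char2_centralizer C.char2 hx2 hx1 (mem_inf.2
      ⟨mem_centralizer_singleton_iff.2 (hTx v (C.L_le hv)), mem_centralizer_iff.2 fun g hg => ?_⟩)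
    rw [← hOe] at hg
    exact (mem_centralizer_iff.1 (hOL hg) v hv).symm
  have hwO := hxC hwx
  have hV'O : ∀ v ∈ ln h, w * v * w⁻¹ ∈ O := fun v hv => BTwo.conj_mem_of_normalizer hwO (hLO hv)
  have hV'c : ∀ v ∈ ln h, ∀ g ∈ O, g * (w * v * w⁻¹) = w * v * w⁻¹ * g := by
    intro v hv g hg
    have h1 : w⁻¹ * g * w ∈ O := by
      have := BTwo.conj_mem_of_normalizer (inv_mem hwO) hg
      rwa [inv_inv] at this
    have h2 := mem_centralizer_iff.1 (hOL h1) v hv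
    calc g * (w * v * w⁻¹) = w * (w⁻¹ * g * w * v) * w⁻¹ := by group
      _ = w * (v * (w⁻¹ * g * w)) * w⁻¹ := by rw [h2]
      _ = w * v * w⁻¹ * g := by group
  -- `[T, V'] ≤ ⟨a⟩`
  have hTV : ∀ v ∈ ln h, ∀ t ∈ T, t * (w * v * w⁻¹) * t⁻¹ = w * v * w⁻¹ ∨
      t * (w * v * w⁻¹) * t⁻¹ = a * (w * v * w⁻¹) := by
    intro v hv t ht
    have h1 : w⁻¹ * t * w ∈ T := by
      have := (mem_normalizer_iff.1 (inv_mem hwN) t).1 ht
      rwa [inv_inv] at this
    have h2 : t * (w * v * w⁻¹) * t⁻¹ = w * ((w⁻¹ * t * w) * v * (w⁻¹ * t * w)⁻¹) * w⁻¹ := by group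
    rw [h2]
    rcases C.TL h1 hv with e | e
    · left; rw [e]
    · right
      rw [e]
      calc w * (a * v) * w⁻¹ = (w * a * w⁻¹) * (w * v * w⁻¹) := by group
        _ = _ := by rw [hwa']
  -- `x ∈ Z(Q_j)`
  have hxQ0 : x ∈ QQ (pts a b 0) := by
    show x ∈ o2 (normalizer (pts a b 0 : Set G))
    rw [C.N0]
    exact MinSimple.Basic.char2_centralizer C.char2 (by rw [pow_two]; exact h.aa) h.a1 (mem_inf.2
      ⟨hTa' (mem_zc.1 hx).1, mem_centralizer_iff.2 fun g hg => hTx g (C.Q_le hg)⟩)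
  have hxQ0c : ∀ g ∈ QQ (pts a b 0), g * x = x * g := by
    intro g hg
    change g ∈ o2 (normalizer (pts a b 0 : Set G)) at hg
    rw [C.N0] at hg
    exact hTx g (C.Q_le hg)
  have hxQ : ∀ j, x ∈ QQ (pts a b j) ∧ ∀ g ∈ QQ (pts a b j), g * x = x * g := by
    intro j
    obtain ⟨e, he, ej⟩ := C.bt.trans_X_one 0 j
    have hex : e * x * e⁻¹ = x := by rw [hxX e he, mul_inv_cancel_right]
    have hQ := C.bt.cj_QQ ej
    refine ⟨?_, fun g hg => ?_⟩
    · rw [← hQ, ← hex]; exact BTwo.conj_mem_cj hxQ0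
    · rw [← hQ] at hg
      obtain ⟨g', hg', rfl⟩ := hg
      change e * g' * e⁻¹ * x = x * (e * g' * e⁻¹)
      have h1 := hxQ0c g' hg'
      calc e * g' * e⁻¹ * x = e * g' * e⁻¹ * (e * x * e⁻¹) := by rw [hex]
        _ = e * (g' * x) * e⁻¹ := by group
        _ = e * (x * g') * e⁻¹ := by rw [h1]
        _ = (e * x * e⁻¹) * (e * g' * e⁻¹) := by group
        _ = x * (e * g' * e⁻¹) := by rw [hex]
  -- `V' ≤ Q_j`
  have hVQ : ∀ j : Fin 3, j ≠ 0 → ∀ v ∈ ln h, w * v * w⁻¹ ∈ QQ (pts a b j) := by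
    intro j hj
    obtain ⟨H, hH⟩ : ∃ H, H = normalizer (pts a b j : Set G) := ⟨_, rfl⟩
    have hHQ : H ≤ normalizer (QQ (pts a b j) : Set G) := by rw [hH]; exact le_normalizer_o2 _
    have hV'H : ∀ v ∈ ln h, w * v * w⁻¹ ∈ H := by
      intro v hv
      rw [hH, h.normalizer_pts j, mem_centralizer_singleton_iff]
      exact (hV'c v hv _ (hLO (h.dd_mem j))).symm
    have haQ : ∃ g ∈ QQ (pts a b j), g * a ≠ a * g := by
      have h1 : (0 : Fin 3) ≠ j := Ne.symm hj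
      obtain ⟨l, hl1, hl2⟩ : ∃ l : Fin 3, l ≠ j ∧ l ≠ 0 := by
        have : ∀ j : Fin 3, ∃ l : Fin 3, l ≠ j ∧ l ≠ 0 := by decide
        exact this j
      obtain ⟨g, hg, e⟩ := C.bt.trans j h1 hl1
      refine ⟨g, C.bt.W_le_Q j hg, fun e1 => hl2 ?_⟩
      have e2 : cj g (pts a b 0) = pts a b 0 := h.cj_pts (by
        show g * a * g⁻¹ = a
        rw [e1, mul_inv_cancel_right])
      exact C.bt.R_index (e.symm.trans e2)
    -- `V'` commutes with the `x^q`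
    have hcom : ∀ v ∈ ln h, ∀ q ∈ H, (w * v * w⁻¹) * (q * x * q⁻¹) = q * x * q⁻¹ * (w * v * w⁻¹) := by
      intro v hv q hq
      obtain ⟨y, hy⟩ : ∃ y, y = q * x * q⁻¹ := ⟨_, rfl⟩
      obtain ⟨v', hv'⟩ : ∃ v', v' = w * v * w⁻¹ := ⟨_, rfl⟩
      rw [← hy, ← hv']
      have hyQ : y ∈ QQ (pts a b j) := by
        rw [hy]; exact BTwo.conj_mem_of_normalizer (hHQ hq) (hxQ j).1
      have hyc : ∀ g ∈ QQ (pts a b j), g * y = y * g := by
        intro g hg
        have h1 : q⁻¹ * g * q ∈ QQ (pts a b j) := by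
          have := BTwo.conj_mem_of_normalizer (inv_mem (hHQ hq)) hg
          rwa [inv_inv] at this
        have h2 := (hxQ j).2 _ h1
        calc g * y = q * (q⁻¹ * g * q * x) * q⁻¹ := by rw [hy]; group
          _ = q * (x * (q⁻¹ * g * q)) * q⁻¹ := by rw [h2]
          _ = y * g := by rw [hy]; group
      have hyT : y ∈ T := C.QC_le j hyQ (mem_centralizer_iff.2 fun l hl => hyc l (C.bt.V_Q j hl))
      have hv'H : v' ∈ H := by rw [hv']; exact hV'H v hv
      rcases hTV v hv y hyT with e | e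
      · rw [← hv'] at e
        exact (mul_inv_eq_iff_eq_mul.1 e).symm
      · exfalso
        rw [← hv'] at e
        have e1 : a = y * (v' * y⁻¹ * v'⁻¹) := by
          calc a = a * v' * v'⁻¹ := by group
            _ = y * v' * y⁻¹ * v'⁻¹ := by rw [e]
            _ = _ := by group
        obtain ⟨g, hg, hga⟩ := haQ
        apply hga
        have h3 : v'⁻¹ * g * v' ∈ QQ (pts a b j) := by
          have := BTwo.conj_mem_of_normalizer (inv_mem (hHQ hv'H)) hg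
          rwa [inv_inv] at this
        have h4 : v'⁻¹ * g * v' * y⁻¹ = y⁻¹ * (v'⁻¹ * g * v') :=
          ((show Commute _ y from hyc _ h3).inv_right).eq
        have h5 : g * (v' * y⁻¹ * v'⁻¹) = v' * y⁻¹ * v'⁻¹ * g := by
          calc g * (v' * y⁻¹ * v'⁻¹) = v' * (v'⁻¹ * g * v' * y⁻¹) * v'⁻¹ := by group
            _ = v' * (y⁻¹ * (v'⁻¹ * g * v')) * v'⁻¹ := by rw [h4]
            _ = _ := by group
        have h6 : g * (y * (v' * y⁻¹ * v'⁻¹)) = y * (v' * y⁻¹ * v'⁻¹) * g := by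
          rw [← mul_assoc, hyc g hg, mul_assoc, h5]
          group
        rwa [← e1] at h6
    -- the normal subgroup `N` of `H`
    let N : Subgroup G :=
      { carrier := {g | g ∈ H ∧ ∀ q ∈ H, g * (q * x * q⁻¹) = q * x * q⁻¹ * g}
        one_mem' := ⟨one_mem _, fun q _ => by rw [one_mul, mul_one]⟩
        mul_mem' := by
          rintro g g' ⟨hg, hg1⟩ ⟨hg', hg1'⟩
          refine ⟨mul_mem hg hg', fun q hq => ?_⟩
          rw [mul_assoc, hg1' q hq, ← mul_assoc, hg1 q hq, mul_assoc]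
        inv_mem' := by
          rintro g ⟨hg, hg1⟩
          exact ⟨inv_mem hg, fun q hq => ((show Commute g _ from hg1 q hq).inv_left).eq⟩ }
    have hNH : N ≤ H := fun g hg => hg.1
    have hHN : H ≤ normalizer (N : Set G) := by
      intro p hp
      refine BTwo.mem_normalizer_of_conj fun g hg => ⟨mul_mem (mul_mem hp hg.1) (inv_mem hp), fun q hq => ?_⟩
      have h1 := hg.2 (p⁻¹ * q) (mul_mem (inv_mem hp) hq)
      calc p * g * p⁻¹ * (q * x * q⁻¹) = p * (g * (p⁻¹ * q * x * (p⁻¹ * q)⁻¹)) * p⁻¹ := by group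
        _ = p * (p⁻¹ * q * x * (p⁻¹ * q)⁻¹ * g) * p⁻¹ := by rw [h1]
        _ = q * x * q⁻¹ * (p * g * p⁻¹) := by group
    have hNx : ∀ g ∈ N, g * x = x * g := by
      intro g hg
      have := hg.2 1 (one_mem _)
      rwa [one_mul, inv_one, mul_one] at this
    intro v hv
    have h1 : w * v * w⁻¹ ∈ N := ⟨hV'H v hv, fun q hq => hcom v hv q hq⟩
    have h2 : (O ⊓ N : Subgroup G) ≤ o2 N := by
      refine le_o2 inf_le_right (hOp.to_le inf_le_left) fun g hg => ?_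
      refine BTwo.mem_normalizer_of_conj fun z hz => mem_inf.2
        ⟨BTwo.conj_mem_of_normalizer (hxC (hNx g hg)) hz.1, mul_mem (mul_mem hg hz.2) (inv_mem hg)⟩
    have h3 := o2_le_o2 hNH hHN (h2 (mem_inf.2 ⟨hV'O v hv, h1⟩))
    rw [hH] at h3
    exact h3
  -- `u_j`
  obtain ⟨u, hu⟩ : ∃ u, u = w * b * w⁻¹ := ⟨_, rfl⟩
  have hLV : ∀ v ∈ ln h, ∀ l ∈ ln h, l * (w * v * w⁻¹) = w * v * w⁻¹ * l := fun v hv l hl =>
    hV'c v hv l (hLO hl)
  have hul : ∀ l ∈ ln h, l * u = u * l := fun l hl => by rw [hu]; exact hLV b C.bL l hl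
  have huu : u * u = 1 := by
    rw [hu]
    calc w * b * w⁻¹ * (w * b * w⁻¹) = w * (b * b) * w⁻¹ := by group
      _ = 1 := by rw [h.bb]; group
  have hua := hul a C.aL
  have hU : ∀ j : Fin 3, j ≠ 0 → ∃ u', (u' = u ∨ u' = u * a) ∧ ∀ g ∈ WW (ln h) (pts a b j), g * u' = u' * g := by
    intro j hj
    obtain ⟨d, hd⟩ : ∃ d, d = dd a b j := ⟨_, rfl⟩
    have hdL : d ∈ ln h := by rw [hd]; exact h.dd_mem j
    have hmemj : ∀ {z : G}, z ∈ pts a b j → z = 1 ∨ z = d := fun {z} hz => by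
      rw [hd]; exact h.mem_pts.1 hz
    have hdd : d * d = 1 := C.sqL hdL
    have had : a * d = d * a := C.commL C.aL hdL
    have hanj : a ∉ pts a b j := fun e => by
      have := C.bt.eq_one hj e (mem_zpowers a : a ∈ pts a b 0)
      exact h.a1 this
    have had1 : a * d ∉ pts a b j := fun e => by
      have h1 : a * d * d ∈ pts a b j := mul_mem e (by rw [hd]; exact mem_zpowers _)
      rw [mul_assoc, hdd, mul_one] at h1
      exact hanj h1
    obtain ⟨o, ho, eo⟩ := C.exists_W (i := j) C.aL (mul_mem C.aL hdL) hanj had1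
    -- elements of `W_j ∩ C(a)`
    have hW0 : ∀ g ∈ WW (ln h) (pts a b j), g * a = a * g → g * u = u * g := by
      intro g hg hga
      have hgQ := C.bt.W_le_Q j hg
      have hgL : g ∈ centralizer (ln h : Set G) := by
        have h1 : cj g (pts a b 0) = pts a b 0 := h.cj_pts (by
          show g * a * g⁻¹ = a
          rw [hga, mul_inv_cancel_right])
        exact C.bt.mem_cen_Q (i := 0) (Ne.symm hj) hgQ h1
      have hgT := C.QC_le j hgQ hgL
      have h1 := C.bt.WQ j (hVQ j hj b C.bL) hg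
      rw [← hu] at h1
      have h2 := hTV b C.bL g hgT
      rw [← hu] at h2
      rcases h2 with e | e
      · exact mul_inv_eq_iff_eq_mul.1 e
      · exfalso
        have e1 : u * g * u⁻¹ * g⁻¹ = a := by
          have e2 : (u * g * u⁻¹ * g⁻¹)⁻¹ = a := by
            calc (u * g * u⁻¹ * g⁻¹)⁻¹ = g * u * g⁻¹ * u⁻¹ := by group
              _ = a := by rw [e]; group
          calc u * g * u⁻¹ * g⁻¹ = ((u * g * u⁻¹ * g⁻¹)⁻¹)⁻¹ := (inv_inv _).symm
            _ = a := by rw [e2]; exact inv_eq_of_mul_eq_one_left h.aa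
        rw [e1] at h1
        exact hanj h1
    -- the element `o`
    obtain ⟨u', hu', hou⟩ : ∃ u', (u' = u ∨ u' = u * a) ∧ o * u' = u' * o := by
      have h1 := C.bt.WQ j (hVQ j hj b C.bL) ho
      rw [← hu] at h1
      rcases hmemj h1 with e | e
      · refine ⟨u, Or.inl rfl, ?_⟩
        rw [mul_inv_eq_one, mul_inv_eq_iff_eq_mul] at e
        exact e.symm
      · refine ⟨u * a, Or.inr rfl, ?_⟩
        -- `o u o⁻¹ = u d`
        have e1 : o * u * o⁻¹ = u * d := by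
          have hui : u⁻¹ = u := inv_eq_of_mul_eq_one_left huu
          have e2 : o * u⁻¹ * o⁻¹ = u⁻¹ * d := by rw [← e]; group
          rwa [hui] at e2
        have e3 : o * (u * a) * o⁻¹ = u * a := by
          calc o * (u * a) * o⁻¹ = (o * u * o⁻¹) * (o * a * o⁻¹) := by group
            _ = u * d * (a * d) := by rw [e1, eo]
            _ = u * (d * a) * d := by group
            _ = u * a * (d * d) := by rw [← had]; group
            _ = u * a := by rw [hdd, mul_one]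
        exact mul_inv_eq_iff_eq_mul.1 e3
    have hW1 : ∀ g ∈ WW (ln h) (pts a b j), g * a = a * g → g * u' = u' * g := by
      intro g hg hga
      have h1 := hW0 g hg hga
      rcases hu' with e | e
      · rw [e]; exact h1
      · rw [e, ← mul_assoc, h1, mul_assoc, hga, mul_assoc]
    refine ⟨u', hu', fun g hg => ?_⟩
    rcases hmemj (C.bt.QV j g (C.bt.W_le_Q j hg) a C.aL) with e | e
    · rw [mul_inv_eq_one, mul_inv_eq_iff_eq_mul] at e
      exact hW1 g hg e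
    · have e1 : g * a * g⁻¹ = a * d := by
        rw [mul_inv_eq_iff_eq_mul] at e
        rw [e, had]
      have h1 : o⁻¹ * g ∈ WW (ln h) (pts a b j) := mul_mem (inv_mem ho) hg
      have h2 : o⁻¹ * g * a * (o⁻¹ * g)⁻¹ = a := by
        calc o⁻¹ * g * a * (o⁻¹ * g)⁻¹ = o⁻¹ * (g * a * g⁻¹) * o := by group
          _ = o⁻¹ * (o * a * o⁻¹) * o := by rw [e1, eo]
          _ = a := by group
      have h3 := hW1 _ h1 (mul_inv_eq_iff_eq_mul.1 h2)
      calc g * u' = o * (o⁻¹ * g * u') := by group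
        _ = o * u' * (o⁻¹ * g) := by rw [h3]; group
        _ = u' * g := by rw [hou]; group
  obtain ⟨u₁, hu₁, h1W⟩ := hU 1 (by decide)
  obtain ⟨u₂, hu₂, h2W⟩ := hU 2 (by decide)
  -- `u₁ ≠ u₂`
  have hne : u₁ ≠ u₂ := by
    intro e
    have hX : u₁ ∈ centralizer (XX (ln h) (pts a b) : Set G) :=
      C.bt.mem_cen_X (i := 1) (j := 2) (by decide) (mem_centralizer_iff.2 h1W)
        (mem_centralizer_iff.2 (by rw [e]; exact h2W))
    obtain ⟨g, hg, eg⟩ := C.exists_W (i := 0) C.bL C.abL C.b_notin C.ab_notin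
    have hwN0 : w ∈ normalizer (pts a b 0 : Set G) := by
      rw [C.N0]; exact mem_centralizer_singleton_iff.2 hwa
    have h1 : w * g * w⁻¹ ∈ WW (ln h) (pts a b 0) :=
      BTwo.conj_mem_of_normalizer (BTwo.normalizer_le_WW (ln h) (pts a b 0) hwN0) hg
    have h2 := mem_centralizer_iff.1 hX _ (BTwo.W_le_X _ _ 0 h1)
    have hga : g * a = a * g := by
      have h3 := C.bt.W_le_N 0 hg
      rw [C.N0] at h3
      exact mem_centralizer_singleton_iff.1 h3
    have h3 : (w * g * w⁻¹) * u * (w * g * w⁻¹)⁻¹ = u * a := by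
      calc (w * g * w⁻¹) * u * (w * g * w⁻¹)⁻¹ = w * (g * b * g⁻¹) * w⁻¹ := by rw [hu]; group
        _ = (w * a * w⁻¹) * (w * b * w⁻¹) := by rw [eg]; group
        _ = a * u := by rw [hwa', hu]
        _ = u * a := hua
    have h4 : (w * g * w⁻¹) * a * (w * g * w⁻¹)⁻¹ = a := by
      calc (w * g * w⁻¹) * a * (w * g * w⁻¹)⁻¹ = w * (g * (w⁻¹ * (a * w)) * g⁻¹) * w⁻¹ := by group
        _ = w * (g * a * g⁻¹) * w⁻¹ := by rw [← hwa]; group
        _ = w * a * w⁻¹ := by rw [hga]; group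
        _ = a := hwa'
    have h5 : (w * g * w⁻¹) * u₁ * (w * g * w⁻¹)⁻¹ = u₁ := by rw [h2, mul_inv_cancel_right]
    have h6 : (w * g * w⁻¹) * u₁ * (w * g * w⁻¹)⁻¹ = u₁ * a := by
      rcases hu₁ with e | e
      · rw [e]; exact h3
      · rw [e]
        calc (w * g * w⁻¹) * (u * a) * (w * g * w⁻¹)⁻¹
            = ((w * g * w⁻¹) * u * (w * g * w⁻¹)⁻¹) * ((w * g * w⁻¹) * a * (w * g * w⁻¹)⁻¹) := by group
          _ = u * a * a := by rw [h3, h4]
    have h7 : a = 1 := by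
      have := h5.symm.trans h6
      exact (mul_left_cancel ((mul_one u₁).trans this)).symm
    exact h.a1 h7
  have hu21 : u₂ = u₁ * a := by
    rcases hu₁ with e1 | e1 <;> rcases hu₂ with e2 | e2
    · exact absurd (e1.trans e2.symm) hne
    · rw [e1, e2]
    · rw [e1, e2, mul_assoc, h.aa, mul_one]
    · exact absurd (e1.trans e2.symm) hne
  have hu1L : ∀ l ∈ ln h, l * u₁ = u₁ * l := by
    intro l hl
    rcases hu₁ with e | e
    · rw [e]; exact hul l hl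
    · rw [e, ← mul_assoc, hul l hl, mul_assoc, C.commL hl C.aL, mul_assoc]
  have hu1a : a * u₁ = u₁ * a := hu1L a C.aL
  have hu1b : b * u₁ = u₁ * b := hu1L b C.bL
  have hu11 : u₁ * u₁ = 1 := by
    rcases hu₁ with e | e
    · rw [e]; exact huu
    · rw [e]
      calc u * a * (u * a) = u * (a * u) * a := by group
        _ = u * u * (a * a) := by rw [hua]; group
        _ = 1 := by rw [huu, h.aa, mul_one]
  have hu1T : u₁ ∈ T := by
    have h1 : u ∈ T := by rw [hu]; exact (mem_normalizer_iff.1 hwN b).1 (C.L_le C.bL)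
    rcases hu₁ with e | e
    · rw [e]; exact h1
    · rw [e]; exact mul_mem h1 (C.L_le C.aL)
  -- `k = b u₁`
  have hkX : b * u₁ ∈ centralizer (XX (ln h) (pts a b) : Set G) := by
    refine C.bt.mem_cen_X (i := 1) (j := 2) (by decide)
      (mul_mem (C.bt.R_cen_W 1 (mem_zpowers b)) (mem_centralizer_iff.2 h1W)) ?_
    have e : b * u₁ = a * b * u₂ := by
      rw [hu21, ← hu1a]
      calc b * u₁ = (a * a) * b * u₁ := by rw [h.aa, one_mul]
        _ = a * (a * b) * u₁ := by group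
        _ = a * (b * a) * u₁ := by rw [h.comm]
        _ = a * b * (a * u₁) := by group
    rw [e]
    exact mul_mem (C.bt.R_cen_W 2 (mem_zpowers (a * b))) (mem_centralizer_iff.2 h2W)
  have hkX' : ∀ y ∈ XX (ln h) (pts a b), y * (b * u₁) = b * u₁ * y := fun y hy => mem_centralizer_iff.1 hkX y hy
  have hkT : b * u₁ ∈ T := mul_mem (C.L_le C.bL) hu1T
  have hkk : b * u₁ * (b * u₁) = 1 := by
    calc b * u₁ * (b * u₁) = b * (u₁ * b) * u₁ := by group
      _ = b * b * (u₁ * u₁) := by rw [← hu1b]; group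
      _ = 1 := by rw [h.bb, hu11, mul_one]
  have hkc : ∀ t ∈ T, t * (b * u₁) = b * u₁ * t := by
    intro t ht
    have h1 : t * (b * u₁) * t⁻¹ = b * u₁ ∨ t * (b * u₁) * t⁻¹ = b * u₁ * a := by
      have e : t * (b * u₁) * t⁻¹ = (t * b * t⁻¹) * (t * u₁ * t⁻¹) := by group
      have f2 : t * u₁ * t⁻¹ = u₁ ∨ t * u₁ * t⁻¹ = a * u₁ := by
        have f3 := hTV b C.bL t ht
        rw [← hu] at f3
        rcases hu₁ with e | e
        · rw [e]; exact f3
        · rw [e]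
          have f4 : t * (u * a) * t⁻¹ = (t * u * t⁻¹) * (t * a * t⁻¹) := by group
          rw [f4, C.comm_a ht, mul_inv_cancel_right]
          rcases f3 with e | e
          · left; rw [e]
          · right; rw [e, mul_assoc]
      rw [e]
      have hba : b * a = a * b := h.comm.symm
      rcases C.act_T ht with e1 | e1 <;> rcases f2 with e2 | e2 <;> rw [e1, e2]
      · left; rfl
      · right; rw [hu1a, mul_assoc]
      · right
        rw [mul_assoc, mul_assoc, ← hu1a, ← mul_assoc a b, ← hba, mul_assoc]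
      · left
        calc a * b * (a * u₁) = a * (b * a) * u₁ := by group
          _ = (a * a) * b * u₁ := by rw [hba]; group
          _ = b * u₁ := by rw [h.aa, one_mul]
    rcases h1 with e | e
    · exact mul_inv_eq_iff_eq_mul.1 e
    · exfalso
      have h2 : t ∈ normalizer (centralizer (XX (ln h) (pts a b) : Set G) : Set G) :=
        BTwo.normalizer_le_normalizer_centralizer _ (C.bt.NV_le_NX (C.TN ht))
      have h3 := BTwo.conj_mem_of_normalizer h2 hkX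
      rw [e] at h3
      have h4 := mul_mem (inv_mem hkX) h3
      rw [inv_mul_cancel_left] at h4
      exact h.a1 (C.bt.cen_VX C.aL h4)
  have hub : u = b * (b * u₁) ∨ u = a * b * (b * u₁) := by
    have e : b * (b * u₁) = u₁ := by rw [← mul_assoc, h.bb, one_mul]
    rcases hu₁ with e1 | e1
    · left; rw [e, e1]
    · right
      rw [mul_assoc, e, hu1a, e1, mul_assoc, h.aa, mul_one]
  refine ⟨w, hwN, hwT, hw2, hwa', b * u₁, mem_zc.2 ⟨hkT, hkc, by rw [pow_two]; exact hkk⟩, fun e => ?_, hkX', ?_⟩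
  · refine C.not_mem_N hwN hw2 hwT (C.mem_N (by rw [hwa']; exact C.aL) ?_)
    rw [← hu]
    rcases hub with f | f
    · rw [f, e, mul_one]; exact C.bL
    · rw [f, e, mul_one]; exact C.abL
  · rw [← hu]; exact hub

/-- **steps (2), (3)** -/
theorem main {T' : Subgroup G} (hT' : IsPGroup 2 T') (hlt : T < T') (hTa' : T' ≤ centralizer ({a} : Set G))
    {x : G} (hx : x ∈ zc T') (hx1 : x ≠ 1) (hxX : ∀ y ∈ XX (ln h) (pts a b), y * x = x * y) :
    ∃ k ∈ zc T, k ≠ 1 ∧ (∀ y ∈ XX (ln h) (pts a b), y * k = k * y) ∧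
      ∃ g, g * k = k * g ∧ g * a * g⁻¹ = a * k ∧ g * b * g⁻¹ = b * k := by
  by_cases hO : o2 (centralizer ({x} : Set G)) ≤ T
  · obtain ⟨w, hw⟩ := C.caseA hT' hlt hTa' hx hx1 hxX hO
    exact C.three hw
  · obtain ⟨w, hw⟩ := C.caseB (fun t ht => (mem_zc.1 hx).2.1 t (hlt.le ht)) hxX hO
    exact C.three hw


end Cf

end Cfsg.Agent.Omega.IId.SymWrD.Ht.TwoA

end

section


/-!
# II.d, `SwCv`, `T`-`T`, `D` arbitrary: LEMMA E over a 2-group `T̂ ≥ T = C_S(n)` (bb OMEGA #22373 (B), helper971)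

`T̂` is a 2-subgroup of `C_G(n)` of odd index which contains `T = tn S M μ x` and normalises the line
`{1, n, r₂, r₃}` (THEOREM SYL^, #21666). `le_hat` : `ThmA.LE` for the line.

* `act` : a 2-group `O` normalised by the elements of `P` in the summands commuting with `n`: `O ∩ T` acts on `V` inside
  `⟨(x μx)⟩`;
* `swp` : `w ∈ O₂(C(n d))` normalises `T`, `w² ∈ T`, `w ∉ T` `⟹` `w n w⁻¹ = w⁻¹ n w ∈ DD M`;
* `caseB` : `O₂(C(n d)) ≤ T`;
* `le_hat`.
-/

set_option autoImplicit false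
set_option linter.unusedSectionVars false

namespace Cfsg.Agent.Omega.IId.SymWrD.Ht.LEHat

open Subgroup Pointwise Cfsg Cfsg.Agent.Omega.MinPar Cfsg.Agent.Omega.FFThm
open Cfsg.Agent.ZN (o2 zc)
open Cfsg.Agent.Omega.Half.SymA (Pt E)
open Cfsg.Agent.Omega.BTwo Cfsg.Agent.Omega.HTwo Cfsg.Agent.Omega.HTwo.Par
open Cfsg.Agent.Omega.HT.LemEA (GoodA)
open Cfsg.Agent.Omega.HT.LineOf (Ln ln pts dd)
open Cfsg.Agent.Omega.IId.SymWr.Ht.LE (exists_sep exists_third)
open Cfsg.Agent.Omega.IId.SymWrD.Ht.LE (bip goodA_of pr_mem_of exists_sw kill)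
open Cfsg.Agent.Omega.IId.Triangle (KK mem_KK)
open Cfsg.Agent.Omega.IId.Big (cz qz)
open Cfsg.Agent.MinSimple.VModule (le_normalizer_o2 o2_isPGroup o2_le mem_zc zc_le normalizer_le_normalizer_zc)

universe u

variable {G : Type u} [Group G] {P V : Subgroup G} {k m : ℕ}

section frame

variable {S : Sylow 2 G} {M : SymK (S : Subgroup G) P V ⊥ k m} {D : Subgroup G} (h : Fr S P V D M)
  {μ ν : Equiv.Perm (Pt k m)} (F : Fours M μ ν) {x : Pt k m} (hx : x.2 ≠ 0)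

include h F hx

theorem En {p : Pt k m} (h1 : p ≠ x) (h2 : p ≠ μ x) : E M (pr M x (μ x)) p = 0 :=
  E_pr_of_ne M (F.mfst x).symm h1 h2

/-- the action of `O ∩ T` on `V` -/
theorem act {O : Subgroup G} (hO : IsPGroup 2 O)
    (hn : ∀ g ∈ P, (∀ p, (pp M g p).1 = p.1) → g * pr M x (μ x) = pr M x (μ x) * g → g ∈ normalizer (O : Set G))
    {u : G} (hu : u ∈ O) (hut : u ∈ tn S M μ x) : pp M u = 1 ∨ pp M u = Equiv.swap x (μ x) := by
  classical
  have t := h.tri F hx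
  have huS : u ∈ (S : Subgroup G) := hut.1
  have huP : u ∈ P := h.SP huS
  have hz : ∀ {p : Pt k m}, p.2 = 0 → p ≠ x ∧ p ≠ μ x := by
    intro p hp
    exact ⟨fun e => hx (by rw [← e]; exact hp), fun e => hx (F.mnz.1 (by rw [← e]; exact hp))⟩
  have hb : ∀ {l : Fin k} {p : Pt k m}, l ≠ x.1 → p.1 = l → p ≠ x ∧ p ≠ μ x := by
    intro l p hl hp
    exact ⟨fun e => hl (by rw [← hp, e]), fun e => hl (by rw [← hp, e, F.mfst])⟩
  have hfix : ∀ p : Pt k m, p ≠ x → p ≠ μ x → pp M u p = p := by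
    intro p hp1 hp2
    have hblk : pp M u (p.1, 0) = (p.1, 0) := by
      by_contra hne
      by_cases hpb : p.1 = x.1
      · apply hne
        rw [hpb]; exact h.tn_zero F hx hut
      have h0 : (pp M u (p.1, 0)).2 = 0 := (h.snd huS).2 rfl
      have h1 : (pp M u (p.1, 0)).1 ≠ p.1 := fun e => hne (Prod.ext e h0)
      obtain ⟨a, ha, -⟩ := exists_pt4 h.hm p.1 (∅ : Finset (Pt k m)) (by simp)
      obtain ⟨b, hb1, hb2⟩ := exists_pt4 h.hm p.1 ({a} : Finset (Pt k m)) (by simp)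
      obtain ⟨c, hc1, hc2⟩ := exists_pt4 h.hm p.1 ({a, b} : Finset (Pt k m)) (Finset.card_le_two.trans (by norm_num))
      rw [Finset.mem_singleton] at hb2
      rw [Finset.mem_insert, Finset.mem_singleton, not_or] at hc2
      obtain ⟨g, hg, hgp⟩ := RD.exists_swapP h.toSit (ha.trans hb1.symm)
      have hE : E M (pr M x (μ x)) a = E M (pr M x (μ x)) b := by
        rw [En h F hx (hb hpb ha).1 (hb hpb ha).2, En h F hx (hb hpb hb1).1 (hb hpb hb1).2]
      have h3 := RD.comm_mem h.toSit (pr_mem M x (μ x)) hn hu (ha.trans hb1.symm) hg hgp hE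
      have h4 := RD.pp_comm_swap h.toSit huP hg hgp
      have hcP : u * g * u⁻¹ * g⁻¹ ∈ P := mul_mem (mul_mem (mul_mem huP hg) (inv_mem huP)) (inv_mem hg)
      have hblk' : ∀ {q r : Pt k m}, q.1 = p.1 → r.1 = p.1 → pp M u q ≠ r := by
        intro q r hq hr e
        apply h1
        rw [show (pp M u (p.1, 0)).1 = (pp M u q).1 from h.fst huP hq.symm, e, hr]
      have h5 : pp M (u * g * u⁻¹ * g⁻¹) c = c := by
        rw [h4, Equiv.Perm.mul_apply, Equiv.swap_apply_of_ne_of_ne hc2.1 hc2.2,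
          Equiv.swap_apply_of_ne_of_ne (hblk' ha hc1).symm (hblk' hb1 hc1).symm]
      have h6 := RD.tri h.toSit hO (pr_mem M x (μ x)) hn h3 hcP (hc1.trans ha.symm) hc2.1
        (by rw [En h F hx (hb hpb hc1).1 (hb hpb hc1).2, En h F hx (hb hpb ha).1 (hb hpb ha).2]) h5
      have h7 : pp M (u * g * u⁻¹ * g⁻¹) a = b := by
        rw [h4, Equiv.Perm.mul_apply, Equiv.swap_apply_left,
          Equiv.swap_apply_of_ne_of_ne (hblk' ha hb1).symm (hblk' hb1 hb1).symm]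
      exact hb2 (h7.symm.trans h6)
    by_cases hp0 : p.2 = 0
    · have e : p = (p.1, 0) := Prod.ext rfl hp0
      rw [e]; exact hblk
    · have hz0 := hz (p := (p.1, 0)) rfl
      refine RD.tri h.toSit hO (pr_mem M x (μ x)) hn hu huP (a := (p.1, 0)) rfl (fun e => hp0 ?_) ?_ hblk
      · rw [← e]
      · rw [En h F hx hz0.1 hz0.2, En h F hx hp1 hp2]
  rcases h.tn_pp F hx hut with ⟨e1, e2⟩ | ⟨e1, e2⟩
  · left
    ext1 p
    by_cases hp1 : p = x
    · rw [hp1, e1]; rfl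
    by_cases hp2 : p = μ x
    · rw [hp2, e2]; rfl
    · rw [hfix p hp1 hp2]; rfl
  · right
    ext1 p
    by_cases hp1 : p = x
    · rw [hp1, e1, Equiv.swap_apply_left]
    by_cases hp2 : p = μ x
    · rw [hp2, e2, Equiv.swap_apply_right]
    · rw [hfix p hp1 hp2, Equiv.swap_apply_of_ne_of_ne hp1 hp2]

end frame

/-! ### `w ∈ O₂(C(n d))` normalising `T` -/

section conf

variable [Finite G] {S : Sylow 2 G} {M : SymK (S : Subgroup G) P V ⊥ k m} {D : Subgroup G} (h : Fr S P V D M)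
  {μ ν : Equiv.Perm (Pt k m)} (F : Fours M μ ν) {x : Pt k m} (hx : x.2 ≠ 0)

/-- `w ∈ O₂(C(n d))` normalises `T`, `w ∉ T`, `w² ∈ T` -/
structure Out (S : Sylow 2 G) {P V : Subgroup G} (M : SymK (S : Subgroup G) P V ⊥ k m) (μ : Equiv.Perm (Pt k m))
    (x : Pt k m) (d w : G) : Prop where
  mO : w ∈ o2 (centralizer ({pr M x (μ x) * d} : Set G))
  nT : w ∈ normalizer (tn S M μ x : Set G)
  sq : w * w ∈ tn S M μ x
  nm : w ∉ tn S M μ x

omit [Finite G] in
theorem Out.inv {d w : G} (hw : Out S M μ x d w) : Out S M μ x d w⁻¹ where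
  mO := inv_mem hw.mO
  nT := inv_mem hw.nT
  sq := by
    have h1 : w⁻¹ * w⁻¹ = (w * w)⁻¹ := by group
    rw [h1]
    exact inv_mem hw.sq
  nm := fun h1 => hw.nm (by rw [← inv_inv w]; exact inv_mem h1)

include h F hx

/-- the elements of `P` in the summands commuting with `n` normalise `O₂(C(n d))` -/
theorem nO {d : G} (hd : d ∈ DD M) {g : G} (hg : g ∈ P) (hg1 : ∀ p, (pp M g p).1 = p.1)
    (hgn : g * pr M x (μ x) = pr M x (μ x) * g) :
    g ∈ normalizer (o2 (centralizer ({pr M x (μ x) * d} : Set G)) : Set G) := by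
  refine le_normalizer_o2 _ (mem_centralizer_singleton_iff.2 ?_)
  rw [← mul_assoc, hgn, mul_assoc, (mem_DD.1 hd).2 g hg hg1, mul_assoc]

theorem actO {d : G} (hd : d ∈ DD M) {u : G} (hu : u ∈ o2 (centralizer ({pr M x (μ x) * d} : Set G)))
    (hut : u ∈ tn S M μ x) : pp M u = 1 ∨ pp M u = Equiv.swap x (μ x) :=
  act h F hx (o2_isPGroup _) (fun _ hg hg1 hgn => nO h F hx hd hg hg1 hgn) hu hut

theorem perpO {d : G} (hd : d ∈ DD M) {u : G} (hu : u ∈ o2 (centralizer ({pr M x (μ x) * d} : Set G)))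
    (hut : u ∈ tn S M μ x) {v : G} (hv : v ∈ V) (hE : E M v x = E M v (μ x)) : u * v = v * u :=
  h.comm_perp_of (p := x) (q := μ x) (h.SP hut.1) (actO h F hx hd hu hut) hv hE

omit [Finite G] h F hx in
theorem cm {d : G} (hdT : ∀ s ∈ tn S M μ x, s * d = d * s) {w : G} (hw : Out S M μ x d w) {t : G}
    (ht : t ∈ tn S M μ x) : w * t * w⁻¹ * t⁻¹ ∈ o2 (centralizer ({pr M x (μ x) * d} : Set G)) ∧
      w * t * w⁻¹ * t⁻¹ ∈ tn S M μ x := by
  refine ⟨?_, mul_mem ((mem_normalizer_iff.1 hw.nT t).1 ht) (inv_mem ht)⟩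
  have h1 : t ∈ centralizer ({pr M x (μ x) * d} : Set G) := by
    rw [mem_centralizer_singleton_iff, ← mul_assoc, mem_centralizer_singleton_iff.1 ht.2, mul_assoc, hdT t ht,
      mul_assoc]
  have h2 := (mem_normalizer_iff.1 (le_normalizer_o2 _ h1) w⁻¹).1 (inv_mem hw.mO)
  have e : w * t * w⁻¹ * t⁻¹ = w * (t * w⁻¹ * t⁻¹) := by group
  rw [e]
  exact mul_mem hw.mO h2

variable {d : G} (hd : d ∈ DD M) (hdT : ∀ s ∈ tn S M μ x, s * d = d * s) {w : G} (hw : Out S M μ x d w)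

include hd hdT hw

/-- `w z w⁻¹ ∈ Ω₁Z(O₂(P))` for `z ∈ V` orthogonal to `n` -/
theorem conj_perp {z : G} (hz : z ∈ V) (hE : E M z x = E M z (μ x)) : w * z * w⁻¹ ∈ zc (o2 P) := by
  refine h.mem_zc_of F hx ?_ fun r hr => ?_
  · calc w * z * w⁻¹ * (w * z * w⁻¹) = w * (z * z) * w⁻¹ := by group
      _ = 1 := by rw [h.Vsq hz]; group
  · obtain ⟨h1, h2⟩ := cm hdT hw.inv (h.Q_le_tn F hx hr)
    rw [inv_inv] at h1 h2
    have h3 := perpO h F hx hd h1 h2 hz hE
    have h4 : r * z = z * r := ((mem_zc.1 (h.VZ hz)).2.1 r hr)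
    calc r * (w * z * w⁻¹) = w * ((w⁻¹ * r * w * r⁻¹) * (r * z)) * w⁻¹ := by group
      _ = w * ((w⁻¹ * r * w * r⁻¹ * z) * r) * w⁻¹ := by rw [h4]; group
      _ = w * (z * (w⁻¹ * r * w * r⁻¹) * r) * w⁻¹ := by rw [h3]
      _ = w * z * w⁻¹ * r := by group

/-- `w` commutes with the duads `≠ n` of `S` -/
theorem comm_q (zv : zc (o2 P) ≤ V ⊔ DD M) {c : Pt k m} (hc : c.2 ≠ 0) (h1 : c ≠ x) (h2 : c ≠ μ x) :
    w * pr M c (μ c) = pr M c (μ c) * w := by
  have hμ1 : μ c ≠ x := fun e => h2 (by rw [← e, F.msq])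
  have hμ2 : μ c ≠ μ x := fun e => h1 (μ.injective e)
  have hz0 : ((c.1, 0) : Pt k m) ≠ x := fun e => hx (by rw [← e])
  have hz0' : ((c.1, 0) : Pt k m) ≠ μ x := fun e => hx (F.mnz.1 (by rw [← e]))
  obtain ⟨z, hz⟩ : ∃ z, z = pr M c (c.1, 0) := ⟨_, rfl⟩
  have hzV : z ∈ V := by rw [hz]; exact pr_mem M _ _
  have hzE : ∀ {p : Pt k m}, p ≠ c → p ≠ (c.1, 0) → E M z p = 0 := fun {p} e1 e2 => by
    rw [hz]; exact E_pr_of_ne M (show c.1 = ((c.1, 0) : Pt k m).1 from rfl) e1 e2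
  have hzx : E M z x = E M z (μ x) := by
    rw [hzE h1.symm hz0.symm, hzE h2.symm hz0'.symm]
  obtain ⟨q, hq⟩ : ∃ q, q = pr M c (μ c) := ⟨_, rfl⟩
  have hqV : q ∈ V := by rw [hq]; exact pr_mem M _ _
  have hqx : E M q x = E M q (μ x) := by
    rw [hq, E_pr_of_ne M (F.mfst c).symm h1.symm hμ1.symm, E_pr_of_ne M (F.mfst c).symm h2.symm hμ2.symm]
  obtain ⟨τ, hτ, hτp⟩ := h.exists_swap F hx hc
  have hτP := h.SP hτ.1
  have hcc : c.1 = (μ c).1 := (F.mfst c).symm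
  have hzc : E M z c ≠ E M z (μ c) := by
    have e0 : c ≠ (c.1, 0) := fun e => hc (congrArg Prod.snd e)
    rw [hzE (F.mne c hc) (fun e => hc (F.mnz.1 (congrArg Prod.snd e))), hz,
      E_pr_left M (show c.1 = ((c.1, 0) : Pt k m).1 from rfl) e0]
    exact one_ne_zero
  have hqz : τ * z * τ⁻¹ = z * q := by rw [hq]; exact h.conj_swap hτP hcc hτp hzV hzc
  -- `o = [w, τ]`
  obtain ⟨h3, h4⟩ := cm hdT hw hτ
  obtain ⟨o, ho⟩ : ∃ o, o = w * τ * w⁻¹ * τ⁻¹ := ⟨_, rfl⟩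
  rw [← ho] at h3 h4
  have hoq : o * q = q * o := perpO h F hx hd h3 h4 hqV hqx
  obtain ⟨z1, hz1⟩ : ∃ z1, z1 = w * z * w⁻¹ := ⟨_, rfl⟩
  have hz1c : z1 ∈ zc (o2 P) := by rw [hz1]; exact conj_perp h F hx hd hdT hw hzV hzx
  have hoz1 : o * z1 = z1 * o := by
    have h5 : w⁻¹ * o * w ∈ o2 (centralizer ({pr M x (μ x) * d} : Set G)) :=
      mul_mem (mul_mem (inv_mem hw.mO) h3) hw.mO
    have h6 : w⁻¹ * o * w ∈ tn S M μ x := by
      have := (mem_normalizer_iff.1 (inv_mem hw.nT) o).1 h4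
      rwa [inv_inv] at this
    have h7 := perpO h F hx hd h5 h6 hzV hzx
    calc o * z1 = w * (w⁻¹ * o * w * z) * w⁻¹ := by rw [hz1]; group
      _ = w * (z * (w⁻¹ * o * w)) * w⁻¹ := by rw [h7]
      _ = z1 * o := by rw [hz1]; group
  have hz1q : z1 * (w * q * w⁻¹) = o * (τ * z1 * τ⁻¹) * o⁻¹ := by
    calc z1 * (w * q * w⁻¹) = w * (z * q) * w⁻¹ := by rw [hz1]; group
      _ = w * (τ * z * τ⁻¹) * w⁻¹ := by rw [hqz]
      _ = (w * τ * w⁻¹ * τ⁻¹) * (τ * (w * z * w⁻¹) * τ⁻¹) * (w * τ * w⁻¹ * τ⁻¹)⁻¹ := by group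
      _ = o * (τ * z1 * τ⁻¹) * o⁻¹ := by rw [← ho, ← hz1]
  have hq1 : q ≠ 1 := by rw [hq]; exact h.pr_ne hcc (F.mne c hc).symm
  have hwq : w * q * w⁻¹ = q := by
    rcases h.swap_zz zv hτP hcc hτp hz1c with e | e
    · exfalso
      rw [e, hoz1, mul_inv_cancel_right] at hz1q
      have h5 : w * q * w⁻¹ = 1 := mul_eq_left.1 hz1q
      exact hq1 (conj_eq_one_iff.1 h5)
    · rw [e, ← hq] at hz1q
      have h5 : o * (z1 * q) * o⁻¹ = z1 * q := by
        calc o * (z1 * q) * o⁻¹ = (o * z1) * q * o⁻¹ := by group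
          _ = z1 * (o * q) * o⁻¹ := by rw [hoz1]; group
          _ = z1 * q := by rw [hoq]; group
      rw [h5] at hz1q
      exact mul_left_cancel hz1q
  rw [← hq]
  exact mul_inv_eq_iff_eq_mul.1 hwq

/-- `w` does not normalise `O₂(P)` -/
theorem not_norm (zv : zc (o2 P) ≤ V ⊔ DD M) : w ∉ normalizer (o2 P : Set G) := by
  intro hwQ
  have t := h.tri F hx
  have hwZ : w ∈ normalizer (zc (o2 P) : Set G) := normalizer_le_normalizer_zc _ hwQ
  have hTp : IsPGroup 2 (tn S M μ x) := S.isPGroup'.to_le inf_le_left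
  have hR : IsPGroup 2 (tn S M μ x ⊔ zpowers w : Subgroup G) := TwoA.sup_zp hTp hw.nT hw.sq
  have hwR : w ∈ tn S M μ x ⊔ zpowers w := mem_sup_right (mem_zpowers w)
  have hTZ : tn S M μ x ≤ normalizer (zc (o2 P) : Set G) := fun s hs => h.P_le_NZZ (h.SP hs.1)
  have hRN : tn S M μ x ⊔ zpowers w ≤ normalizer (zc (o2 P) : Set G) := sup_le hTZ (zpowers_le.2 hwZ)
  obtain ⟨τ, hτ, hτp⟩ := h.exists_swap F hx hx
  have hτP := h.SP hτ.1
  have hwi : ∀ z ∈ zc (o2 P), w⁻¹ * z * w ∈ zc (o2 P) := fun z hz => by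
    have := (mem_normalizer_iff.1 (inv_mem hwZ) z).1 hz
    rwa [inv_inv] at this
  obtain ⟨c, hc, e⟩ := h.lemC_cen F zv hx hR le_sup_left hRN (y := w * τ * w⁻¹) (p := w * pr M x (μ x) * w⁻¹)
    (mul_mem (mul_mem hwR (mem_sup_left hτ)) (inv_mem hwR)) (fun z hz => by
      have e1 : w * τ * w⁻¹ * z * (w * τ * w⁻¹)⁻¹ = w * (τ * (w⁻¹ * z * w) * τ⁻¹) * w⁻¹ := by group
      rw [e1]
      rcases h.swap_zz zv hτP t.pq hτp (hwi z hz) with e2 | e2
      · left; rw [e2]; group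
      · right; rw [e2]; group) ⟨w * pr M x (x.1, 0) * w⁻¹,
        (mem_normalizer_iff.1 hwZ _).1 (h.VZ (pr_mem M _ _)), fun e1 => by
      have e2 : τ * pr M x (x.1, 0) = pr M x (x.1, 0) * τ := by
        calc τ * pr M x (x.1, 0) = w⁻¹ * (w * τ * w⁻¹ * (w * pr M x (x.1, 0) * w⁻¹)) * w := by group
          _ = pr M x (x.1, 0) * τ := by rw [e1]; group
      have hE : E M (pr M x (x.1, 0)) x ≠ E M (pr M x (x.1, 0)) (μ x) := by
        rw [E_pr_left M t.pr t.n2, E_pr_of_ne M t.pr t.n1.symm t.n3]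
        exact one_ne_zero
      have h2 := h.conj_swap hτP t.pq hτp (pr_mem M x (x.1, 0)) hE
      rw [e2, mul_inv_cancel_right] at h2
      exact h.pr_ne t.pq t.n1 (mul_left_cancel ((mul_one _).trans h2)).symm⟩
  have hwn : w * pr M x (μ x) * w⁻¹ = pr M x (μ x) := by
    by_cases h1 : c = x
    · rw [e, h1]
    by_cases h2 : c = μ x
    · rw [e, h2, F.msq, pr_comm M (F.mfst x)]
    exfalso
    have h3 := comm_q h F hx hd hdT hw zv hc h1 h2
    have h4 : w * pr M x (μ x) * w⁻¹ = w * pr M c (μ c) * w⁻¹ := by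
      rw [h3, mul_inv_cancel_right, e]
    have h5 : pr M x (μ x) = pr M c (μ c) := mul_left_cancel (mul_right_cancel h4)
    have h6 : E M (pr M x (μ x)) x = 1 := E_pr_left M t.pq t.n1
    rw [h5, E_pr_of_ne M (F.mfst c).symm (Ne.symm h1) (fun e => h2 (by rw [e, F.msq]))] at h6
    exact zero_ne_one h6
  have hRn : tn S M μ x ⊔ zpowers w ≤ centralizer ({pr M x (μ x)} : Set G) := by
    refine sup_le inf_le_right (zpowers_le.2 (mem_centralizer_singleton_iff.2 ?_))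
    exact mul_inv_eq_iff_eq_mul.1 hwn
  exact hw.nm (h.lemC_le F zv hx hR le_sup_left hRN hRn hwR)

/-- the action of `w r w⁻¹`, `r ∈ O₂(P)`, on `V` -/
theorem act_r {r : G} (hr : r ∈ o2 P) : w * r * w⁻¹ ∈ tn S M μ x ∧
    (pp M (w * r * w⁻¹) = 1 ∨ pp M (w * r * w⁻¹) = Equiv.swap x (μ x)) := by
  obtain ⟨h1, h2⟩ := cm hdT hw (h.Q_le_tn F hx hr)
  have h3 : w * r * w⁻¹ ∈ tn S M μ x := (mem_normalizer_iff.1 hw.nT r).1 (h.Q_le_tn F hx hr)
  refine ⟨h3, ?_⟩
  have e : w * r * w⁻¹ = (w * r * w⁻¹ * r⁻¹) * r := by group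
  have hrp : pp M r = 1 := (h.mem_Q_iff (h.QS hr)).1 hr
  rw [e, h.mul (h.SP h2.1) (h.SP (h.QS hr)), hrp, mul_one]
  exact actO h F hx hd h1 h2

/-- some `r ∈ O₂(P)` : `w r w⁻¹` acts as `(x μx)` -/
theorem exists_r (zv : zc (o2 P) ≤ V ⊔ DD M) : ∃ r ∈ o2 P, pp M (w * r * w⁻¹) = Equiv.swap x (μ x) := by
  by_contra hcon
  push Not at hcon
  refine not_norm h F hx hd hdT hw zv (mem_normalizer_of_conj fun r hr => ?_)
  obtain ⟨h1, h2⟩ := act_r h F hx hd hdT hw hr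
  exact (h.mem_Q_iff h1.1).2 (h2.resolve_right (hcon r hr))

/-- LEMMA 1_D for `w⁻¹ e w` and the duad `q = pr M c (μ c)` -/
theorem one_q (zv : zc (o2 P) ≤ V ⊔ DD M) {c : Pt k m} (hc : c.2 ≠ 0) (h1 : c ≠ x) (h2 : c ≠ μ x) :
    ∃ d', SD.Ctr M d' ∧ (w⁻¹ * pr M x (μ x) * w = d' ∨ w⁻¹ * pr M x (μ x) * w = pr M c (μ c) * d') := by
  have t := h.tri F hx
  have hs := SD.of_fr h
  have hcc : c.1 = (μ c).1 := (F.mfst c).symm
  have hcn : c ≠ μ c := (F.mne c hc).symm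
  have hnV : pr M x (μ x) ∈ V := pr_mem M _ _
  have heV : pr M x (x.1, 0) ∈ V := pr_mem M _ _
  have hcq := comm_q h F hx hd hdT hw.inv zv hc h1 h2
  have hEe : E M (pr M x (x.1, 0)) c = E M (pr M x (x.1, 0)) (μ c) := by
    rw [E_pr_of_ne M t.pr h1 (fun e => hc (by rw [e])), E_pr_of_ne M t.pr (fun e => h2 (by rw [← e, F.msq]))
      (fun e => hc (F.mnz.1 (by rw [e])))]
  have hE : E M (pr M x (x.1, 0)) x ≠ E M (pr M x (x.1, 0)) (μ x) := by
    rw [E_pr_left M t.pr t.n2, E_pr_of_ne M t.pr t.n1.symm t.n3]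
    exact one_ne_zero
  have hen : pr M x (x.1, 0) * pr M x (μ x) = pr M x (μ x) * pr M x (x.1, 0) := h.Vcomm heV hnV
  have hconj : ∀ u ∈ o2 P, ∀ y, y = w * u * w⁻¹ → u * (w⁻¹ * pr M x (x.1, 0) * w) * u⁻¹ =
      w⁻¹ * (y * pr M x (x.1, 0) * y⁻¹) * w := by
    rintro u - y rfl
    group
  have hsw : ∀ u ∈ o2 P, pp M (w * u * w⁻¹) = Equiv.swap x (μ x) → u * (w⁻¹ * pr M x (x.1, 0) * w) * u⁻¹ =
      w⁻¹ * pr M x (μ x) * w * (w⁻¹ * pr M x (x.1, 0) * w) := by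
    intro u hu hp
    obtain ⟨h3, -⟩ := act_r h F hx hd hdT hw hu
    rw [hconj u hu _ rfl, h.conj_swap (h.SP h3.1) t.pq hp heV hE, hen]
    group
  refine hs.one hcc hcn (y := w⁻¹ * pr M x (x.1, 0) * w) (a := w⁻¹ * pr M x (μ x) * w) ?_ ?_ ?_ ?_
  · have h3 := zc_conj' (p := pr M c (μ c)) (c := w⁻¹) hcq (hs.perp hcc hcn heV hEe)
    rwa [inv_inv] at h3
  · intro e
    apply h.pr_ne t.pq t.n1
    calc pr M x (μ x) = w * (w⁻¹ * pr M x (μ x) * w) * w⁻¹ := by group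
      _ = 1 := by rw [e]; group
  · intro u hu
    obtain ⟨h3, h4⟩ := act_r h F hx hd hdT hw hu
    rcases h4 with h4 | h4
    · left
      have h5 : w * u * w⁻¹ * pr M x (x.1, 0) = pr M x (x.1, 0) * (w * u * w⁻¹) :=
        h.comm_perp_of (p := x) (q := x) (h.SP h3.1) (Or.inl h4) heV rfl
      rw [hconj u hu _ rfl, h5, mul_inv_cancel_right]
    · right; exact hsw u hu h4
  · obtain ⟨r, hr, hrp⟩ := exists_r h F hx hd hdT hw zv
    exact ⟨r, hr, hsw r hr hrp⟩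

omit F hx hd hdT hw in
/-- the elements centralised by `O₂(P)` and all `K_p` lie in `DD M` -/
theorem DD_of_Ctr (zv : zc (o2 P) ≤ V ⊔ DD M) {a : G} (ha : SD.Ctr M a) : a ∈ DD M := by
  have hs := SD.of_fr h
  have h1 : a ∈ zc (o2 P) := mem_zc.2 ⟨h.cQ (mem_centralizer_iff.2 ha.2.1), ha.2.1, by rw [pow_two]; exact ha.1⟩
  obtain ⟨v, hv, e, he, rfl⟩ := h.zz_dec zv h1
  have h2 : v = 1 := by
    refine hs.tot hv fun p q hpq hne g hg => ?_
    have hgq := hs.KK_le hpq hne hg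
    have hgP := h.Qle hpq hne hgq
    have h3 := ha.2.2 p q hpq hne g hg
    have h4 : g * e = e * g := (mem_DD.1 he).2 g hgP fun r => by
      rcases h.Qpp hpq hne hgq with e1 | e1
      · rw [e1]; rfl
      · rw [e1]; exact swap_fst hpq r
    have h5 : g * v * e = v * g * e := by
      calc g * v * e = g * (v * e) := by group
        _ = v * (e * g) := by rw [h3]; group
        _ = v * g * e := by rw [← h4]; group
    exact mul_right_cancel h5
  rw [h2, one_mul]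
  exact he

/-- `w⁻¹ n w ∈ DD M` -/
theorem swp (zv : zc (o2 P) ≤ V ⊔ DD M) {c c' : Pt k m} (hc : c.2 ≠ 0) (h1 : c ≠ x) (h2 : c ≠ μ x)
    (hc' : c'.2 ≠ 0) (h1' : c' ≠ x) (h2' : c' ≠ μ x) (h3 : c ≠ c') (h4 : c ≠ μ c') :
    w⁻¹ * pr M x (μ x) * w ∈ DD M := by
  have hs := SD.of_fr h
  refine DD_of_Ctr h zv ?_
  obtain ⟨d₁, hd₁, e₁⟩ := one_q h F hx hd hdT hw zv hc h1 h2
  obtain ⟨d₂, hd₂, e₂⟩ := one_q h F hx hd hdT hw zv hc' h1' h2'
  rcases e₁ with e₁ | e₁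
  · rw [e₁]; exact hd₁
  rcases e₂ with e₂ | e₂
  · rw [e₂]; exact hd₂
  exfalso
  have hcc : c.1 = ((c.1, 0) : Pt k m).1 := rfl
  have hcn : c ≠ (c.1, 0) := fun e => hc (congrArg Prod.snd e)
  obtain ⟨g, hg, hgp⟩ := hs.par c (c.1, 0) hcc hcn
  have hgP := hs.QP c (c.1, 0) hcc hcn (hs.KK_le hcc hcn hg)
  have k1 := hd₁.2.2 c (c.1, 0) hcc hcn g hg
  have k2 := hd₂.2.2 c (c.1, 0) hcc hcn g hg
  have k3 : g * pr M c' (μ c') = pr M c' (μ c') * g := by
    refine h.comm_perp_of (p := c) (q := (c.1, 0)) hgP (Or.inr hgp) (pr_mem M _ _) ?_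
    rw [E_pr_of_ne M (F.mfst c').symm h3 h4, E_pr_of_ne M (F.mfst c').symm (fun e => hc' (by rw [← e]))
      (fun e => hc' (F.mnz.1 (by rw [← e])))]
  have k4 : pr M c (μ c) * d₁ = pr M c' (μ c') * d₂ := by rw [← e₁, ← e₂]
  have k5 : g * pr M c (μ c) = pr M c (μ c) * g := by
    have k6 : g * pr M c (μ c) * d₁ = pr M c (μ c) * g * d₁ := by
      calc g * pr M c (μ c) * d₁ = g * (pr M c (μ c) * d₁) := by group
        _ = g * pr M c' (μ c') * d₂ := by rw [k4]; group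
        _ = pr M c' (μ c') * (g * d₂) := by rw [k3]; group
        _ = pr M c' (μ c') * d₂ * g := by rw [k2]; group
        _ = pr M c (μ c) * (d₁ * g) := by rw [← k4]; group
        _ = pr M c (μ c) * g * d₁ := by rw [← k1]; group
    exact mul_right_cancel k6
  have k7 := (hs.act_iff hgP hcc hcn hgp (pr_mem M c (μ c))).1 k5
  rw [E_pr_left M (F.mfst c).symm (F.mne c hc).symm, E_pr_of_ne M (F.mfst c).symm hcn.symm
    (fun e => hc (F.mnz.1 (by rw [← e])))] at k7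
  exact one_ne_zero k7

/-- `w n w⁻¹ = w⁻¹ n w` -/
theorem swp_eq : w * pr M x (μ x) * w⁻¹ = w⁻¹ * pr M x (μ x) * w := by
  have h1 : w * w * (w⁻¹ * pr M x (μ x) * w) = w⁻¹ * pr M x (μ x) * w * (w * w) := by
    have h2 : w * (w * w) * w⁻¹ ∈ tn S M μ x := (mem_normalizer_iff.1 hw.nT _).1 hw.sq
    have h3 := mem_centralizer_singleton_iff.1 h2.2
    calc w * w * (w⁻¹ * pr M x (μ x) * w) = w⁻¹ * (w * (w * w) * w⁻¹ * pr M x (μ x)) * w := by group
      _ = w⁻¹ * (pr M x (μ x) * (w * (w * w) * w⁻¹)) * w := by rw [h3]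
      _ = w⁻¹ * pr M x (μ x) * w * (w * w) := by group
  calc w * pr M x (μ x) * w⁻¹ = w * w * (w⁻¹ * pr M x (μ x) * w) * (w * w)⁻¹ := by group
    _ = w⁻¹ * pr M x (μ x) * w := by rw [h1]; group

/-- `K ∋ n, d` normalised by `C(n)` contains the conjugates of the line -/
theorem memK {K : Subgroup G} (hKn : centralizer ({pr M x (μ x)} : Set G) ≤ normalizer (K : Set G))
    (hnK : pr M x (μ x) ∈ K) (hdK : d ∈ K) (hδ : w * pr M x (μ x) * w⁻¹ ∈ DD M) :
    w⁻¹ * pr M x (x.1, 0) * w ∈ K ∧ w⁻¹ * pr M x (μ x) * w ∈ K := by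
  have t := h.tri F hx
  have hnV : pr M x (μ x) ∈ V := pr_mem M _ _
  have heV : pr M x (x.1, 0) ∈ V := pr_mem M _ _
  have hdd : d * d = 1 := RD.DD_sq hd
  -- `w` commutes with `n d`
  have hwnd : w⁻¹ * (pr M x (μ x) * d) * w = pr M x (μ x) * d := by
    have h1 := mem_centralizer_singleton_iff.1 (o2_le _ hw.mO)
    calc w⁻¹ * (pr M x (μ x) * d) * w = w⁻¹ * (pr M x (μ x) * d * w) := by group
      _ = pr M x (μ x) * d := by rw [← h1]; group
  have key : ∀ y ∈ h.X3 t, w⁻¹ * (y * pr M x (μ x) * y⁻¹ * d) * w ∈ K := by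
    intro y hy
    have h1 := h.X_DD t hδ hy
    have h2 : w⁻¹ * y * w ∈ centralizer ({pr M x (μ x)} : Set G) := by
      rw [mem_centralizer_singleton_iff]
      calc w⁻¹ * y * w * pr M x (μ x) = w⁻¹ * (y * (w * pr M x (μ x) * w⁻¹)) * w := by group
        _ = w⁻¹ * (w * pr M x (μ x) * w⁻¹ * y) * w := by rw [h1]
        _ = pr M x (μ x) * (w⁻¹ * y * w) := by group
    have h3 := (mem_normalizer_iff.1 (hKn h2) _).1 (mul_mem hnK hdK)
    have h4 : y * d = d * y := h.X_DD t hd hy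
    have e : w⁻¹ * (y * pr M x (μ x) * y⁻¹ * d) * w = w⁻¹ * y * w * (pr M x (μ x) * d) * (w⁻¹ * y * w)⁻¹ := by
      calc w⁻¹ * (y * pr M x (μ x) * y⁻¹ * d) * w = w⁻¹ * (y * pr M x (μ x) * (y⁻¹ * d * y) * y⁻¹) * w := by group
        _ = w⁻¹ * y * (pr M x (μ x) * d) * y⁻¹ * w := by
            rw [show y⁻¹ * d * y = d by rw [mul_assoc, ← h4]; group]; group
        _ = w⁻¹ * y * w * (w⁻¹ * (pr M x (μ x) * d) * w) * (w⁻¹ * y * w)⁻¹ := by group
        _ = _ := by rw [hwnd]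
    rw [e]
    exact h3
  have key' : ∀ i : Fin 3, w⁻¹ * (dd (pr M x (μ x)) (pr M x (x.1, 0)) i * d) * w ∈ K := by
    intro i
    obtain ⟨y, hy, e⟩ := (h.bt3 t).trans_X_one 0 i
    have h1 : y * pr M x (μ x) * y⁻¹ ∈ pts (pr M x (μ x)) (pr M x (x.1, 0)) i := by
      rw [← e]
      exact BTwo.conj_mem_cj ((h.line3 t).mem_pts.2 (Or.inr rfl))
    have h2 := ((h.line3 t).mem_pts.1 h1).resolve_left fun e => h.pr_ne t.pq t.n1 (conj_eq_one_iff.1 e)
    rw [← h2]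
    exact key y hy
  have k0 : w⁻¹ * (pr M x (μ x) * d) * w ∈ K := key' 0
  have k1 : w⁻¹ * (pr M x (x.1, 0) * d) * w ∈ K := key' 1
  have k2 : w⁻¹ * (pr M x (μ x) * pr M x (x.1, 0) * d) * w ∈ K := key' 2
  have hdn : d * pr M x (μ x) = pr M x (μ x) * d := (Sit.zz_comm (h.VZ hnV) (mem_DD.1 hd).1).symm
  have hde : d * pr M x (x.1, 0) = pr M x (x.1, 0) * d := (Sit.zz_comm (h.VZ heV) (mem_DD.1 hd).1).symm
  have hne : pr M x (μ x) * pr M x (x.1, 0) = pr M x (x.1, 0) * pr M x (μ x) := h.Vcomm hnV heV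
  constructor
  · have h1 := mul_mem k0 k2
    have e : w⁻¹ * (pr M x (μ x) * d) * w * (w⁻¹ * (pr M x (μ x) * pr M x (x.1, 0) * d) * w) =
        w⁻¹ * pr M x (x.1, 0) * w := by
      calc w⁻¹ * (pr M x (μ x) * d) * w * (w⁻¹ * (pr M x (μ x) * pr M x (x.1, 0) * d) * w)
          = w⁻¹ * (pr M x (μ x) * (d * pr M x (μ x)) * pr M x (x.1, 0) * d) * w := by group
        _ = w⁻¹ * (pr M x (μ x) * pr M x (μ x) * (d * pr M x (x.1, 0)) * d) * w := by rw [hdn]; group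
        _ = w⁻¹ * (pr M x (μ x) * pr M x (μ x) * pr M x (x.1, 0) * (d * d)) * w := by rw [hde]; group
        _ = w⁻¹ * pr M x (x.1, 0) * w := by rw [h.Vsq hnV, hdd]; group
    rwa [e] at h1
  · have h1 := mul_mem k1 k2
    have e : w⁻¹ * (pr M x (x.1, 0) * d) * w * (w⁻¹ * (pr M x (μ x) * pr M x (x.1, 0) * d) * w) =
        w⁻¹ * pr M x (μ x) * w := by
      calc w⁻¹ * (pr M x (x.1, 0) * d) * w * (w⁻¹ * (pr M x (μ x) * pr M x (x.1, 0) * d) * w)
          = w⁻¹ * (pr M x (x.1, 0) * d * (pr M x (μ x) * pr M x (x.1, 0)) * d) * w := by group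
        _ = w⁻¹ * (pr M x (x.1, 0) * (d * pr M x (x.1, 0)) * pr M x (μ x) * d) * w := by rw [hne]; group
        _ = w⁻¹ * (pr M x (x.1, 0) * pr M x (x.1, 0) * (d * pr M x (μ x)) * d) * w := by rw [hde]; group
        _ = w⁻¹ * (pr M x (x.1, 0) * pr M x (x.1, 0) * pr M x (μ x) * (d * d)) * w := by rw [hdn]; group
        _ = w⁻¹ * pr M x (μ x) * w := by rw [h.Vsq heV, hdd]; group
    rwa [e] at h1

/-- `e` commutes with the conjugates of `n` under `C(w r w⁻¹)`, `r = x₀ n x₀⁻¹`, `x₀ ∈ X` -/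
theorem piW {K Ξ : Subgroup G} (hKn : centralizer ({pr M x (μ x)} : Set G) ≤ normalizer (K : Set G))
    (hKΞ : K ≤ Ξ) (hKz : K ≤ zc (o2 (centralizer ({pr M x (μ x)} : Set G))))
    (hΞm : ∀ l ∈ Ξ, (∀ y ∈ h.X3 (h.tri F hx), y * l = l * y) ∨
      (∀ y ∈ h.X3 (h.tri F hx), y * (pr M x (μ x) * l) = pr M x (μ x) * l * y))
    (hδ : w⁻¹ * pr M x (μ x) * w ∈ DD M) (hδK : w⁻¹ * pr M x (μ x) * w ∈ K)
    (heK : w⁻¹ * pr M x (x.1, 0) * w ∈ K) {r x₀ : G} (hx₀ : x₀ ∈ h.X3 (h.tri F hx))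
    (hr : x₀ * pr M x (μ x) * x₀⁻¹ = r) (hrV : r ∈ V) {g : G} (hg : g * (w * r * w⁻¹) = w * r * w⁻¹ * g) :
    pr M x (x.1, 0) * (g * pr M x (μ x) * g⁻¹) = g * pr M x (μ x) * g⁻¹ * pr M x (x.1, 0) := by
  have t := h.tri F hx
  obtain ⟨n, hn⟩ : ∃ n, n = pr M x (μ x) := ⟨_, rfl⟩
  rw [← hn] at hKn hKz hΞm hδ hδK hr ⊢
  have hnV : n ∈ V := by rw [hn]; exact pr_mem M _ _
  obtain ⟨f, hf⟩ : ∃ f, f = w⁻¹ * pr M x (x.1, 0) * w := ⟨_, rfl⟩
  obtain ⟨δ, hδe⟩ : ∃ δ, δ = w⁻¹ * n * w := ⟨_, rfl⟩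
  rw [← hf] at heK
  rw [← hδe] at hδ hδK
  obtain ⟨a, ha⟩ : ∃ a, a = x₀⁻¹ * (w⁻¹ * g * w) * x₀ := ⟨_, rfl⟩
  have haC : a ∈ centralizer ({n} : Set G) := by
    rw [mem_centralizer_singleton_iff, ha]
    have h1 : w⁻¹ * g * w * r = r * (w⁻¹ * g * w) := by
      calc w⁻¹ * g * w * r = w⁻¹ * (g * (w * r * w⁻¹)) * w := by group
        _ = r * (w⁻¹ * g * w) := by rw [hg]; group
    calc x₀⁻¹ * (w⁻¹ * g * w) * x₀ * n = x₀⁻¹ * (w⁻¹ * g * w * (x₀ * n * x₀⁻¹)) * x₀ := by group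
      _ = x₀⁻¹ * (w⁻¹ * g * w * r) * x₀ := by rw [hr]
      _ = x₀⁻¹ * (r * (w⁻¹ * g * w)) * x₀ := by rw [h1]
      _ = n * (x₀⁻¹ * (w⁻¹ * g * w) * x₀) := by rw [← hr]; group
  have hκ : a * δ * a⁻¹ ∈ K := (mem_normalizer_iff.1 (hKn haC) _).1 hδK
  obtain ⟨κ, hκe⟩ : ∃ κ, κ = a * δ * a⁻¹ := ⟨_, rfl⟩
  rw [← hκe] at hκ
  have hxδ : x₀ * δ = δ * x₀ := h.X_DD t hδ hx₀
  have e1 : w⁻¹ * (g * n * g⁻¹) * w = x₀ * κ * x₀⁻¹ := by
    have h1 : x₀⁻¹ * δ * x₀ = δ := by rw [mul_assoc, ← hxδ]; group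
    have e2 : w⁻¹ * g * w = x₀ * a * x₀⁻¹ := by rw [ha]; group
    calc w⁻¹ * (g * n * g⁻¹) * w = (w⁻¹ * g * w) * (w⁻¹ * n * w) * (w⁻¹ * g * w)⁻¹ := by group
      _ = x₀ * (a * (x₀⁻¹ * δ * x₀) * a⁻¹) * x₀⁻¹ := by rw [e2, ← hδe]; group
      _ = x₀ * κ * x₀⁻¹ := by rw [h1, ← hκe]
  -- `f` commutes with `x₀ κ x₀⁻¹`
  have hfκ : f * κ = κ * f := MinSimple.VModule.zc_comm _ _ (hKz heK) _ (hKz hκ)
  have hfV : ∀ v ∈ V, f * v = v * f := by
    intro v hv
    have h1 : v ∈ o2 (centralizer ({n} : Set G)) := by rw [hn]; exact h.V_le t.pq t.n1 hv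
    exact ((mem_zc.1 (hKz heK)).2.1 v h1).symm
  have hfc : f * (x₀ * κ * x₀⁻¹) = x₀ * κ * x₀⁻¹ * f := by
    rcases hΞm κ (hKΞ hκ) with h1 | h1
    · rw [h1 x₀ hx₀, mul_inv_cancel_right, hfκ]
    · have e2 : x₀ * κ * x₀⁻¹ = r⁻¹ * (n * κ) := by
        calc x₀ * κ * x₀⁻¹ = (x₀ * n * x₀⁻¹)⁻¹ * (x₀ * (n * κ) * x₀⁻¹) := by group
          _ = r⁻¹ * (n * κ) := by rw [h1 x₀ hx₀, hr, mul_inv_cancel_right]
      have h2 := hfV _ (inv_mem hrV)
      have h3 := hfV n hnV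
      rw [e2]
      calc f * (r⁻¹ * (n * κ)) = (f * r⁻¹) * (n * κ) := by group
        _ = r⁻¹ * (f * n) * κ := by rw [h2]; group
        _ = r⁻¹ * n * (f * κ) := by rw [h3]; group
        _ = r⁻¹ * (n * κ) * f := by rw [hfκ]; group
  calc pr M x (x.1, 0) * (g * n * g⁻¹) = w * (f * (w⁻¹ * (g * n * g⁻¹) * w)) * w⁻¹ := by rw [hf]; group
    _ = w * (f * (x₀ * κ * x₀⁻¹)) * w⁻¹ := by rw [e1]
    _ = w * (x₀ * κ * x₀⁻¹ * f) * w⁻¹ := by rw [hfc]
    _ = w * (w⁻¹ * (g * n * g⁻¹) * w * f) * w⁻¹ := by rw [e1]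
    _ = g * n * g⁻¹ * pr M x (x.1, 0) := by rw [hf]; group

omit hw hdT F hx in
/-- `DD M ≤ Ω₁Z(O₂(C(n)))` -/
theorem DD_le_zc {p q : Pt k m} (hpq : p.1 = q.1) (hne : p ≠ q) :
    d ∈ zc (o2 (centralizer ({pr M p q} : Set G))) := by
  have hs := SD.of_fr h
  refine hs.Ctr_qz ⟨RD.DD_sq hd, (mem_zc.1 (mem_DD.1 hd).1).2.1, fun p q hpq hne g hg => ?_⟩ hpq hne
  have hgq := hs.KK_le hpq hne hg
  refine (mem_DD.1 hd).2 g (h.Qle hpq hne hgq) fun r => ?_
  rcases h.Qpp hpq hne hgq with e1 | e1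
  · rw [e1]; rfl
  · rw [e1]; exact swap_fst hpq r

/-- no `w` -/
theorem caseB (zv : zc (o2 P) ≤ V ⊔ DD M) {c c' : Pt k m} (hc : c.2 ≠ 0) (h1 : c ≠ x) (h2 : c ≠ μ x)
    (hc' : c'.2 ≠ 0) (h1' : c' ≠ x) (h2' : c' ≠ μ x) (h3 : c ≠ c') (h4 : c ≠ μ c') {Ξ : Subgroup G}
    (hKΞ : centralizer ({pr M x (μ x)} : Set G) ≤ normalizer (Ξ : Set G)) (hnΞ : pr M x (μ x) ∈ Ξ) (hdΞ : d ∈ Ξ)
    (hΞm : ∀ l ∈ Ξ, (∀ y ∈ h.X3 (h.tri F hx), y * l = l * y) ∨
      (∀ y ∈ h.X3 (h.tri F hx), y * (pr M x (μ x) * l) = pr M x (μ x) * l * y)) : False := by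
  have t := h.tri F hx
  have hs := SD.of_fr h
  have δm := swp h F hx hd hdT hw zv hc h1 h2 hc' h1' h2' h3 h4
  have δm' : w * pr M x (μ x) * w⁻¹ ∈ DD M := by rw [swp_eq h F hx hd hdT hw]; exact δm
  obtain ⟨K, hK⟩ : ∃ K : Subgroup G, K = Ξ ⊓ zc (o2 (centralizer ({pr M x (μ x)} : Set G))) := ⟨_, rfl⟩
  have hKle : K ≤ Ξ := by rw [hK]; exact inf_le_left
  have hKz : K ≤ zc (o2 (centralizer ({pr M x (μ x)} : Set G))) := by rw [hK]; exact inf_le_right
  have hnK : pr M x (μ x) ∈ K := by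
    rw [hK]
    refine ⟨hnΞ, h.perp t.pq t.n1 (pr_mem M _ _) ?_⟩
    rw [E_pr_left M t.pq t.n1, E_pr_right M t.pq t.n1]
  have hdK : d ∈ K := by rw [hK]; exact ⟨hdΞ, DD_le_zc h hd t.pq t.n1⟩
  have hKn : centralizer ({pr M x (μ x)} : Set G) ≤ normalizer (K : Set G) := by
    intro g hg
    have k1 := hKΞ hg
    have k2 : g ∈ normalizer (zc (o2 (centralizer ({pr M x (μ x)} : Set G))) : Set G) :=
      normalizer_le_normalizer_zc _ (le_normalizer_o2 _ hg)
    rw [hK, ← cj_eq_self_iff, cj_inf, cj_eq_self_iff.2 k1, cj_eq_self_iff.2 k2]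
  obtain ⟨m1, m2⟩ := memK h F hx hd hdT hw hKn hnK hdK δm'
  have δm'' : w⁻¹ * pr M x (μ x) * w⁻¹⁻¹ ∈ DD M := by rw [inv_inv]; exact δm
  obtain ⟨m3, m4⟩ := memK h F hx hd hdT hw.inv hKn hnK hdK δm''
  rw [inv_inv] at m3 m4
  -- the partner
  have hnV : pr M x (μ x) ∈ V := pr_mem M _ _
  have heV : pr M x (x.1, 0) ∈ V := pr_mem M _ _
  have hE : E M (pr M x (x.1, 0)) x ≠ E M (pr M x (x.1, 0)) (μ x) := by
    rw [E_pr_left M t.pr t.n2, E_pr_of_ne M t.pr t.n1.symm t.n3]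
    exact one_ne_zero
  obtain ⟨s, hs1, hs2⟩ := h.exists_h t.pq t.n1
  obtain ⟨-, hs3, hs4⟩ := hs2 _ heV hE
  have hsn : s * pr M x (μ x) = pr M x (μ x) * s := mem_centralizer_singleton_iff.1 hs1
  have hnc : pr M x (x.1, 0) * (s⁻¹ * pr M x (x.1, 0) * s) ≠ s⁻¹ * pr M x (x.1, 0) * s * pr M x (x.1, 0) := by
    intro e
    exact hE ((hs.act_iff (h.Qle t.pq t.n1 (h.KK_le t.pq t.n1 hs3)) t.pq t.n1 hs4 heV).1 e.symm)
  -- `x₀`
  have hex : ∀ i : Fin 3, ∃ y ∈ h.X3 t, y * pr M x (μ x) * y⁻¹ = dd (pr M x (μ x)) (pr M x (x.1, 0)) i := by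
    intro i
    obtain ⟨y, hy, e⟩ := (h.bt3 t).trans_X_one 0 i
    refine ⟨y, hy, ?_⟩
    have k1 : y * pr M x (μ x) * y⁻¹ ∈ pts (pr M x (μ x)) (pr M x (x.1, 0)) i := by
      rw [← e]
      exact BTwo.conj_mem_cj ((h.line3 t).mem_pts.2 (Or.inr rfl))
    exact ((h.line3 t).mem_pts.1 k1).resolve_left fun e => h.pr_ne t.pq t.n1 (conj_eq_one_iff.1 e)
  obtain ⟨y₁, hy₁, ey₁⟩ := hex 1
  obtain ⟨y₂, hy₂, ey₂⟩ := hex 2
  have ey₁' : y₁ * pr M x (μ x) * y₁⁻¹ = pr M x (x.1, 0) := ey₁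
  have ey₂' : y₂ * pr M x (μ x) * y₂⁻¹ = pr M x (μ x) * pr M x (x.1, 0) := ey₂
  -- `e` commutes with the conjugates of `n` under `C(q')`: `s q' s⁻¹` is not centralised by `X`
  have hkill : ∀ q' : G, (∀ g, g * q' = q' * g →
      pr M x (x.1, 0) * (g * pr M x (μ x) * g⁻¹) = g * pr M x (μ x) * g⁻¹ * pr M x (x.1, 0)) →
      ¬ ∀ y ∈ h.X3 t, y * (s * q' * s⁻¹) = s * q' * s⁻¹ * y := by
    intro q' hpi hX
    apply hnc
    have k1 := hpi (s⁻¹ * y₁ * s) (by
      have k2 := hX y₁ hy₁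
      calc s⁻¹ * y₁ * s * q' = s⁻¹ * (y₁ * (s * q' * s⁻¹)) * s := by group
        _ = s⁻¹ * (s * q' * s⁻¹ * y₁) * s := by rw [k2]
        _ = q' * (s⁻¹ * y₁ * s) := by group)
    have k3 : s⁻¹ * y₁ * s * pr M x (μ x) * (s⁻¹ * y₁ * s)⁻¹ = s⁻¹ * pr M x (x.1, 0) * s := by
      calc s⁻¹ * y₁ * s * pr M x (μ x) * (s⁻¹ * y₁ * s)⁻¹
          = s⁻¹ * (y₁ * (s * pr M x (μ x) * s⁻¹) * y₁⁻¹) * s := by group
        _ = s⁻¹ * (y₁ * pr M x (μ x) * y₁⁻¹) * s := by rw [hsn, mul_inv_cancel_right]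
        _ = _ := by rw [ey₁']
    rwa [k3] at k1
  -- the three elements
  have pi1 : ∀ g, g * (w * pr M x (μ x) * w⁻¹) = w * pr M x (μ x) * w⁻¹ * g →
      pr M x (x.1, 0) * (g * pr M x (μ x) * g⁻¹) = g * pr M x (μ x) * g⁻¹ * pr M x (x.1, 0) := by
    intro g hg
    have hδ1 : w * pr M x (μ x) * w⁻¹ ≠ 1 := fun e => h.pr_ne t.pq t.n1 (conj_eq_one_iff.1 e)
    obtain ⟨-, k1⟩ := RD.HF_cent h.char2 h.toSit zv δm' hδ1
    have k2 := k1 (h.VZ heV)
    have k3 : g * pr M x (μ x) * g⁻¹ ∈ zc (o2 (centralizer ({w * pr M x (μ x) * w⁻¹} : Set G))) :=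
      (mem_normalizer_iff.1 (normalizer_le_normalizer_zc _ (le_normalizer_o2 _
        (mem_centralizer_singleton_iff.2 hg))) _).1 (k1 (h.VZ hnV))
    exact MinSimple.VModule.zc_comm _ _ k2 _ k3
  have pi2 : ∀ g, g * (w * pr M x (x.1, 0) * w⁻¹) = w * pr M x (x.1, 0) * w⁻¹ * g →
      pr M x (x.1, 0) * (g * pr M x (μ x) * g⁻¹) = g * pr M x (μ x) * g⁻¹ * pr M x (x.1, 0) := fun g hg =>
    piW h F hx hd hdT hw hKn hKle hKz hΞm δm m2 m1 hy₁ ey₁' heV hg
  have pi3 : ∀ g, g * (w * (pr M x (μ x) * pr M x (x.1, 0)) * w⁻¹) =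
      w * (pr M x (μ x) * pr M x (x.1, 0)) * w⁻¹ * g →
      pr M x (x.1, 0) * (g * pr M x (μ x) * g⁻¹) = g * pr M x (μ x) * g⁻¹ * pr M x (x.1, 0) := fun g hg =>
    piW h F hx hd hdT hw hKn hKle hKz hΞm δm m2 m1 hy₂ ey₂' (mul_mem hnV heV) hg
  have m5 : w * (pr M x (μ x) * pr M x (x.1, 0)) * w⁻¹ ∈ K := by
    have k1 := mul_mem m4 m3
    have e : w * pr M x (μ x) * w⁻¹ * (w * pr M x (x.1, 0) * w⁻¹) = w * (pr M x (μ x) * pr M x (x.1, 0)) * w⁻¹ := by
      group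
    rwa [e] at k1
  have hsK : ∀ {q}, q ∈ K → s * q * s⁻¹ ∈ K := fun hq => (mem_normalizer_iff.1 (hKn hs1) _).1 hq
  have hnK' : ∀ {q}, q ∈ K → pr M x (μ x) * q = q * pr M x (μ x) := fun hq =>
    MinSimple.VModule.zc_comm _ _ (hKz hnK) _ (hKz hq)
  have c1 := (hΞm _ (hKle (hsK m4))).resolve_left (hkill _ pi1)
  have c2 := (hΞm _ (hKle (hsK m3))).resolve_left (hkill _ pi2)
  have c3 := (hΞm _ (hKle (hsK m5))).resolve_left (hkill _ pi3)
  -- `n` is centralised by `X`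
  have hprod : pr M x (μ x) * (s * (w * pr M x (μ x) * w⁻¹) * s⁻¹) *
      (pr M x (μ x) * (s * (w * pr M x (x.1, 0) * w⁻¹) * s⁻¹)) *
      (pr M x (μ x) * (s * (w * (pr M x (μ x) * pr M x (x.1, 0)) * w⁻¹) * s⁻¹)) = pr M x (μ x) := by
    have k1 := hnK' (hsK m4)
    have k2 := hnK' (hsK m3)
    have k3 : pr M x (x.1, 0) * pr M x (μ x) = pr M x (μ x) * pr M x (x.1, 0) := h.Vcomm heV hnV
    have k4 := hnK' (mul_mem (hsK m4) (hsK m3))
    calc pr M x (μ x) * (s * (w * pr M x (μ x) * w⁻¹) * s⁻¹) *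
          (pr M x (μ x) * (s * (w * pr M x (x.1, 0) * w⁻¹) * s⁻¹)) *
          (pr M x (μ x) * (s * (w * (pr M x (μ x) * pr M x (x.1, 0)) * w⁻¹) * s⁻¹))
        = pr M x (μ x) * (s * (w * pr M x (μ x) * w⁻¹) * s⁻¹ * pr M x (μ x)) *
          (s * (w * pr M x (x.1, 0) * w⁻¹) * s⁻¹) *
          (pr M x (μ x) * (s * (w * (pr M x (μ x) * pr M x (x.1, 0)) * w⁻¹) * s⁻¹)) := by group
      _ = pr M x (μ x) * pr M x (μ x) * (s * (w * pr M x (μ x) * w⁻¹) * s⁻¹ *
          (s * (w * pr M x (x.1, 0) * w⁻¹) * s⁻¹) * pr M x (μ x)) *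
          (s * (w * (pr M x (μ x) * pr M x (x.1, 0)) * w⁻¹) * s⁻¹) := by rw [← k1]; group
      _ = pr M x (μ x) * (s * w * (pr M x (μ x) * (pr M x (x.1, 0) * pr M x (μ x)) * pr M x (x.1, 0)) *
          w⁻¹ * s⁻¹) := by rw [← k4, h.Vsq hnV]; group
      _ = pr M x (μ x) * (s * w * ((pr M x (μ x) * pr M x (μ x)) * (pr M x (x.1, 0) * pr M x (x.1, 0))) *
          w⁻¹ * s⁻¹) := by rw [k3]; group
      _ = pr M x (μ x) := by rw [h.Vsq hnV, h.Vsq heV]; group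
  have hX : y₁ * pr M x (μ x) = pr M x (μ x) * y₁ := by
    rw [← hprod]
    have hmulc : ∀ {y a b : G}, y * a = a * y → y * b = b * y → y * (a * b) = a * b * y := by
      intro y a b h2 h3
      rw [← mul_assoc, h2, mul_assoc, h3, mul_assoc]
    exact hmulc (hmulc (c1 y₁ hy₁) (c2 y₁ hy₁)) (c3 y₁ hy₁)
  rw [hX, mul_inv_cancel_right] at ey₁'
  apply hE
  rw [← ey₁', E_pr_left M t.pq t.n1, E_pr_right M t.pq t.n1]

end conf

/-! ### `O₂(C(n d)) ≤ T` -/

section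

variable [Finite G] {S : Sylow 2 G} {M : SymK (S : Subgroup G) P V ⊥ k m}

theorem exists_out {μ : Equiv.Perm (Pt k m)} {x : Pt k m} {d : G} (hdT : ∀ s ∈ tn S M μ x, s * d = d * s)
    (hnot : ¬ o2 (centralizer ({pr M x (μ x) * d} : Set G)) ≤ tn S M μ x) : ∃ w, Out S M μ x d w := by
  classical
  have : Fact (Nat.Prime 2) := ⟨Nat.prime_two⟩
  have hTC : tn S M μ x ≤ centralizer ({pr M x (μ x) * d} : Set G) := by
    intro t ht
    rw [mem_centralizer_singleton_iff, ← mul_assoc, mem_centralizer_singleton_iff.1 ht.2, mul_assoc, hdT t ht,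
      mul_assoc]
  have hn : tn S M μ x ≤ normalizer (o2 (centralizer ({pr M x (μ x) * d} : Set G)) : Set G) :=
    hTC.trans (le_normalizer_o2 _)
  have hTp : IsPGroup 2 (tn S M μ x) := S.isPGroup'.to_le inf_le_left
  have hO : IsPGroup 2 (o2 (centralizer ({pr M x (μ x) * d} : Set G))) := o2_isPGroup _
  have hX : IsPGroup 2 (tn S M μ x ⊔ o2 (centralizer ({pr M x (μ x) * d} : Set G)) : Subgroup G) :=
    hTp.to_sup_of_normal_right' hO hn
  have hlt : tn S M μ x < tn S M μ x ⊔ o2 (centralizer ({pr M x (μ x) * d} : Set G)) := by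
    refine lt_of_le_of_ne le_sup_left fun h3 => hnot ?_
    rw [h3]
    exact le_sup_right
  obtain ⟨y, hy, hy1, hy2⟩ := Involutions.BaerSuzuki.exists_mem_normalizer_of_lt hX hlt
  obtain ⟨t, ht, w, hw, rfl⟩ := TwoA.mem_sup_nrm hn hy
  have hwn : w ∈ normalizer (tn S M μ x : Set G) := by
    have h3 : w = t⁻¹ * (t * w) := by group
    rw [h3]
    exact mul_mem (inv_mem (le_normalizer ht)) hy2
  have hwT : w ∉ tn S M μ x := fun h3 => hy1 (mul_mem ht h3)
  have hex : ∃ j : ℕ, w ^ 2 ^ j ∈ tn S M μ x := by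
    obtain ⟨j, hj⟩ := hO ⟨w, hw⟩
    refine ⟨j, ?_⟩
    have h4 : w ^ 2 ^ j = 1 := congrArg Subtype.val hj
    rw [h4]
    exact one_mem _
  obtain ⟨j, hj⟩ : ∃ j, j = Nat.find hex := ⟨_, rfl⟩
  have h1 : w ^ 2 ^ j ∈ tn S M μ x := by rw [hj]; exact Nat.find_spec hex
  have h0 : j ≠ 0 := by
    intro e
    rw [e, pow_zero, pow_one] at h1
    exact hwT h1
  obtain ⟨i, rfl⟩ := Nat.exists_eq_succ_of_ne_zero h0
  refine ⟨w ^ 2 ^ i, pow_mem hw _, pow_mem hwn _, ?_, ?_⟩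
  · rw [← pow_add, ← two_mul, ← pow_succ']
    exact h1
  · refine Nat.find_min hex ?_
    rw [← hj]
    exact Nat.lt_succ_self i

end

/-! ### The theorem -/

section thm

variable [Finite G] {S : Sylow 2 G} {M : SymK (S : Subgroup G) P V ⊥ k m} {D : Subgroup G} (h : Fr S P V D M)
  {μ ν : Equiv.Perm (Pt k m)} (F : Fours M μ ν) {x : Pt k m} (hx : x.2 ≠ 0) (zv : zc (o2 P) ≤ V ⊔ DD M)

include h F hx in
/-- two duads `≠ n` of `S` -/
theorem exists_two (hk : 2 ≤ k ∨ 3 ≤ m) : ∃ c c' : Pt k m, c.2 ≠ 0 ∧ c ≠ x ∧ c ≠ μ x ∧ c'.2 ≠ 0 ∧ c' ≠ x ∧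
    c' ≠ μ x ∧ c ≠ c' ∧ c ≠ μ c' := by
  classical
  have hn1 := h.nu_ne F hx
  have hn2 := F.nne x hx
  have hn3 := F.nmu x hx
  rcases hk with hk | hm
  · obtain ⟨l, hl⟩ : ∃ l : Fin k, l ≠ x.1 := by
      have : Nontrivial (Fin k) := Fin.nontrivial_iff_two_le.2 hk
      exact exists_ne x.1
    obtain ⟨c, hc, hc'⟩ := exists_pt4 h.hm l ({(l, 0)} : Finset (Pt k m)) (by simp)
    rw [Finset.mem_singleton] at hc'
    refine ⟨ν x, c, hn1, hn2, hn3, fun e => hc' (Prod.ext hc e), fun e => hl ?_, fun e => hl ?_, fun e => hl ?_,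
      fun e => hl ?_⟩
    · rw [← hc, e]
    · rw [← hc, e, F.mfst]
    · rw [← hc, ← e, F.nfst]
    · rw [← hc, ← F.mfst c, ← e, F.nfst]
  · obtain ⟨c, hc, hc'⟩ := exists_pt hm x.1 ({(x.1, 0), x, μ x, ν x, μ (ν x)} : Finset (Pt k m))
      (Finset.card_le_five.trans (by norm_num))
    simp only [Finset.mem_insert, Finset.mem_singleton, not_or] at hc'
    refine ⟨ν x, c, hn1, hn2, hn3, fun e => hc'.1 (Prod.ext hc e), hc'.2.1, hc'.2.2.1, fun e => hc'.2.2.2.1 e.symm,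
      fun e => hc'.2.2.2.2 ?_⟩
    rw [e, F.msq]

include h F hx zv in
/-- **LEMMA E over `T̂`, `D` arbitrary** -/
theorem le_hat (hk : 2 ≤ k ∨ 3 ≤ m) {T : Subgroup G} (hTT : tn S M μ x ≤ T) (hTp : IsPGroup 2 T)
    (hTN : T ≤ normalizer (ln (h.line3 (h.tri F hx)) : Set G)) (hTa : T ≤ centralizer ({pr M x (μ x)} : Set G))
    (syl : ¬ 2 ∣ T.relIndex (centralizer ({pr M x (μ x)} : Set G))) (j : Fin 3) :
    ThmA.LE (ln (h.line3 (h.tri F hx))) (pts (pr M x (μ x)) (pr M x (x.1, 0))) j := by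
  classical
  have t := h.tri F hx
  have b := h.httT F hx hTT zv hTp hTN hTa syl
  have B := b.toBTS
  refine ThmA.le_all B.toBT (i := 0) (fun Λ hΛ hN => ?_) j
  by_contra hΛR
  set L := ln (h.line3 (h.tri F hx)) with hL
  set R := pts (pr M x (μ x)) (pr M x (x.1, 0)) with hR
  set r := pr M x (μ x) with hr
  have hrV : r ∈ V := pr_mem M x (μ x)
  have hrr : r * r = 1 := h.Vsq hrV
  have h0 : R 0 = zpowers (pr M x (μ x)) := rfl
  have h1 : R 1 = zpowers (pr M x (x.1, 0)) := rfl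
  have h2 : R 2 = zpowers (pr M (μ x) (x.1, 0)) := by
    show zpowers (dd (pr M x (μ x)) (pr M x (x.1, 0)) 2) = _
    rw [show dd (pr M x (μ x)) (pr M x (x.1, 0)) 2 = pr M (μ x) (x.1, 0) from h.dd_two t]
  have hr1 : r ≠ 1 := h.pr_ne t.pq t.n1
  have hRK : ∀ y ∈ R 0, y = 1 ∨ y = r := fun y hy => (HT.LineOf.mem_zp h.pr_sq).1 hy
  have hrR : r ∈ R 0 := by rw [h0]; exact mem_zpowers r
  -- the normaliser of the point
  have hNr : normalizer (R 0 : Set G) = centralizer ({r} : Set G) := by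
    rw [h0, MinSimple.Basic.normalizer_zpowers_eq (by rw [pow_two]; exact hrr)]
  set K := centralizer ({r} : Set G) with hK
  have hKr : ∀ g ∈ K, g * r = r * g := fun g hg => mem_centralizer_singleton_iff.1 hg
  have hTK : T ≤ K := hTa
  have hTL : T ≤ normalizer (L : Set G) := hTN
  have hLV : L ≤ V := h.ln_le t
  -- `Ξ = R 0 Λ`
  set Ξ := R 0 ⊔ Λ with hΞ
  have hKΞ : K ≤ normalizer (Ξ : Set G) := by
    intro g hg
    have hgR : g ∈ normalizer (R 0 : Set G) := by rw [hNr]; exact hg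
    rw [← cj_eq_self_iff, hΞ, cj_sup, cj_eq_self_iff.2 hgR, cj_eq_self_iff.2 (hN hgR)]
  have hΞm : ∀ l ∈ Ξ, ∃ a' ∈ R 0, a' * l ∈ CenX L R := by
    intro l hl
    have h3 : Ξ ≤ RC B.toBT 0 := by
      refine sup_le (fun a' ha => ⟨a'⁻¹, inv_mem ha, ?_⟩) hΛ
      rw [inv_mul_cancel]
      exact one_mem _
    exact h3 hl
  have hE0 : Ξ ⊓ CenX L R ≠ ⊥ := by
    intro h'
    apply hΛR
    intro y hy
    obtain ⟨a', ha, hm⟩ := hΛ y hy
    have h3 : a' * y ∈ Ξ ⊓ CenX L R :=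
      ⟨mul_mem ((le_sup_left : R 0 ≤ Ξ) ha) ((le_sup_right : Λ ≤ Ξ) hy), hm⟩
    rw [h', mem_bot, mul_eq_one_iff_eq_inv] at h3
    have h4 : y = a'⁻¹ := by rw [h3, inv_inv]
    rw [h4]; exact inv_mem ha
  have hTΞ : T ≤ normalizer ((Ξ ⊓ CenX L R : Subgroup G) : Set G) := by
    intro s hs
    have h3 := B.toBT.NV_le_NCenX (hTL hs)
    rw [← cj_eq_self_iff, cj_inf, cj_eq_self_iff.2 (hKΞ (hTK hs)), cj_eq_self_iff.2 h3]
  have hQT : o2 K ≤ T := HT.LemE.le_of_odd hTp hTa syl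
      (o2_isPGroup _) (o2_le _) (hTK.trans (le_normalizer_o2 _))
  have hCT : Ξ ⊓ CenX L R ≤ T := by
    have h3 : CenX L R ≤ QQ (R 0) := (B.CenX_le_C).trans (iInf_le _ 0)
    have h4 : QQ (R 0) = o2 K := by
      change o2 (normalizer (R 0 : Set G)) = o2 K
      rw [hNr]
    rw [h4] at h3
    exact inf_le_right.trans (h3.trans hQT)
  obtain ⟨f, hf, hf1, hff, hfT⟩ := HT.LemE.exists_inv hTp hE0 hCT hTΞ
  have hfz : f ∈ zc T := mem_zc.2 ⟨hCT hf, fun g hg => (hfT g hg).symm, by rw [pow_two]; exact hff⟩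
  obtain ⟨v, hv, d, hd, hvT, hdT, e⟩ := h.zc_tn_dec F hx zv (h.zcT_le F hx hTT hfz)
  have hfX : f ∈ CenX L R := hf.2
  -- `v = 1`
  by_cases hv1 : v = 1
  · rw [hv1, one_mul] at e
    subst e
    have hff' : f * f = 1 := hff
    have hrf : r * f = f * r := Sit.zz_comm (h.VZ hrV) (mem_DD.1 hd).1
    -- `O₂(C(n d)) ≤ T`
    have hO : o2 (centralizer ({pr M x (μ x) * f} : Set G)) ≤ tn S M μ x := by
      by_contra hcon
      obtain ⟨w, hw⟩ := exists_out hdT hcon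
      obtain ⟨c, c', k1, k2, k3, k4, k5, k6, k7, k8⟩ := exists_two h F hx hk
      refine caseB h F hx hd hdT hw zv k1 k2 k3 k4 k5 k6 k7 k8 hKΞ ((le_sup_left : R 0 ≤ Ξ) hrR) hf.1
        fun l hl => ?_
      obtain ⟨a', ha', hm'⟩ := hΞm l hl
      rcases hRK a' ha' with rfl | rfl
      · left
        rw [one_mul] at hm'
        exact fun y hy => mem_centralizer_iff.1 hm' y hy
      · right
        exact fun y hy => mem_centralizer_iff.1 hm' y hy
    have g1 : GoodA r f := by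
      refine goodA_of h.char2 hff' hf1 hrf fun g hg => ?_
      exact (mem_zc.1 (h.VZ hrV)).2.1 g ((RD.HF_cent h.char2 h.toSit zv hd hf1).1 hg)
    have g2 : GoodA r (r * f) := by
      refine goodA_of h.char2 ?_ ?_ ?_ fun g hg => ?_
      · calc r * f * (r * f) = r * (f * r) * f := by group
          _ = (r * r) * (f * f) := by rw [← hrf]; group
          _ = 1 := by rw [hrr, hff', one_mul]
      · intro e1
        have e2 : r = f⁻¹ := eq_inv_of_mul_eq_one_left e1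
        exact hr1 (h.eq_one_of_DD hrV (by rw [e2]; exact inv_mem hd))
      · rw [← mul_assoc, mul_assoc r f r, ← hrf, ← mul_assoc]
      · exact mem_centralizer_singleton_iff.1 (hO hg).2
    have hi10 : (1 : Fin 3) ≠ 0 := by decide
    have hi20 : (2 : Fin 3) ≠ 0 := by decide
    have hi12 : (1 : Fin 3) ≠ 2 := by decide
    refine bip B.toBT hRK (fun g hg => hKr g (by rwa [hNr] at hg)) hTL (by rw [hNr]; exact syl) ?_
      (by rw [hNr]; exact hKΞ) hΞm hf.1 g1 g2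
    obtain ⟨g, hgN, hgt⟩ := B.toBT.mt 0
    obtain ⟨⟨w, hwL, hw⟩, -⟩ := hgt 1 2 hi10 hi20
    by_contra hcon
    push Not at hcon
    have h3 : pr M x (x.1, 0) ∈ R 2 := by
      have h4 : g * w * g⁻¹ * pr M x (x.1, 0) * (g * w * g⁻¹)⁻¹ = pr M x (x.1, 0) := by
        have h5 := hcon g hgN (pr M x (x.1, 0)) (B.toBT.R_le 1 (by rw [h1]; exact mem_zpowers _)) (g * w * g⁻¹)
          (conj_mem_cj hwL)
        rw [← h5, mul_inv_cancel_right]
      rw [← hw, ← h4]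
      exact conj_mem_cj (by rw [h1]; exact mem_zpowers _)
    have h4 := B.toBT.eq_one hi12 (by rw [h1]; exact mem_zpowers _ : pr M x (x.1, 0) ∈ R 1) h3
    exact h.pr_ne t.pr t.n2 h4
  -- `v ≠ 1`
  have hdX : ∀ y ∈ XX L R, y * d = d * y := fun y hy => h.X_DD t hd hy
  have hvX : ∀ y ∈ XX L R, y * v = v * y := by
    intro y hy
    have h3 := mem_centralizer_iff.1 hfX y hy
    rw [e] at h3
    have h4 : y * v * d = v * y * d := by
      calc y * v * d = y * (v * d) := by group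
        _ = v * d * y := h3
        _ = v * (y * d) := by rw [hdX y hy]; group
        _ = v * y * d := by group
    exact mul_right_cancel h4
  obtain ⟨g, hgN, hgt⟩ := B.toBT.mt 0
  obtain ⟨⟨w0, hw0L, hw0⟩, -⟩ := hgt 1 2 (by decide) (by decide)
  obtain ⟨hx1, hx1P, hx1s⟩ := exists_sw h t.pq t.pr t.n1 t.n2 B.toBT h0 h1 h2 hgN hw0L hw0
  obtain ⟨g', hgN', hgt'⟩ := B.toBT.mt 2
  obtain ⟨⟨w', hw'L, hw'⟩, -⟩ := hgt' 1 0 (by decide) (by decide)
  have h2' : R 2 = zpowers (pr M (x.1, 0) (μ x)) := by rw [h2, pr_comm M t.qr]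
  have h1' : R 1 = zpowers (pr M (x.1, 0) x) := by rw [h1, pr_comm M t.pr]
  have h0' : R 0 = zpowers (pr M (μ x) x) := by rw [h0, pr_comm M t.pq]
  obtain ⟨hx2, hx2P, hx2s⟩ := exists_sw h t.qr.symm t.pr.symm t.n3.symm t.n2.symm B.toBT h2' h1' h0' hgN' hw'L hw'
  have hEf : ∀ y ∈ XX L R, y ∈ P → ∀ p, E M v (pp M y p) = E M v p := fun y hy hyP =>
    (h.comm_iff hyP hv).1 (hvX y hy)
  have hE1 : E M v x = E M v (μ x) := by
    have := hEf _ hx1 hx1P (μ x)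
    rwa [hx1s, Equiv.swap_apply_right] at this
  have hE2 : E M v (μ x) = E M v (x.1, 0) := by
    have := hEf _ hx2 hx2P (x.1, 0)
    rwa [hx2s, Equiv.swap_apply_left] at this
  obtain ⟨p, q, hpq, hpa, hpb, hqa, hqb, hne⟩ := exists_sep (M := M) h.hm1 t.pq t.pr t.n2 t.n3 hv hv1 hE1
    (hE1.trans hE2)
  have npq : p ≠ q := fun e => hne (by rw [e])
  obtain ⟨w, hwp, hwa, hwb, hwp', hwq⟩ := exists_third h.hm (a := x) (b := μ x) (p := p) (q := q)
  -- three duads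
  have m1 : pr M p q ∈ Ξ := by
    refine pr_mem_of h t.pq hpq hpa hpb hqa hqb hKΞ hv hd ?_ hne
    rw [← e]; exact hf.1
  have m2 : pr M q w ∈ Ξ := by
    refine pr_mem_of h t.pq (hpq.symm.trans hwp.symm) hqa hqb hwa hwb hKΞ (pr_mem M p q) (one_mem (DD M)) ?_ ?_
    · rw [mul_one]; exact m1
    · rw [E_pr_right M hpq npq, E_pr_of_ne M hpq hwp' hwq]
      exact one_ne_zero
  have m3 : pr M p w ∈ Ξ := by
    rw [← pr_mul M hpq (hpq.symm.trans hwp.symm)]
    exact mul_mem m1 m2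
  have hgK : g ∈ K := by rw [← hNr]; exact hgN
  have hgr : g * r * g⁻¹ = r := by rw [hKr g hgK, mul_inv_cancel_right]
  have hcase : ∀ y ∈ Ξ, g * y * g⁻¹ ∈ CenX L R ∨ r * (g * y * g⁻¹) ∈ CenX L R := by
    intro y hy
    obtain ⟨a', ha', hm'⟩ := hΞm _ (conj_mem_of_normalizer (hKΞ hgK) hy)
    rcases hRK a' ha' with rfl | rfl
    · rw [one_mul] at hm'; exact Or.inl hm'
    · exact Or.inr hm'
  have hkill : ∀ p q : Pt k m, p.1 = q.1 → p ≠ q → p ≠ x → p ≠ μ x → q ≠ x → q ≠ μ x →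
      g * pr M p q * g⁻¹ ∈ CenX L R → False := fun p q e1 e2 e3 e4 e5 e6 e7 =>
    kill h t.pq e1 e2 e3 e4 e5 e6 B.toBT hLV (by decide : (1 : Fin 3) ≠ 2) hr1 hgr hrR hw0L hw0 e7
  have hrc : ∀ y ∈ V, r * (g * y * g⁻¹) = g * y * g⁻¹ * r := by
    intro y hy
    calc r * (g * y * g⁻¹) = (g * r * g⁻¹) * (g * y * g⁻¹) := by rw [hgr]
      _ = g * (r * y) * g⁻¹ := by group
      _ = g * (y * r) * g⁻¹ := by rw [h.Vcomm hrV hy]
      _ = g * y * g⁻¹ * (g * r * g⁻¹) := by group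
      _ = g * y * g⁻¹ * r := by rw [hgr]
  rcases hcase _ m1 with c1 | c1
  · exact hkill p q hpq npq hpa hpb hqa hqb c1
  rcases hcase _ m2 with c2 | c2
  · exact hkill q w (hpq.symm.trans hwp.symm) hwq.symm hqa hqb hwa hwb c2
  rcases hcase _ m3 with c3 | c3
  · exact hkill p w hwp.symm hwp'.symm hpa hpb hwa hwb c3
  -- `r ∈ C_X`
  have hrX : r ∈ CenX L R := by
    have h3 := mul_mem (mul_mem c1 c2) c3
    have h4 : r * (g * pr M p q * g⁻¹) * (r * (g * pr M q w * g⁻¹)) * (r * (g * pr M p w * g⁻¹)) = r := by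
      have h5 : pr M p q * pr M q w * pr M p w = 1 := by
        rw [pr_mul M hpq (hpq.symm.trans hwp.symm)]
        exact h.Vsq (pr_mem M p w)
      calc r * (g * pr M p q * g⁻¹) * (r * (g * pr M q w * g⁻¹)) * (r * (g * pr M p w * g⁻¹))
          = r * ((g * pr M p q * g⁻¹) * r) * (g * pr M q w * g⁻¹) * (r * (g * pr M p w * g⁻¹)) := by group
        _ = r * (r * (g * pr M p q * g⁻¹)) * (g * pr M q w * g⁻¹) * (r * (g * pr M p w * g⁻¹)) := by
            rw [hrc _ (pr_mem M p q)]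
        _ = (r * r) * (g * (pr M p q * pr M q w) * g⁻¹) * (r * (g * pr M p w * g⁻¹)) := by group
        _ = (g * (pr M p q * pr M q w) * g⁻¹ * r) * (g * pr M p w * g⁻¹) := by rw [hrr]; group
        _ = r * (g * (pr M p q * pr M q w) * g⁻¹) * (g * pr M p w * g⁻¹) := by
            rw [hrc _ (mul_mem (pr_mem M p q) (pr_mem M q w))]
        _ = r * (g * (pr M p q * pr M q w * pr M p w) * g⁻¹) := by group
        _ = r := by rw [h5]; group
    rwa [h4] at h3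
  obtain ⟨y, hy, hyR⟩ := B.toBT.trans_X_one 0 1
  have h3 : y * r * y⁻¹ = r := by rw [mem_centralizer_iff.1 hrX y hy, mul_inv_cancel_right]
  have h4 : r ∈ R 1 := by
    rw [← hyR, ← h3]
    exact conj_mem_cj hrR
  exact hr1 (B.toBT.eq_one (by decide : (0 : Fin 3) ≠ 1) hrR h4)

end thm

end Cfsg.Agent.Omega.IId.SymWrD.Ht.LEHat

end
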