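import Cfsg.Agent.Mrg.Omega.IId.SymWrD.FOneAll
import Cfsg.Agent.Mrg.Omega.NOThreeL.Star
import Cfsg.Agent.Mrg.Omega.IId.Triangle


/-!
# II.d, `SwBig`, `SwCv`, the T-T case, `D` arbitrary: (ZV_D) (bb OMEGA #20093, helper290, #21047, helper916)

`TD S P V M` : the situation `Sit` with F1 for all duads `p`, and one duad `n` with a partner: an element
`w ∈ KK n = {g ∈ C_G(n) : [O₂(C_G(n)), g] ≤ ⟨n⟩}` which acts on `V` as the transposition `t_n`.

* `TD.exists_w` : the partner for all duads;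
* `TD.V_le_o2`, `TD.comm_o2` : `V ≤ O₂(C_G(p))`, `[O₂(C_G(p)), V] ≤ ⟨p⟩`;
* `TD.U_le_Q`, `TD.mem_U` : `Ω₁(Z(O₂(C_G(p)))) ≤ O₂(P)`, `Ω₁(Z(O₂(C_G(p)))) ∩ V = p^⊥`;
* `TD.zz_le_o2`, `TD.zz_swap` : `Ω₁(Z(O₂(P))) ≤ O₂(C_G(p))`, the transpositions act on it as transvections;
* `TD.zvD` : **(ZV_D)** `Ω₁(Z(O₂(P))) = V × D_Z`, `D_Z` centralised by the elements of `P` which preserve the summands,
  and by all `O₂(C_G(p))`.
-/

set_option autoImplicit false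

namespace Cfsg.Agent.Omega.IId.SymWrD.Ht

open Subgroup Pointwise Cfsg Cfsg.Agent.ZN Cfsg.Agent.Omega.MinPar Cfsg.Agent.Omega.FFThm
open Cfsg.Agent.Omega.Half.SymA (Pt E Mv pm Amb0)
open Cfsg.Agent.MinSimple.VModule (mem_zc zc_le zc_comm zc_sq zc_le_zl le_normalizer_o2 o2_isPGroup o2_le le_o2
  normalizer_le_normalizer_zc le_normalizer_zl)
open Triangle (KK KK_conj KK_le_o2 mem_cent mem_KK mem_zpowers_iff_of_sq)

universe u

variable {G : Type u} [Group G]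

/-- `ζ ∈ N` acting trivially on `Ω₁(Z(O₂(N)))` and on `O₂(N)/Ω₁(Z(O₂(N)))` lies in `O₂(N)` -/
theorem mem_o2_of_chain [Finite G] {N : Subgroup G} (hcW : N ⊓ centralizer (o2 N : Set G) ≤ o2 N) {ζ : G} (hζ : ζ ∈ N)
    (h1 : ∀ g ∈ o2 N, g * ζ * g⁻¹ * ζ⁻¹ ∈ zc (o2 N)) (h2 : ∀ u ∈ zc (o2 N), u * ζ = ζ * u) : ζ ∈ o2 N := by
  have hsq : ∀ u ∈ zc (o2 N), u * u = 1 := fun u hu => by rw [← pow_two]; exact zc_sq _ u hu
  let K : Subgroup G :=
    { carrier := {g | g ∈ N ∧ (∀ x ∈ o2 N, x * g * x⁻¹ * g⁻¹ ∈ zc (o2 N)) ∧ ∀ u ∈ zc (o2 N), u * g = g * u}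
      one_mem' := ⟨one_mem _, fun x _ => by
        have : x * 1 * x⁻¹ * 1⁻¹ = (1 : G) := by group
        rw [this]; exact one_mem _, fun u _ => by rw [mul_one, one_mul]⟩
      mul_mem' := by
        rintro a b ⟨ha, ha', ha''⟩ ⟨hb, hb', hb''⟩
        refine ⟨mul_mem ha hb, fun x hx => ?_, fun u hu => by rw [← mul_assoc, ha'' u hu, mul_assoc, hb'' u hu, mul_assoc]⟩
        have e : x * (a * b) * x⁻¹ * (a * b)⁻¹ = (x * a * x⁻¹ * a⁻¹) * (a * (x * b * x⁻¹ * b⁻¹) * a⁻¹) := by group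
        have e2 : a * (x * b * x⁻¹ * b⁻¹) * a⁻¹ = x * b * x⁻¹ * b⁻¹ := by
          rw [← ha'' _ (hb' x hx), mul_inv_cancel_right]
        rw [e, e2]
        exact mul_mem (ha' x hx) (hb' x hx)
      inv_mem' := by
        rintro a ⟨ha, ha', ha''⟩
        have hc : ∀ u ∈ zc (o2 N), u * a⁻¹ = a⁻¹ * u := fun u hu => by
          rw [mul_inv_eq_iff_eq_mul, mul_assoc, ha'' u hu, inv_mul_cancel_left]
        refine ⟨inv_mem ha, fun x hx => ?_, hc⟩
        have e : x * a⁻¹ * x⁻¹ * a⁻¹⁻¹ = a⁻¹ * (x * a * x⁻¹ * a⁻¹)⁻¹ * a := by group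
        have e2 : a⁻¹ * (x * a * x⁻¹ * a⁻¹)⁻¹ * a = (x * a * x⁻¹ * a⁻¹)⁻¹ := by
          rw [← hc _ (inv_mem (ha' x hx)), inv_mul_cancel_right]
        rw [e, e2]
        exact inv_mem (ha' x hx) }
  have hK : ∀ g, g ∈ K ↔ g ∈ N ∧ (∀ x ∈ o2 N, x * g * x⁻¹ * g⁻¹ ∈ zc (o2 N)) ∧ ∀ u ∈ zc (o2 N), u * g = g * u :=
    fun g => Iff.rfl
  refine (le_o2 (fun g hg => ((hK g).1 hg).1) ?_ ?_ : K ≤ o2 N) ((hK ζ).2 ⟨hζ, h1, h2⟩)
  · intro g
    obtain ⟨hgN, hg', hg''⟩ := (hK _).1 g.2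
    have h3 : (g : G) * g ∈ o2 N := by
      refine hcW ⟨mul_mem hgN hgN, mem_centralizer_iff.2 fun x hx => ?_⟩
      have e : x * ((g : G) * g) * x⁻¹ * ((g : G) * g)⁻¹ =
          (x * g * x⁻¹ * (g : G)⁻¹) * (g * (x * g * x⁻¹ * (g : G)⁻¹) * (g : G)⁻¹) := by group
      have e2 : (g : G) * (x * g * x⁻¹ * (g : G)⁻¹) * (g : G)⁻¹ = x * g * x⁻¹ * (g : G)⁻¹ := by
        rw [← hg'' _ (hg' x hx), mul_inv_cancel_right]
      rw [e2, hsq _ (hg' x hx)] at e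
      calc x * ((g : G) * g) = (x * ((g : G) * g) * x⁻¹ * ((g : G) * g)⁻¹) * (((g : G) * g) * x) := by group
        _ = ((g : G) * g) * x := by rw [e, one_mul]
    obtain ⟨j, hj⟩ := (o2_isPGroup N) ⟨(g : G) * g, h3⟩
    refine ⟨j + 1, Subtype.ext ?_⟩
    have h4 := congrArg Subtype.val hj
    rw [SubmonoidClass.coe_pow, OneMemClass.coe_one] at h4 ⊢
    change ((g : G) * g) ^ 2 ^ j = 1 at h4
    rw [pow_succ, mul_comm, pow_mul, pow_two]
    exact h4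
  · intro g hg
    refine MinSimple.VModule.mem_normalizer_of_map_le ?_
    rintro _ ⟨a, ha, rfl⟩
    obtain ⟨haN, ha', ha''⟩ := (hK a).1 ha
    change g * a * g⁻¹ ∈ K
    have hgo : ∀ x ∈ o2 N, g⁻¹ * x * g ∈ o2 N := fun x hx => by
      have := (mem_normalizer_iff.1 (le_normalizer_o2 N (inv_mem hg)) x).1 hx
      rwa [inv_inv] at this
    have hgz : g ∈ normalizer (zc (o2 N) : Set G) := normalizer_le_normalizer_zc _ (le_normalizer_o2 N hg)
    refine (hK _).2 ⟨N.mul_mem (N.mul_mem hg haN) (N.inv_mem hg), fun x hx => ?_, fun u hu => ?_⟩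
    · have e : x * (g * a * g⁻¹) * x⁻¹ * (g * a * g⁻¹)⁻¹ =
          g * ((g⁻¹ * x * g) * a * (g⁻¹ * x * g)⁻¹ * a⁻¹) * g⁻¹ := by group
      rw [e]
      exact (mem_normalizer_iff.1 hgz _).1 (ha' _ (hgo x hx))
    · have h5 : g⁻¹ * u * g ∈ zc (o2 N) := by
        have := (mem_normalizer_iff.1 (inv_mem hgz) u).1 hu
        rwa [inv_inv] at this
      have h6 := ha'' _ h5
      calc u * (g * a * g⁻¹) = g * (g⁻¹ * u * g * a) * g⁻¹ := by group
        _ = g * (a * (g⁻¹ * u * g)) * g⁻¹ := by rw [h6]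
        _ = g * a * g⁻¹ * u := by group

/-- **The T-T case, `D` arbitrary.** -/
structure TD (S : Sylow 2 G) (P V : Subgroup G) {k m : ℕ} (M : SymK (S : Subgroup G) P V ⊥ k m) : Prop extends
    SymWrD.Sit S P V M where
  c2 : IsCharacteristicTwoType G
  Qact : ∀ p q : Pt k m, p.1 = q.1 → p ≠ q → ∀ g ∈ o2 (centralizer ({pr M p q} : Set G)),
    g ∈ P ∧ (pp M g = 1 ∨ pp M g = Equiv.swap p q)
  partner : ∃ p q : Pt k m, p.1 = q.1 ∧ p ≠ q ∧ ∃ w ∈ KK (pr M p q), pp M w = Equiv.swap p q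

variable {S : Sylow 2 G} {P V : Subgroup G} {k m : ℕ} {M : SymK (S : Subgroup G) P V ⊥ k m}

/-- from `SitD`: F1 is proved -/
theorem TD.of_sitD [Finite G] {D : Subgroup G} (hG : IsCharacteristicTwoType G) (h : SitD S P V D M)
    (hw : ∃ p q : Pt k m, p.1 = q.1 ∧ p ≠ q ∧ ∃ w ∈ KK (pr M p q), pp M w = Equiv.swap p q) : TD S P V M where
  toSit := h.toSit
  c2 := hG
  Qact := fun _ _ hpq hne => L_dat h hpq hne
  partner := hw

namespace TD

variable [Finite G] (h : TD S P V M) {p q : Pt k m}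

include h

omit [Finite G] h in
theorem pr_ne (hpq : p.1 = q.1) (hne : p ≠ q) : pr M p q ≠ 1 := by
  intro h0
  have h1 := E_pr_left M hpq hne
  rw [h0, Half.SymA.E_one] at h1
  exact zero_ne_one h1

omit [Finite G] in
theorem pr_sq (p q : Pt k m) : pr M p q * pr M p q = 1 := h.toSit.Vsq (pr_mem M p q)

/-- `C_G(n)` is of characteristic 2 -/
theorem cW (hpq : p.1 = q.1) (hne : p ≠ q) : centralizer ({pr M p q} : Set G) ⊓
    centralizer (o2 (centralizer ({pr M p q} : Set G)) : Set G) ≤ o2 (centralizer ({pr M p q} : Set G)) := by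
  have hn : pr M p q ^ 2 = 1 := by rw [pow_two]; exact h.pr_sq p q
  have hn1 := pr_ne (M := M) hpq hne
  have h1 := MinSimple.Basic.char2_normalizer h.c2 (U := zpowers (pr M p q))
    (IsPGroup.iff_card.2 ⟨1, by rw [Nat.card_zpowers]; exact (orderOf_eq_prime hn hn1).trans (pow_one 2).symm⟩)
    (fun h0 => hn1 (zpowers_eq_bot.1 h0))
  rwa [MinSimple.Basic.normalizer_zpowers_eq hn] at h1

theorem KK_le (hpq : p.1 = q.1) (hne : p ≠ q) : KK (pr M p q) ≤ o2 (centralizer ({pr M p q} : Set G)) :=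
  KK_le_o2 (h.pr_sq p q) (h.cW hpq hne)

/-- the partner for all duads -/
theorem exists_KK (hpq : p.1 = q.1) (hne : p ≠ q) : ∃ w ∈ KK (pr M p q), pp M w = Equiv.swap p q := by
  obtain ⟨a, b, hab, hab', w, hw, hwp⟩ := h.partner
  obtain ⟨g, hg, hg1⟩ := exists_conj_pr h.toSit hab hab' hpq hne
  have hwP : w ∈ P := (h.Qact a b hab hab' w (h.KK_le hab hab' hw)).1
  refine ⟨g * w * g⁻¹, by rw [← hg1]; exact KK_conj hw, ?_⟩
  rw [h.toSit.conj hg hwP, hwp, ← Equiv.swap_apply_apply]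
  exact swap_eq_of_pr (M := M) (h.toSit.fst hg hab) (fun h0 => hab' ((pp M g).injective h0)) hpq hne
    (by rw [← h.toSit.conj_pr hg hab, hg1])

/-- the partner for all duads -/
theorem exists_w (hpq : p.1 = q.1) (hne : p ≠ q) : ∃ w ∈ o2 (centralizer ({pr M p q} : Set G)), w ∈ P ∧
    w * w ∈ o2 P ∧ pp M w = Equiv.swap p q ∧ ∀ g ∈ o2 (centralizer ({pr M p q} : Set G)), w * g * w⁻¹ * g⁻¹ = 1 ∨
      w * g * w⁻¹ * g⁻¹ = pr M p q := by
  obtain ⟨w, hw, hwp⟩ := h.exists_KK hpq hne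
  have hwW := h.KK_le hpq hne hw
  have hwP := (h.Qact p q hpq hne w hwW).1
  refine ⟨w, hwW, hwP, ?_, hwp, fun g hg => ?_⟩
  · refine h.toSit.mem_Q_of_two (o2_isPGroup _) (fun x hx => (h.Qact p q hpq hne x hx).1) (mul_mem hwW hwW) ?_
    rw [h.toSit.mul hwP hwP, hwp, Equiv.swap_mul_self]
  · exact (mem_zpowers_iff_of_sq (h.pr_sq p q)).1 ((mem_KK.1 hw).2 g hg)

/-- `V ≤ O₂(C_G(p))` -/
theorem V_le_o2 (hpq : p.1 = q.1) (hne : p ≠ q) : V ≤ o2 (centralizer ({pr M p q} : Set G)) := by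
  refine le_o2_of_comm h.c2 (by rw [pow_two]; exact h.pr_sq p q) (pr_ne hpq hne)
    (fun u hu => h.toSit.Vcomm hu (pr_mem M p q)) fun x hx u hu => ?_
  obtain ⟨hxP, hx'⟩ := h.Qact p q hpq hne x hx
  rcases (comm_of_swap h.toSit hpq hne hxP hx' hu).1 with h1 | h1
  · left; exact commutatorElement_eq_one_iff_mul_comm.2 h1
  · right; exact h1

/-- `[O₂(C_G(p)), V] ≤ ⟨p⟩` -/
theorem comm_o2 (hpq : p.1 = q.1) (hne : p ≠ q) {g : G} (hg : g ∈ o2 (centralizer ({pr M p q} : Set G))) {v : G}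
    (hv : v ∈ V) : (g * v * g⁻¹ * v⁻¹ = 1 ∨ g * v * g⁻¹ * v⁻¹ = pr M p q) ∧ (E M v p = E M v q → g * v = v * g) := by
  obtain ⟨hxP, hx'⟩ := h.Qact p q hpq hne g hg
  obtain ⟨h1, h2⟩ := comm_of_swap h.toSit hpq hne hxP hx' hv
  refine ⟨?_, h2⟩
  rcases h1 with h1 | h1
  · left; rw [h1]; group
  · right; exact h1

/-- the kernel of `O₂(C_G(p))` on `V` lies in `O₂(P)` -/
theorem mem_Q (hpq : p.1 = q.1) (hne : p ≠ q) {g : G} (hg : g ∈ o2 (centralizer ({pr M p q} : Set G)))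
    (h1 : pp M g = 1) : g ∈ o2 P :=
  h.toSit.mem_Q_of_two (o2_isPGroup _) (fun x hx => (h.Qact p q hpq hne x hx).1) hg h1

/-- `U_p ≤ O₂(P)` -/
theorem U_le_Q (hpq : p.1 = q.1) (hne : p ≠ q) : zc (o2 (centralizer ({pr M p q} : Set G))) ≤ o2 P := by
  intro y hy
  obtain ⟨hyW, hyc, -⟩ := mem_zc.1 hy
  refine h.mem_Q hpq hne hyW ?_
  rw [h.toSit.eq_one_iff (h.Qact p q hpq hne y hyW).1, mem_centralizer_iff]
  intro v hv
  exact hyc v (h.V_le_o2 hpq hne hv)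

/-- `U_p ∩ V = p^⊥` -/
theorem mem_U (hpq : p.1 = q.1) (hne : p ≠ q) {v : G} (hv : v ∈ V) :
    v ∈ zc (o2 (centralizer ({pr M p q} : Set G))) ↔ E M v p = E M v q := by
  constructor
  · intro h1
    obtain ⟨w, hw, -, -, hwp, -⟩ := h.exists_w hpq hne
    have h2 := (mem_zc.1 h1).2.1 w hw
    have h3 := (h.toSit.comm_iff (h.Qact p q hpq hne w hw).1 hv).1 h2 q
    rwa [hwp, Equiv.swap_apply_right] at h3
  · intro h1
    refine mem_zc.2 ⟨h.V_le_o2 hpq hne hv, fun g hg => (h.comm_o2 hpq hne hg hv).2 h1, ?_⟩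
    rw [pow_two]; exact h.toSit.Vsq hv

/-- the elements of `O₂(C_G(p))`, modulo `w` -/
theorem split (hpq : p.1 = q.1) (hne : p ≠ q) {w : G} (hw : w ∈ o2 (centralizer ({pr M p q} : Set G)))
    (hwp : pp M w = Equiv.swap p q) {g : G} (hg : g ∈ o2 (centralizer ({pr M p q} : Set G))) :
    g ∈ o2 P ∨ g * w⁻¹ ∈ o2 P := by
  obtain ⟨hgP, h1 | h1⟩ := h.Qact p q hpq hne g hg
  · left; exact h.mem_Q hpq hne hg h1
  · right
    have hwP := (h.Qact p q hpq hne w hw).1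
    refine h.mem_Q hpq hne (mul_mem hg (inv_mem hw)) ?_
    rw [h.toSit.mul hgP (inv_mem hwP), h.toSit.inv hwP, h1, hwp, mul_inv_cancel]

/-- `Ω₁(Z(O₂(P))) ≤ O₂(C_G(p))` -/
theorem zz_le_o2 (hpq : p.1 = q.1) (hne : p ≠ q) : zc (o2 P) ≤ o2 (centralizer ({pr M p q} : Set G)) := by
  intro ζ hζ
  obtain ⟨w, hw, hwP, hw2, hwp, -⟩ := h.exists_w hpq hne
  have hnV : pr M p q ∈ zc (o2 P) := h.VZ (pr_mem M p q)
  have hζQ := (mem_zc.1 hζ).2.1
  have hζN : ζ ∈ centralizer ({pr M p q} : Set G) := mem_centralizer_singleton_iff.2 (Sit.zz_comm hζ hnV)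
  have hwζ : w * ζ * w⁻¹ ∈ zc (o2 P) := Sit.zz_conj hwP hζ
  -- `c = [w, ζ]`
  have hcZ : w * ζ * w⁻¹ * ζ⁻¹ ∈ zc (o2 P) := mul_mem hwζ (inv_mem hζ)
  have hcW : w * ζ * w⁻¹ * ζ⁻¹ ∈ o2 (centralizer ({pr M p q} : Set G)) := by
    have h1 : ζ * w⁻¹ * ζ⁻¹ ∈ o2 (centralizer ({pr M p q} : Set G)) :=
      (mem_normalizer_iff.1 (le_normalizer_o2 _ hζN) _).1 (inv_mem hw)
    have e : w * ζ * w⁻¹ * ζ⁻¹ = w * (ζ * w⁻¹ * ζ⁻¹) := by group
    rw [e]
    exact mul_mem hw h1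
  have hcw : w * (w * ζ * w⁻¹ * ζ⁻¹) = (w * ζ * w⁻¹ * ζ⁻¹) * w := by
    have h1 := Sit.zz_comm hζ hwζ
    have h2 := hζQ _ hw2
    have hζi : ζ⁻¹ = ζ := inv_eq_of_mul_eq_one_left (Sit.zz_sq hζ)
    rw [hζi]
    calc w * (w * ζ * w⁻¹ * ζ) = (w * w * ζ) * (w * w)⁻¹ * (w * ζ) := by group
      _ = ζ * (w * ζ * w⁻¹) * w := by rw [h2]; group
      _ = w * ζ * w⁻¹ * ζ * w := by rw [h1]
  have hcU : w * ζ * w⁻¹ * ζ⁻¹ ∈ zc (o2 (centralizer ({pr M p q} : Set G))) := by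
    refine mem_zc.2 ⟨hcW, fun g hg => ?_, by rw [pow_two]; exact Sit.zz_sq hcZ⟩
    rcases h.split hpq hne hw hwp hg with h1 | h1
    · exact (mem_zc.1 hcZ).2.1 g h1
    · have h2 := (mem_zc.1 hcZ).2.1 _ h1
      calc g * (w * ζ * w⁻¹ * ζ⁻¹) = g * w⁻¹ * (w * (w * ζ * w⁻¹ * ζ⁻¹)) := by group
        _ = (g * w⁻¹ * (w * ζ * w⁻¹ * ζ⁻¹)) * w := by rw [hcw]; group
        _ = w * ζ * w⁻¹ * ζ⁻¹ * g := by rw [h2]; group
  refine mem_o2_of_chain (h.cW hpq hne) hζN (fun g hg => ?_) (fun u hu => ?_)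
  · rcases h.split hpq hne hw hwp hg with h1 | h1
    · have h2 := hζQ g h1
      have e : g * ζ * g⁻¹ * ζ⁻¹ = 1 := by rw [h2]; group
      rw [e]
      exact one_mem _
    · have h2 := (mem_zc.1 hwζ).2.1 _ h1
      have e : g * ζ * g⁻¹ * ζ⁻¹ = w * ζ * w⁻¹ * ζ⁻¹ := by
        calc g * ζ * g⁻¹ * ζ⁻¹ = (g * w⁻¹ * (w * ζ * w⁻¹)) * (g * w⁻¹)⁻¹ * ζ⁻¹ := by group
          _ = w * ζ * w⁻¹ * ζ⁻¹ := by rw [h2]; group
      rw [e]
      exact hcU
  · exact hζQ u (h.U_le_Q hpq hne hu)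

/-- a transposition acts on `Ω₁(Z(O₂(P)))` as a transvection with centre `⟨p⟩` -/
theorem zz_swap (hpq : p.1 = q.1) (hne : p ≠ q) {ζ : G} (hζ : ζ ∈ zc (o2 P)) {g : G} (hg : g ∈ P)
    (hgp : pp M g = Equiv.swap p q) : g * ζ * g⁻¹ = ζ ∨ g * ζ * g⁻¹ = ζ * pr M p q := by
  obtain ⟨w, hw, hwP, -, hwp, hwc⟩ := h.exists_w hpq hne
  rw [h.toSit.zz_eq hg hwP (hgp.trans hwp.symm) hζ]
  have hn := Sit.zz_comm (P := P) (h.VZ (pr_mem M p q)) hζ
  rcases hwc ζ (h.zz_le_o2 hpq hne hζ) with h1 | h1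
  · left
    rwa [mul_inv_eq_one] at h1
  · right
    rw [← hn, ← h1]
    group

/-- **(ZV_D)**, I -/
theorem zv_dec {ζ : G} (hζ : ζ ∈ zc (o2 P)) : ∃ e ∈ V, ∀ p q : Pt k m, p.1 = q.1 → ∀ g ∈ P, pp M g = Equiv.swap p q →
    g * (ζ * e) = ζ * e * g := by
  classical
  choose t ht htp using fun p : Pt k m => h.toSit.exists_swap (p := (p.1, 0)) (q := p) rfl
  -- the label
  obtain ⟨f, hf⟩ : ∃ f : Pt k m → ZMod 2, ∀ p, f p = if t p * ζ * (t p)⁻¹ = ζ then 0 else 1 := ⟨_, fun _ => rfl⟩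
  have h20 : (2 : ZMod 2) = 0 := rfl
  have hcard : ((2 ^ m + 1 : ℕ) : ZMod 2) = 1 := by
    have hm : m ≠ 0 := by have := h.hm; omega
    rw [Nat.cast_add, Nat.cast_pow, Nat.cast_one, show ((2 : ℕ) : ZMod 2) = 0 from rfl, zero_pow hm, zero_add]
  have hf0 : ∀ i, f (i, 0) = 0 := by
    intro i
    have h1 : pp M (t (i, 0)) = 1 := by rw [htp]; exact Equiv.swap_self _
    have h2 := h.toSit.zz_eq (ht (i, 0)) (one_mem P) (h1.trans h.toSit.one.symm) hζ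
    rw [hf, if_pos (by rw [h2]; group)]
  obtain ⟨e, he, heE⟩ := Half.SymA.exists_E M (fun p => f p + ∑ x, f (p.1, x)) (fun i => by
    rw [Finset.sum_add_distrib]
    dsimp only
    rw [Finset.sum_const, Finset.card_univ, Fintype.card_fin, nsmul_eq_mul, hcard, one_mul]
    exact CharTwo.add_self_eq_zero _)
  have heZ : e ∈ zc (o2 P) := h.VZ he
  -- `t p` commutes with `ζ e`
  have hty : ∀ p : Pt k m, t p * (ζ * e) * (t p)⁻¹ = ζ * e := by
    intro p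
    by_cases hp : (p.1, 0) = p
    · have h1 : pp M (t p) = 1 := by rw [htp, hp]; exact Equiv.swap_self _
      rw [h.toSit.zz_eq (ht p) (one_mem P) (h1.trans h.toSit.one.symm) (mul_mem hζ heZ)]
      group
    · have hEe : E M e (p.1, 0) + E M e p = f p := by
        rw [heE, heE, hf0]
        have : ∀ a b : ZMod 2, 0 + a + (b + a) = b := by decide
        exact this _ _
      have h1 := comm_of_swap h.toSit (p := (p.1, 0)) (q := p) rfl hp (ht p) (Or.inr (htp p)) he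
      by_cases h2 : t p * ζ * (t p)⁻¹ = ζ
      · rw [hf, if_pos h2] at hEe
        have h3 : E M e (p.1, 0) = E M e p := CharTwo.add_eq_zero.1 hEe
        have h4 := h1.2 h3
        calc t p * (ζ * e) * (t p)⁻¹ = (t p * ζ * (t p)⁻¹) * (t p * e * (t p)⁻¹) := by group
          _ = ζ * e := by rw [h2, h4, mul_inv_cancel_right]
      · rw [hf, if_neg h2] at hEe
        have h3 : ¬ t p * e = e * t p := by
          intro h3
          have h4 := (h.toSit.comm_iff (ht p) he).1 h3 p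
          rw [htp, Equiv.swap_apply_right] at h4
          rw [h4, CharTwo.add_self_eq_zero] at hEe
          exact zero_ne_one hEe
        have h4 := h1.1.resolve_left h3
        have h5 := (h.zz_swap (p := (p.1, 0)) (q := p) rfl hp hζ (ht p) (htp p)).resolve_left h2
        rw [commutatorElement_def] at h4
        have h6 : t p * e * (t p)⁻¹ = pr M (p.1, 0) p * e := by rw [← h4]; group
        calc t p * (ζ * e) * (t p)⁻¹ = (t p * ζ * (t p)⁻¹) * (t p * e * (t p)⁻¹) := by group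
          _ = ζ * (pr M (p.1, 0) p * pr M (p.1, 0) p) * e := by rw [h5, h6]; group
          _ = ζ * e := by rw [h.pr_sq, mul_one]
  have hyZ : ζ * e ∈ zc (o2 P) := mul_mem hζ heZ
  refine ⟨e, he, fun p q hpq g hg hgp => ?_⟩
  rw [← mul_inv_eq_iff_eq_mul]
  by_cases hq : q = (p.1, 0)
  · have h1 : pp M g = pp M (t p) := by rw [hgp, htp, hq, Equiv.swap_comm]
    rw [h.toSit.zz_eq hg (ht p) h1 hyZ, hty]
  by_cases hp : p = (p.1, 0)
  · have h1 : pp M g = pp M (t q) := by rw [hgp, htp, ← hpq, ← hp]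
    rw [h.toSit.zz_eq hg (ht q) h1 hyZ, hty]
  by_cases hpq' : p = q
  · have h1 : pp M g = pp M 1 := by rw [hgp, h.toSit.one, hpq', Equiv.swap_self]; rfl
    rw [h.toSit.zz_eq hg (one_mem P) h1 hyZ]
    group
  have h1 : pp M g = pp M (t p * t q * t p) := by
    rw [h.toSit.mul (mul_mem (ht p) (ht q)) (ht p), h.toSit.mul (ht p) (ht q), htp, htp, hgp, ← hpq]
    have h2 := Equiv.swap_apply_apply (Equiv.swap (p.1, 0) p) (p.1, 0) q
    rw [Equiv.swap_apply_left, Equiv.swap_apply_of_ne_of_ne hq (Ne.symm hpq'), Equiv.swap_inv] at h2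
    exact h2
  rw [h.toSit.zz_eq hg (mul_mem (mul_mem (ht p) (ht q)) (ht p)) h1 hyZ]
  calc t p * t q * t p * (ζ * e) * (t p * t q * t p)⁻¹ =
      t p * (t q * (t p * (ζ * e) * (t p)⁻¹) * (t q)⁻¹) * (t p)⁻¹ := by group
    _ = ζ * e := by rw [hty, hty, hty]

/-- **(ZV_D)** -/
theorem zvD {ζ : G} (hζ : ζ ∈ zc (o2 P)) : ∃ v ∈ V, ∃ d ∈ zc (o2 P), ζ = v * d ∧
    (∀ g ∈ P, (∀ p : Pt k m, (pp M g p).1 = p.1) → g * d = d * g) ∧
    ∀ p q : Pt k m, p.1 = q.1 → p ≠ q → ∀ g ∈ o2 (centralizer ({pr M p q} : Set G)), g * d = d * g := by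
  classical
  obtain ⟨e, he, hd⟩ := h.zv_dec hζ
  have hdZ : ζ * e ∈ zc (o2 P) := mul_mem hζ (h.VZ he)
  have hdc : ∀ g ∈ P, (∀ p : Pt k m, (pp M g p).1 = p.1) → g * (ζ * e) = ζ * e * g := by
    -- the permutations whose preimages centralise `ζ e`
    let Ξ : Subgroup (Equiv.Perm (Pt k m)) :=
      { carrier := {π | ∃ g ∈ P, pp M g = π ∧ g * (ζ * e) = ζ * e * g}
        one_mem' := ⟨1, one_mem P, h.toSit.one, by rw [one_mul, mul_one]⟩
        mul_mem' := by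
          rintro _ _ ⟨a, ha, rfl, ha'⟩ ⟨b, hb, rfl, hb'⟩
          exact ⟨a * b, mul_mem ha hb, h.toSit.mul ha hb, by rw [mul_assoc, hb', ← mul_assoc, ha', mul_assoc]⟩
        inv_mem' := by
          rintro _ ⟨a, ha, rfl, ha'⟩
          exact ⟨a⁻¹, inv_mem ha, h.toSit.inv ha, by
            rw [inv_mul_eq_iff_eq_mul, ← mul_assoc, ha', mul_inv_cancel_right]⟩ }
    have hΞ : ∀ π, π ∈ Ξ ↔ ∃ g ∈ P, pp M g = π ∧ g * (ζ * e) = ζ * e * g := fun _ => Iff.rfl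
    have hsw : ∀ p q : Pt k m, p.1 = q.1 → Equiv.swap p q ∈ Ξ := fun p q hpq => by
      obtain ⟨g, hg, hgp⟩ := h.toSit.exists_swap hpq
      exact (hΞ _).2 ⟨g, hg, hgp, hd p q hpq g hg hgp⟩
    have key : ∀ n : ℕ, ∀ π : Equiv.Perm (Pt k m), (∀ p, (π p).1 = p.1) → π.support.card = n → π ∈ Ξ := by
      intro n
      induction n using Nat.strong_induction_on with
      | _ n ih =>
        intro π hπ hn
        by_cases h1 : π = 1
        · rw [h1]; exact one_mem _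
        · obtain ⟨p, hp⟩ : ∃ p, π p ≠ p := by
            by_contra h0
            push Not at h0
            exact h1 (Equiv.ext h0)
          have h2 := Equiv.Perm.card_support_swap_mul hp
          have h3 : Equiv.swap p (π p) * π ∈ Ξ := by
            refine ih _ (hn ▸ h2) _ (fun r => ?_) rfl
            rw [Equiv.Perm.mul_apply]
            have h4 : ∀ r : Pt k m, (Equiv.swap p (π p) r).1 = r.1 := by
              intro r
              rcases eq_or_ne r p with rfl | hr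
              · rw [Equiv.swap_apply_left, hπ]
              · rcases eq_or_ne r (π p) with rfl | hr'
                · rw [Equiv.swap_apply_right, hπ]
                · rw [Equiv.swap_apply_of_ne_of_ne hr hr']
            rw [h4, hπ]
          have h4 := mul_mem (hsw p (π p) (hπ p).symm) h3
          rwa [← mul_assoc, Equiv.swap_mul_self, one_mul] at h4
    intro g hg hgf
    obtain ⟨g', hg', hgg, hc⟩ := (hΞ _).1 (key _ _ hgf rfl)
    rw [← mul_inv_eq_iff_eq_mul, h.toSit.zz_eq hg hg' hgg.symm hdZ, mul_inv_eq_iff_eq_mul]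
    exact hc
  refine ⟨e⁻¹, inv_mem he, ζ * e, hdZ, ?_, hdc, fun p q hpq hne g hg => ?_⟩
  · rw [Sit.zz_comm hζ (h.VZ he), inv_mul_cancel_left]
  · obtain ⟨hgP, hgp⟩ := h.Qact p q hpq hne g hg
    refine hdc g hgP fun r => ?_
    rcases hgp with hgp | hgp
    · rw [hgp]; rfl
    · rw [hgp]
      rcases eq_or_ne r p with rfl | hr
      · rw [Equiv.swap_apply_left, hpq]
      · rcases eq_or_ne r q with rfl | hr'
        · rw [Equiv.swap_apply_right, hpq]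
        · rw [Equiv.swap_apply_of_ne_of_ne hr hr']

end TD

end Cfsg.Agent.Omega.IId.SymWrD.Ht
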