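import Cfsg.Agent.Mrg.Omega.IId.SymWrD.Ht.Fr
import Cfsg.Agent.Mrg.Omega.HOneTwo.Basic
import Cfsg.Agent.Mrg.Omega.HT.Main


/-!
# II.d, `SwBig` and `SwCv`, T-T, `D` arbitrary: the line `{1, pq, pr, qr}` of three points of one summand

Copy of `SymWr/Ht/Line.lean` (helper916).

* `Tri p q r` : three different points of one summand; `Fr.line3` : `Ln (pr M p q) (pr M p r)`;
* `Fr.bt3` : the structure `BT`; `X3 h t = ⟨V_l^{C(x)} : x ∈ V_l#⟩`;
* `Fr.X_le_P`, `Fr.X_fix`, `Fr.X_comm` : `X ≤ P` moves only the points `p, q, r` and centralises the `v ∈ V` which are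
  constant on them;
* `tn S M μ x = C_S(x μ(x))`; hypothesis `zv` : `Ω₁Z(O₂(P)) ≤ V ⊔ DD M`;
* `Fr.zc_tn_dec` : `z ∈ Ω₁Z(T)` is `v * d`, `v ∈ V`, `d ∈ DD M` commuting with `T`; `Fr.fix_mu`, `Fr.fix_zero` : `v`
  is constant on the `S`-pairs, `0` on the fixed points;
* `Fr.hdec` : `Ω₁Z(T) = ⟨n⟩ Z₀`.
-/

set_option autoImplicit false
set_option linter.unusedSectionVars false

namespace Cfsg.Agent.Omega.IId.SymWrD.Ht

open Subgroup Cfsg Cfsg.Agent.Omega.MinPar Cfsg.Agent.Omega.FFThm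
open Cfsg.Agent.ZN (o2 zc)
open Cfsg.Agent.Omega.Half (Amb amb_of_loc)
open Cfsg.Agent.Omega.Half.SymA (Pt E Mv pm)
open Cfsg.Agent.Omega.HT.LineOf (Ln ln pts dd)
open Cfsg.Agent.Omega.BTwo (BT XX WW QQ O2)
open Cfsg.Agent.Omega.IId.Triangle (KK mem_KK KK_conj KK_le_o2)
open Cfsg.Agent.MinSimple.VModule (le_normalizer_o2 o2_isPGroup o2_le mem_zc zc_le)

universe u

variable {G : Type u} [Group G] {k m : ℕ}

/-- three different points of one summand -/
structure Tri (p q r : Pt k m) : Prop where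
  pq : p.1 = q.1
  pr : p.1 = r.1
  n1 : p ≠ q
  n2 : p ≠ r
  n3 : q ≠ r

namespace Tri

variable {p q r : Pt k m} (t : Tri p q r)
include t

theorem qr : q.1 = r.1 := t.pq.symm.trans t.pr

end Tri

namespace Fr

variable {S : Sylow 2 G} {P V D : Subgroup G} {M : SymK (S : Subgroup G) P V ⊥ k m} (h : Fr S P V D M)
  {p q r : Pt k m}
include h

/-- the line of three points -/
theorem line3 (t : Tri p q r) : Ln (pr M p q) (pr M p r) where
  aa := h.pr_sq
  bb := h.pr_sq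
  comm := h.Vcomm (pr_mem M _ _) (pr_mem M _ _)
  a1 := h.pr_ne t.pq t.n1
  b1 := h.pr_ne t.pr t.n2
  ne := fun e => by
    have h1 : E M (pr M p q) q = 1 := E_pr_right M t.pq t.n1
    rw [e, E_pr_of_ne M t.pr t.n1.symm t.n3] at h1
    exact zero_ne_one h1

theorem dd_two (t : Tri p q r) : pr M p q * pr M p r = pr M q r := by
  rw [pr_comm M t.pq, pr_mul M t.pq.symm t.pr]

/-- the three points -/
theorem dd_cases (t : Tri p q r) (i : Fin 3) : ∃ a b c : Pt k m, a.1 = b.1 ∧ a.1 = c.1 ∧ a ≠ b ∧ a ≠ c ∧ b ≠ c ∧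
    dd (pr M p q) (pr M p r) i = pr M a b ∧ (∃ j, dd (pr M p q) (pr M p r) j = pr M a c) ∧
    (a = p ∨ a = q ∨ a = r) ∧ (b = p ∨ b = q ∨ b = r) := by
  fin_cases i
  · exact ⟨p, q, r, t.pq, t.pr, t.n1, t.n2, t.n3, rfl, ⟨1, rfl⟩, Or.inl rfl, Or.inr (Or.inl rfl)⟩
  · exact ⟨p, r, q, t.pr, t.pq, t.n2, t.n1, t.n3.symm, rfl, ⟨0, rfl⟩, Or.inl rfl, Or.inr (Or.inr rfl)⟩
  · refine ⟨q, r, p, t.qr, t.pq.symm, t.n3, t.n1.symm, t.n2.symm, h.dd_two t, ⟨0, pr_comm M t.pq⟩,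
      Or.inr (Or.inl rfl), Or.inr (Or.inr rfl)⟩

theorem dd_mem_V (t : Tri p q r) (i : Fin 3) : dd (pr M p q) (pr M p r) i ∈ V := by
  obtain ⟨a, b, c, -, -, -, -, -, e, -⟩ := h.dd_cases t i
  rw [e]; exact pr_mem M a b

theorem ln_le (t : Tri p q r) : ln (h.line3 t) ≤ V := by
  rintro x (rfl | ⟨i, rfl⟩)
  · exact one_mem _
  · exact h.dd_mem_V t i

variable [Finite G]

/-- the structure `BT` -/
theorem bt3 (t : Tri p q r) : BT (ln (h.line3 t)) (pts (pr M p q) (pr M p r)) := by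
  refine (h.line3 t).bt (fun i => ?_) (fun i g hg j => ?_) (fun i => ?_)
  · obtain ⟨a, b, c, e1, -, e2, -, -, e, -⟩ := h.dd_cases t i
    rw [e]
    exact (h.ln_le t).trans (h.V_le e1 e2)
  · obtain ⟨a, b, c, e1, -, e2, -, -, e, -⟩ := h.dd_cases t i
    rw [e] at hg
    rw [(h.line3 t).mem_pts, e]
    rcases h.comm_mem e1 e2 hg (h.dd_mem_V t j) with h1 | h1
    · left; rw [h1, mul_inv_cancel]
    · right
      rw [h1, h.Vcomm (h.dd_mem_V t j) (pr_mem M a b), mul_inv_cancel_right]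
  · obtain ⟨a, b, c, e1, e1', e2, e2', e3, e, ⟨j, hj⟩, -⟩ := h.dd_cases t i
    obtain ⟨s, hs, h1⟩ := h.exists_h e1 e2
    have hE : E M (pr M a c) a ≠ E M (pr M a c) b := by
      rw [E_pr_left M e1' e2', E_pr_of_ne M e1' e2.symm e3]
      exact one_ne_zero
    obtain ⟨⟨h2, h3⟩, -⟩ := h1 _ (pr_mem M a c) hE
    refine ⟨s, by rw [e]; exact hs, j, j, fun h4 => ?_⟩
    rw [hj] at h4
    have h5 := h.conj_swap (h.Qle e1 e2 (h.KK_le e1 e2 h2)) e1 h3 (pr_mem M a c) hE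
    rw [mul_inv_eq_iff_eq_mul] at h5
    rw [h4] at h5
    have h6 : s * pr M a c * s⁻¹ = pr M a b * (s * pr M a c * s⁻¹) := by
      apply mul_left_cancel (a := pr M a c)
      rw [h5, mul_assoc]
    have h7 : pr M a b = 1 := by
      have := mul_right_cancel (h6.symm.trans (one_mul _).symm)
      exact this
    exact h.pr_ne e1 e2 h7

/-- `X` -/
noncomputable abbrev X3 (h : Fr S P V D M) (t : Tri p q r) : Subgroup G := XX (ln (h.line3 t)) (pts (pr M p q) (pr M p r))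

/-- `X` lies in every subgroup containing the `O₂(C_G(x))` -/
theorem X_le (t : Tri p q r) {H : Subgroup G}
    (hH : ∀ a b : Pt k m, (a = p ∨ a = q ∨ a = r) → (b = p ∨ b = q ∨ b = r) → a.1 = b.1 → a ≠ b →
      o2 (centralizer ({pr M a b} : Set G)) ≤ H) : h.X3 t ≤ H := by
  refine iSup_le fun i => ?_
  obtain ⟨a, b, c, e1, -, e2, -, -, e, -, ha, hb⟩ := h.dd_cases t i
  refine ((h.bt3 t).W_le_Q i).trans ?_
  show O2 (normalizer (pts (pr M p q) (pr M p r) i : Set G)) ≤ H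
  rw [(h.line3 t).normalizer_pts i, e]
  exact hH a b ha hb e1 e2

theorem X_le_P (t : Tri p q r) : h.X3 t ≤ P := h.X_le t fun _ _ _ _ h1 h2 => h.Qle h1 h2

/-- `X` moves only `p, q, r` -/
theorem X_fix (t : Tri p q r) {g : G} (hg : g ∈ h.X3 t) {s : Pt k m} (h1 : s ≠ p) (h2 : s ≠ q) (h3 : s ≠ r) :
    pp M g s = s := by
  let H : Subgroup G :=
    { carrier := {g | g ∈ P ∧ pp M g s = s}
      one_mem' := ⟨one_mem _, by rw [h.one]; rfl⟩
      mul_mem' := by
        rintro a b ⟨ha, ha1⟩ ⟨hb, hb1⟩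
        refine ⟨mul_mem ha hb, ?_⟩
        rw [h.mul ha hb, Equiv.Perm.mul_apply, hb1, ha1]
      inv_mem' := by
        rintro a ⟨ha, ha1⟩
        refine ⟨inv_mem ha, ?_⟩
        rw [h.inv ha, Equiv.Perm.inv_eq_iff_eq, ha1] }
  have hle : h.X3 t ≤ H := by
    refine h.X_le t fun a b ha hb e1 e2 y hy => ⟨h.Qle e1 e2 hy, ?_⟩
    have hsa : s ≠ a := by rcases ha with rfl | rfl | rfl <;> assumption
    have hsb : s ≠ b := by rcases hb with rfl | rfl | rfl <;> assumption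
    rcases h.Qpp e1 e2 hy with e | e
    · rw [e]; rfl
    · rw [e, Equiv.swap_apply_of_ne_of_ne hsa hsb]
  exact (hle hg).2

/-- `X` centralises the elements of `V` which are constant on `p, q, r` -/
theorem X_comm (t : Tri p q r) {v : G} (hv : v ∈ V) (h1 : E M v p = E M v q) (h2 : E M v p = E M v r) {g : G}
    (hg : g ∈ h.X3 t) : g * v = v * g := by
  have hle : h.X3 t ≤ centralizer ({v} : Set G) := by
    refine h.X_le t fun a b ha hb e1 e2 y hy => ?_
    rw [mem_centralizer_singleton_iff]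
    refine h.perp_comm e1 e2 hy hv ?_
    have key : ∀ c, (c = p ∨ c = q ∨ c = r) → E M v c = E M v p := by
      rintro c (rfl | rfl | rfl)
      · rfl
      · exact h1.symm
      · exact h2.symm
    rw [key a ha, key b hb]
  exact mem_centralizer_singleton_iff.1 (hle hg)

/-- `X` preserves the summands -/
theorem X_fst (t : Tri p q r) {g : G} (hg : g ∈ h.X3 t) (s : Pt k m) : (pp M g s).1 = s.1 := by
  have hgP := h.X_le_P t hg
  -- a point of the summand which is fixed, or the summand of `p`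
  let H : Subgroup G :=
    { carrier := {g | g ∈ P ∧ ∀ s, (pp M g s).1 = s.1}
      one_mem' := ⟨one_mem _, fun s => by rw [h.one]; rfl⟩
      mul_mem' := by
        rintro a b ⟨ha, ha1⟩ ⟨hb, hb1⟩
        refine ⟨mul_mem ha hb, fun s => ?_⟩
        rw [h.mul ha hb, Equiv.Perm.mul_apply, ha1, hb1]
      inv_mem' := by
        rintro a ⟨ha, ha1⟩
        refine ⟨inv_mem ha, fun s => ?_⟩
        have h1 := ha1 ((pp M a)⁻¹ s)
        rw [show pp M a ((pp M a)⁻¹ s) = s from (pp M a).apply_symm_apply s] at h1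
        rw [h.inv ha]
        exact h1.symm }
  have hle : h.X3 t ≤ H := by
    refine h.X_le t fun a b _ _ e1 e2 y hy => ⟨h.Qle e1 e2 hy, fun s => ?_⟩
    rcases h.Qpp e1 e2 hy with e | e
    · rw [e]; rfl
    · rw [e]
      by_cases h1 : s = a
      · rw [h1, Equiv.swap_apply_left, e1]
      by_cases h2 : s = b
      · rw [h2, Equiv.swap_apply_right, e1]
      · rw [Equiv.swap_apply_of_ne_of_ne h1 h2]
  exact (hle hg).2 s

/-- `X` centralises `DD M` -/
theorem X_DD (t : Tri p q r) {d : G} (hd : d ∈ DD M) {g : G} (hg : g ∈ h.X3 t) : g * d = d * g :=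
  (mem_DD.1 hd).2 g (h.X_le_P t hg) (h.X_fst t hg)

end Fr

/-! ### `T = C_S(n)` -/

/-- `C_S(x μ(x))` -/
def tn (S : Sylow 2 G) {P V : Subgroup G} (M : SymK (S : Subgroup G) P V ⊥ k m) (μ : Equiv.Perm (Pt k m))
    (x : Pt k m) : Subgroup G := (S : Subgroup G) ⊓ centralizer ({pr M x (μ x)} : Set G)

namespace Fr

variable {S : Sylow 2 G} {P V D : Subgroup G} {M : SymK (S : Subgroup G) P V ⊥ k m} (h : Fr S P V D M)
  {μ ν : Equiv.Perm (Pt k m)} (F : Fours M μ ν) {x : Pt k m} (hx : x.2 ≠ 0)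
include h F hx

/-- the points `x`, `μ x`, `0` -/
theorem tri : Tri x (μ x) (x.1, 0) where
  pq := (F.mfst x).symm
  pr := rfl
  n1 := (F.mne x hx).symm
  n2 := fun e => hx (congrArg Prod.snd e)
  n3 := fun e => hx (F.mnz.1 (congrArg Prod.snd e))

theorem tn_pp {s : G} (hs : s ∈ tn S M μ x) : (pp M s x = x ∧ pp M s (μ x) = μ x) ∨
    (pp M s x = μ x ∧ pp M s (μ x) = x) := by
  have t := h.tri F hx
  have hsP := h.SP hs.1
  have h1 := (h.comm_iff hsP (pr_mem M x (μ x))).1 (mem_centralizer_singleton_iff.1 hs.2)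
  have key : ∀ c, E M (pr M x (μ x)) c = 1 → c = x ∨ c = μ x := by
    intro c hc
    by_contra hcon
    push Not at hcon
    rw [E_pr_of_ne M t.pq hcon.1 hcon.2] at hc
    exact zero_ne_one hc
  have h2 := key _ ((h1 x).trans (E_pr_left M t.pq t.n1))
  have h3 := key _ ((h1 (μ x)).trans (E_pr_right M t.pq t.n1))
  rcases h2 with h2 | h2
  · exact Or.inl ⟨h2, h3.resolve_left fun e => t.n1 ((pp M s).injective (h2.trans e.symm))⟩
  · exact Or.inr ⟨h2, h3.resolve_right fun e => t.n1 ((pp M s).injective (h2.trans e.symm))⟩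

omit h F hx in
theorem zero_eq {y z : Pt k m} (h1 : y.1 = z.1) (h2 : y.2 = 0) : y = (z.1, 0) := Prod.ext h1 h2

/-- the fixed point of `S` in the summand is fixed -/
theorem tn_zero {s : G} (hs : s ∈ tn S M μ x) : pp M s (x.1, 0) = (x.1, 0) := by
  have hsP := h.SP hs.1
  have h1 : (pp M s (x.1, 0)).2 = 0 := (h.snd hs.1).2 rfl
  have h2 : (pp M s (x.1, 0)).1 = (pp M s x).1 := h.fst hsP rfl
  have h3 : (pp M s x).1 = x.1 := by
    rcases h.tn_pp F hx hs with e | e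
    · rw [e.1]
    · rw [e.1, F.mfst]
  exact Prod.ext (h2.trans h3) h1

/-- `T` normalises the line -/
theorem tn_norm [Finite G] : tn S M μ x ≤ normalizer (ln (h.line3 (h.tri F hx)) : Set G) := by
  have t := h.tri F hx
  intro s hs
  have hsP := h.SP hs.1
  refine BTwo.mem_normalizer_of_conj ?_
  have h0 := h.tn_zero F hx hs
  have e0 : dd (pr M x (μ x)) (pr M x (x.1, 0)) 0 = pr M x (μ x) := rfl
  have e1 : dd (pr M x (μ x)) (pr M x (x.1, 0)) 1 = pr M x (x.1, 0) := rfl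
  have e2 : dd (pr M x (μ x)) (pr M x (x.1, 0)) 2 = pr M (μ x) (x.1, 0) := h.dd_two t
  rintro y (rfl | ⟨i, rfl⟩)
  · left; group
  · right
    have k0 : s * pr M x (μ x) * s⁻¹ = pr M (pp M s x) (pp M s (μ x)) := h.conj_pr hsP t.pq
    have k1 : s * pr M x (x.1, 0) * s⁻¹ = pr M (pp M s x) (pp M s (x.1, 0)) := h.conj_pr hsP t.pr
    have k2 : s * pr M (μ x) (x.1, 0) * s⁻¹ = pr M (pp M s (μ x)) (pp M s (x.1, 0)) := h.conj_pr hsP t.qr
    rw [h0] at k1 k2
    rcases h.tn_pp F hx hs with ⟨a1, a2⟩ | ⟨a1, a2⟩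
    · rw [a1, a2] at k0
      rw [a1] at k1
      rw [a2] at k2
      fin_cases i
      · exact ⟨0, k0⟩
      · exact ⟨1, k1⟩
      · refine ⟨2, ?_⟩
        show s * dd (pr M x (μ x)) (pr M x (x.1, 0)) 2 * s⁻¹ = _
        rw [e2, k2]
    · rw [a1, a2, pr_comm M t.pq.symm] at k0
      rw [a1] at k1
      rw [a2] at k2
      fin_cases i
      · exact ⟨0, k0⟩
      · refine ⟨2, ?_⟩
        rw [e2]; exact k1
      · refine ⟨1, ?_⟩
        show s * dd (pr M x (μ x)) (pr M x (x.1, 0)) 2 * s⁻¹ = _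
        rw [e2, k2, e1]

theorem V_le_tn : V ≤ tn S M μ x := fun _ hv =>
  ⟨h.VS hv, mem_centralizer_singleton_iff.2 (h.Vcomm hv (pr_mem M _ _))⟩

theorem Q_le_tn : o2 P ≤ tn S M μ x := fun y hy => by
  refine ⟨h.QS hy, mem_centralizer_singleton_iff.2 ?_⟩
  have h1 : y ∈ centralizer (V : Set G) := by
    have := h.Q_eq ▸ hy
    exact this.2
  exact (mem_centralizer_iff.1 h1 _ (pr_mem M _ _)).symm

/-- the elements of `T` acting as `(c μ(c))` -/
theorem exists_swap [Finite G] {c : Pt k m} (hc : c.2 ≠ 0) : ∃ s ∈ tn S M μ x, pp M s = Equiv.swap c (μ c) := by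
  have hmem : Equiv.swap c (μ c) ∈ F.FA := by
    intro y
    by_cases h1 : y = c
    · rw [h1, Equiv.swap_apply_left]; exact Or.inr rfl
    by_cases h2 : y = μ c
    · rw [h2, Equiv.swap_apply_right, F.msq]; exact Or.inr rfl
    · rw [Equiv.swap_apply_of_ne_of_ne h1 h2]; exact Or.inl rfl
  obtain ⟨s, hs, e⟩ := Fours.exists_A h.toSit F hmem
  refine ⟨s, ⟨hs.1, mem_centralizer_singleton_iff.2 (h.comm_pr (h.SP hs.1) (F.mfst x).symm ?_)⟩, e⟩
  rw [e]
  by_cases h1 : x = c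
  · right
    rw [← h1, Equiv.swap_apply_left, Equiv.swap_apply_right]
    exact ⟨rfl, rfl⟩
  by_cases h2 : x = μ c
  · right
    have h3 : c = μ x := by rw [h2, F.msq]
    rw [← h3, ← h2, Equiv.swap_apply_right, Equiv.swap_apply_left]
    exact ⟨rfl, rfl⟩
  · left
    have h3 : μ x ≠ c := fun e => h2 (by rw [← e, F.msq])
    have h4 : μ x ≠ μ c := fun e => h1 (μ.injective e)
    exact ⟨Equiv.swap_apply_of_ne_of_ne h1 h2, Equiv.swap_apply_of_ne_of_ne h3 h4⟩

/-- an element of `V` commuting with `T` is constant on the pairs -/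
theorem fix_mu [Finite G] {v : G} (hv : v ∈ V) (hT : ∀ s ∈ tn S M μ x, s * v = v * s) (c : Pt k m) :
    E M v (μ c) = E M v c := by
  by_cases hc : c.2 = 0
  · rw [F.mzero c hc]
  obtain ⟨s, hs, e⟩ := h.exists_swap F hx hc
  have h1 := (h.comm_iff (h.SP hs.1) hv).1 (hT s hs) c
  rwa [e, Equiv.swap_apply_left] at h1

/-- an element of `V` commuting with `T` is `0` on the fixed points -/
theorem fix_zero [Finite G] {v : G} (hv : v ∈ V) (hT : ∀ s ∈ tn S M μ x, s * v = v * s) (i : Fin k) :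
    E M v (i, 0) = 0 := by
  have h1 : ∑ y, E M v (i, y) = 0 := M.even v hv i
  have h2 : ∑ y ∈ Finset.univ.erase (0 : Fin (2 ^ m + 1)), E M v (i, y) = 0 := by
    refine Finset.sum_involution (fun y _ => (μ (i, y)).2) ?_ ?_ ?_ ?_
    · intro y _
      have e : ((i, (μ (i, y)).2) : Pt k m) = μ (i, y) := Prod.ext (F.mfst (i, y)).symm rfl
      rw [e, h.fix_mu F hx hv hT]
      exact CharTwo.add_self_eq_zero _
    · intro y hy hne e
      have hy0 : ((i, y) : Pt k m).2 ≠ 0 := (Finset.mem_erase.1 hy).1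
      exact F.mne (i, y) hy0 (Prod.ext (F.mfst (i, y)) e)
    · intro y hy
      have hy0 : ((i, y) : Pt k m).2 ≠ 0 := (Finset.mem_erase.1 hy).1
      exact Finset.mem_erase.2 ⟨fun e => hy0 (F.mnz.1 e), Finset.mem_univ _⟩
    · intro y hy
      have e : ((i, (μ (i, y)).2) : Pt k m) = μ (i, y) := Prod.ext (F.mfst (i, y)).symm rfl
      show (μ (i, (μ (i, y)).2)).2 = y
      rw [e, F.msq]
  rw [← Finset.add_sum_erase _ _ (Finset.mem_univ (0 : Fin (2 ^ m + 1))), h2, add_zero] at h1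
  exact h1

/-- an involution centralising `O₂(P)` lies in `Ω₁Z(O₂(P))` -/
theorem mem_zc_of {z : G} (hz : z * z = 1) (hQ : ∀ y ∈ o2 P, y * z = z * y) : z ∈ zc (o2 P) :=
  mem_zc.2 ⟨h.cQ (mem_centralizer_iff.2 fun y hy => hQ y hy), fun y hy => hQ y hy, by rw [pow_two]; exact hz⟩

theorem zc_tn_le : zc (tn S M μ x) ≤ zc (o2 P) := fun z hz => by
  have h1 := mem_zc.1 hz
  exact h.mem_zc_of F hx (by rw [← pow_two]; exact h1.2.2) fun y hy => h1.2.1 y (h.Q_le_tn F hx hy)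

omit F hx in
/-- `DD M` is normalised by `P` -/
theorem DD_conj {g d : G} (hg : g ∈ P) (hd : d ∈ DD M) : g * d * g⁻¹ ∈ DD M := by
  have h1 := mem_DD.1 hd
  refine mem_DD.2 ⟨Sit.zz_conj hg h1.1, fun y hy hy1 => ?_⟩
  have hgi := inv_mem hg
  have h2 := h1.2 (g⁻¹ * y * g) (mul_mem (mul_mem hgi hy) hg) fun r => ?_
  · calc y * (g * d * g⁻¹) = g * (g⁻¹ * y * g * d) * g⁻¹ := by group
      _ = g * (d * (g⁻¹ * y * g)) * g⁻¹ := by rw [h2]
      _ = g * d * g⁻¹ * y := by group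
  · have e : pp M (g⁻¹ * y * g) = (pp M g)⁻¹ * pp M y * pp M g := by
      rw [h.mul (mul_mem hgi hy) hg, h.mul hgi hy, h.inv hg]
    rw [e, Equiv.Perm.mul_apply, Equiv.Perm.mul_apply]
    have h3 : ((pp M y) (pp M g r)).1 = (pp M g r).1 := hy1 _
    have h4 := h.fst hgi h3
    rw [h.inv hg] at h4
    rw [h4, show (pp M g)⁻¹ (pp M g r) = r from (pp M g).symm_apply_apply r]

omit F hx in
/-- `V ∩ DD M = 1` -/
theorem eq_one_of_DD {v : G} (hv : v ∈ V) (hd : v ∈ DD M) : v = 1 := by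
  classical
  refine Half.SymA.inj M hv (one_mem V) fun r => ?_
  rw [Half.SymA.E_one M]
  -- all coordinates in a summand are equal
  have key : ∀ s t : Pt k m, s.1 = t.1 → E M v s = E M v t := by
    intro s t hst
    obtain ⟨g, hg, hgp⟩ := h.exists_pp (π := Equiv.swap s t) fun p => by
      by_cases h1 : p = s
      · rw [h1, Equiv.swap_apply_left, hst]
      by_cases h2 : p = t
      · rw [h2, Equiv.swap_apply_right, hst]
      · rw [Equiv.swap_apply_of_ne_of_ne h1 h2]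
    have h1 := (mem_DD.1 hd).2 g hg fun p => by
      rw [hgp]
      by_cases h1 : p = s
      · rw [h1, Equiv.swap_apply_left, hst]
      by_cases h2 : p = t
      · rw [h2, Equiv.swap_apply_right, hst]
      · rw [Equiv.swap_apply_of_ne_of_ne h1 h2]
    have h2 := (h.comm_iff hg hv).1 h1 t
    rw [hgp, Equiv.swap_apply_right] at h2
    exact h2
  have h1 : ∑ y, E M v (r.1, y) = 0 := M.even v hv r.1
  have h2 : ∑ y, E M v (r.1, y) = ∑ _y : Fin (2 ^ m + 1), E M v r :=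
    Finset.sum_congr rfl fun y _ => key _ _ rfl
  rw [h2, Finset.sum_const, Finset.card_univ, Fintype.card_fin] at h1
  have h3 : (2 ^ m + 1) • E M v r = E M v r := by
    rw [add_smul, one_smul, nsmul_eq_mul]
    have h4 : ((2 ^ m : ℕ) : ZMod 2) = 0 := by
      rw [ZMod.natCast_eq_zero_iff]
      exact dvd_pow_self 2 (by have := h.hm1; omega)
    rw [h4, zero_mul, zero_add]
  rwa [h3] at h1

variable (zv : zc (o2 P) ≤ V ⊔ DD M)
include zv

omit F hx in
/-- `Ω₁Z(O₂(P)) = V × DD M` -/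
theorem zz_dec {z : G} (hz : z ∈ zc (o2 P)) : ∃ v ∈ V, ∃ d ∈ DD M, z = v * d := by
  have hn : (DD M : Subgroup G) ≤ normalizer (V : Set G) := by
    intro d hd
    have h1 : d ∈ P := o2_le P (zc_le _ (mem_DD.1 hd).1)
    exact h.amb.HV h1
  obtain ⟨d, hd, v, hv, rfl⟩ := mem_sup_norm hn (by rw [sup_comm]; exact zv hz)
  exact ⟨v, hv, d, hd, Sit.zz_comm (mem_DD.1 hd).1 (h.VZ hv)⟩

/-- the components of an element of `Ω₁Z(T)` commute with `T` -/
theorem zc_tn_dec {z : G} (hz : z ∈ zc (tn S M μ x)) : ∃ v ∈ V, ∃ d ∈ DD M,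
    (∀ s ∈ tn S M μ x, s * v = v * s) ∧ (∀ s ∈ tn S M μ x, s * d = d * s) ∧ z = v * d := by
  obtain ⟨v, hv, d, hd, e⟩ := h.zz_dec zv (h.zc_tn_le F hx hz)
  have key : ∀ s ∈ tn S M μ x, s * v * s⁻¹ = v ∧ s * d * s⁻¹ = d := by
    intro s hs
    have hsP := h.SP hs.1
    have h1 := (mem_zc.1 hz).2.1 s hs
    have h2 : s * v * s⁻¹ * (s * d * s⁻¹) = v * d := by
      rw [← e]
      calc s * v * s⁻¹ * (s * d * s⁻¹) = s * (v * d) * s⁻¹ := by group
        _ = z := by rw [← e, h1]; group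
    have hv' := h.amb.conj_mem hsP hv
    have hd' := h.DD_conj hsP hd
    have h3 : v⁻¹ * (s * v * s⁻¹) = d * (s * d * s⁻¹)⁻¹ := by
      rw [inv_mul_eq_iff_eq_mul, ← mul_assoc, ← h2]
      group
    have h4 : v⁻¹ * (s * v * s⁻¹) = 1 :=
      h.eq_one_of_DD (mul_mem (inv_mem hv) hv') (by rw [h3]; exact mul_mem hd (inv_mem hd'))
    have h5 : s * v * s⁻¹ = v := (inv_mul_eq_one.1 h4).symm
    refine ⟨h5, ?_⟩
    rw [h5] at h2
    exact mul_left_cancel h2
  exact ⟨v, hv, d, hd, fun s hs => mul_inv_eq_iff_eq_mul.1 (key s hs).1,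
    fun s hs => mul_inv_eq_iff_eq_mul.1 (key s hs).2, e⟩

/-- `Ω₁Z(T) = ⟨n⟩ Z₀` -/
theorem hdec [Finite G] {z : G} (hz : z ∈ zc (tn S M μ x)) : ∃ v ∈ ln (h.line3 (h.tri F hx)), ∃ c,
    (∀ y ∈ h.X3 (h.tri F hx), y * c = c * y) ∧ (∀ t ∈ tn S M μ x, t * c = c * t) ∧ z = v * c := by
  have t := h.tri F hx
  obtain ⟨v, hv, d, hd, hvT, hdT, rfl⟩ := h.zc_tn_dec F hx zv hz
  have h0 := h.fix_zero F hx hv hvT x.1
  have h1 := h.fix_mu F hx hv hvT x
  have hdX : ∀ y ∈ h.X3 t, y * d = d * y := fun y hy => h.X_DD t hd hy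
  have hmulc : ∀ {y a b : G}, y * a = a * y → y * b = b * y → y * (a * b) = a * b * y := by
    intro y a b h2 h3
    rw [← mul_assoc, h2, mul_assoc, h3, mul_assoc]
  by_cases hE : E M v x = 0
  · refine ⟨1, one_mem _, v * d, fun y hy => ?_, fun s hs => ?_, (one_mul _).symm⟩
    · exact hmulc (h.X_comm t hv h1.symm (by rw [hE, h0]) hy) (hdX y hy)
    · exact hmulc (hvT s hs) (hdT s hs)
  · have hE1 : E M v x = 1 := by
      have : ∀ y : ZMod 2, y ≠ 0 → y = 1 := by decide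
      exact this _ hE
    have hn := pr_mem M x (μ x)
    have hV := mul_mem hn hv
    have hadd := Half.SymA.E_mul M hn hv
    refine ⟨pr M x (μ x), (h.line3 t).dd_mem 0, pr M x (μ x) * v * d, fun y hy => hmulc (h.X_comm t hV ?_ ?_ hy)
      (hdX y hy), ?_, ?_⟩
    · rw [hadd, hadd, E_pr_left M t.pq t.n1, E_pr_right M t.pq t.n1, h1]
    · rw [hadd, hadd, E_pr_left M t.pq t.n1, E_pr_of_ne M t.pq t.n2.symm t.n3.symm, h0, hE1]
      decide
    · intro s hs
      exact hmulc (hmulc (mem_centralizer_singleton_iff.1 hs.2) (hvT s hs)) (hdT s hs)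
    · rw [← mul_assoc, ← mul_assoc, h.pr_sq, one_mul]

end Fr

end Cfsg.Agent.Omega.IId.SymWrD.Ht
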